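import Cfsg.Agent.Fusion.OrderPFive.Chain
import Cfsg.Agent.Fusion.AbelianIndexPShape
import Cfsg.Agent.Fusion.Hyperfocal

/-!
Automizers stabilizing chains, extension to normalizers, and criteria at the sites of Alperin's theorem
for maps that move points inside a subgroup over the derived subgroup.
-/

set_option autoImplicit false
set_option linter.style.haveILetI false
set_option linter.unusedSectionVars false

namespace Cfsg.Lib.Fusion.OrderPFive

open Cfsg Cfsg.FusionSystem Cfsg.Lib.Fusion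
open scoped commutatorElement

universe u

variable {Ω : Type u} [Group Ω] {S : Subgroup Ω} {F : FusionSystem S} {p : ℕ}
  [Finite S] [hp : Fact p.Prime] {Q : Subgroup Ω} {C : ℕ → Subgroup Q} {n : ℕ}

theorem pow_eq_one_of_mem_autS (hS : IsPGroup p S) {β : MulAut Q} (hβ : β ∈ autInducedBy S Q) :
    ∃ k : ℕ, β ^ p ^ k = 1 := by
  obtain ⟨k, hk⟩ := isPGroup_autInducedBy hS Q ⟨β, hβ⟩
  exact ⟨k, congrArg Subtype.val hk⟩

/-- A flag: all factors have order `p`. -/
def IsFlag (p : ℕ) (C : ℕ → Subgroup Q) (n : ℕ) : Prop :=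
  ∀ i < n, (∀ j ∈ C (i + 1), ∀ h ∈ C i, j * h * j⁻¹ ∈ C i) ∧ Nat.card (C (i + 1)) = p * Nat.card (C i)

theorem triv_of_flag (hS : IsPGroup p S) (hQ : Q ≤ S) (hC : IsChain C n) (hfl : IsFlag p C n)
    {β : MulAut Q} (hβ : β ∈ autInducedBy S Q) (hk : Keep C n β) : Triv C n β := fun i hi =>
  haveI := finite_of_le hQ
  step_of_pElem (hC.mono i hi) (hfl i hi).1 (hfl i hi).2 (hk (i + 1) hi) (hk i hi.le)
    (pow_eq_one_of_mem_autS hS hβ)

/-- The chain stabilizer in the automizer is the induced group when it contains it. -/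
theorem mem_autS_of_triv (hS : IsPGroup p S) (hfa : F.IsFullyAutomized p Q) (hC : IsChain C n)
    (hP : ∀ β ∈ autInducedBy S Q, Triv C n β) {α : MulAut Q} (hα : α ∈ F.autGroup Q)
    (ht : Triv C n α) : α ∈ autInducedBy S Q := by
  haveI := finite_of_le hfa.1
  obtain ⟨hQ, R, hR⟩ := hfa
  set K := (stab hC).subgroupOf (F.autGroup Q)
  have hKp : IsPGroup p K := ((isPGroup_stab (hS.to_le hQ) hC).of_injective
    (MonoidHom.mk' (fun x : K => (⟨((x : F.autGroup Q) : MulAut Q), x.2⟩ : stab hC)) fun _ _ => rfl)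
    fun a b h => Subtype.ext (Subtype.ext (congrArg Subtype.val h :)))
  have hle : (R : Subgroup (F.autGroup Q)) ≤ K := by
    rw [hR]
    exact fun β hβ => hP _ hβ
  have he := R.3 hKp hle
  have hmem : (⟨α, hα⟩ : F.autGroup Q) ∈ K := ht
  rw [he, hR] at hmem
  exact hmem

/-- An automorphism keeping a chain stabilized by the induced group normalizes the induced group. -/
theorem normalize_of_keep (hS : IsPGroup p S) (hfa : F.IsFullyAutomized p Q) (hC : IsChain C n)
    (hP : ∀ β ∈ autInducedBy S Q, Triv C n β) {α : MulAut Q} (hα : α ∈ F.autGroup Q)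
    (hk : Keep C n α) : ∀ β ∈ autInducedBy S Q, α * β * α⁻¹ ∈ autInducedBy S Q := fun β hβ =>
  haveI := finite_of_le hfa.1
  mem_autS_of_triv hS hfa hC hP (Subgroup.mul_mem _ (Subgroup.mul_mem _ hα
    (autInducedBy_le hfa.1 hβ)) (Subgroup.inv_mem _ hα)) ((hP β hβ).conj hC hk)

/-- The stabilizer of an invariant chain lies in the induced group. -/
theorem mem_autS_of_triv_invariant (hS : IsPGroup p S) (hfa : F.IsFullyAutomized p Q) (hC : IsChain C n)
    (hk : ∀ α ∈ F.autGroup Q, Keep C n α) {α : MulAut Q} (hα : α ∈ F.autGroup Q)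
    (ht : Triv C n α) : α ∈ autInducedBy S Q := by
  haveI := finite_of_le hfa.1
  obtain ⟨χ, hχ, hχK⟩ := exists_conj_into_autS hfa
    ((isPGroup_stab (hS.to_le hfa.1) hC).to_le (inf_le_left : stab hC ⊓ F.autGroup Q ≤ _)) inf_le_right
  have hmem : χ⁻¹ * α * χ⁻¹⁻¹ ∈ stab hC ⊓ F.autGroup Q :=
    ⟨Triv.conj hC (hk _ (Subgroup.inv_mem _ hχ)) ht, Subgroup.mul_mem _ (Subgroup.mul_mem _
      (Subgroup.inv_mem _ hχ) hα) (Subgroup.inv_mem _ (Subgroup.inv_mem _ hχ))⟩
  have h := hχK _ hmem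
  rwa [inv_inv, show χ * (χ⁻¹ * α * χ) * χ⁻¹ = α by group] at h

/-- An automorphism normalizing the induced group extends to the normalizer. -/
theorem extend_of_normalize (hS : IsPGroup p S) (hF : F.IsSaturated p) (hQ : F.IsFullyNormalized Q)
    {α : MulAut Q} (hα : α ∈ F.autGroup Q)
    (hn : ∀ β ∈ autInducedBy S Q, α * β * α⁻¹ ∈ autInducedBy S Q) :
    ∃ β ∈ F.autGroup (normalizerIn S Q), ∀ x ∈ Q, autFun β x = autFun α x :=
  by
  have hrec := (fullyNormalized_props hS hF hQ).2.2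
  have hQ := hrec.1
  have hm : IsMap F Q (autFun α) := (isMap_autFun hQ).mpr hα
  have hle : normalizerIn S Q ≤ extSub S Q (autFun α) := by
    intro g hg
    obtain ⟨h, hh, eh⟩ := mem_autInducedBy.mp
      (hn _ (conjAut_mem_autInducedBy (P := Q) hg.2 hg.1))
    refine ⟨hg.1, hg.2, h, hh, fun x hx => ?_⟩
    have e1 : g * x * g⁻¹ = autFun (conjAut Q g hg.2) x := by
      rw [autFun_apply_mem _ hx, conjAut_apply]
    rw [e1, ← autFun_mul _ _ hx,
      show α * conjAut Q g hg.2 = (α * conjAut Q g hg.2 * α⁻¹) * α by group,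
      autFun_mul _ _ hx, autFun_apply_mem _ (autFun_mem α hx), eh ⟨_, autFun_mem α hx⟩]
  obtain ⟨f, hf, hag⟩ := receptive_extend hrec hm (img_autFun α)
  have hi : img Q f = Q := (img_congr hag).trans (img_autFun α)
  have hfN := hf.mono hle
  have : Finite (normalizerIn S Q) := finite_of_le inf_le_left
  have hiN : img (normalizerIn S Q) f = normalizerIn S Q := by
    refine Subgroup.eq_of_le_of_card_ge (IsMap.img_le_iff.mpr fun t ht => ?_) hfN.card_img.ge
    have h1 := hfN.mem_normalizerIn (le_normalizerIn hQ) ht ht.2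
    rwa [hi] at h1
  obtain ⟨β, hβ, eβ⟩ := hfN.exists_aut hiN
  exact ⟨β, hβ, fun x hx => (eβ x (le_normalizerIn hQ hx)).trans (hag x hx)⟩

/-- The automizer of an essential subgroup does not normalize the induced group. -/
theorem not_normalize_of_essential (hS : IsPGroup p S) (hF : F.IsSaturated p) (hQ : F.IsEssential p Q)
    (hn : ∀ α ∈ F.autGroup Q, ∀ β ∈ autInducedBy S Q, α * β * α⁻¹ ∈ autInducedBy S Q) : False := by
  have hQS := EssentialGen.lt_of_essential hS hF hQ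
  have hrad := radical_of_stronglyEmbedded hS hQ
  obtain ⟨β, hβ, hβI⟩ := exists_noninner hS hQS (hQ.1.2 Q (isConj_refl hQS.le))
  haveI := finite_of_le hQS.le
  set K := (autInducedBy S Q).subgroupOf (F.autGroup Q)
  have hK : K.Normal := ⟨fun b hb a => hn a a.2 b hb⟩
  have hKp : IsPGroup p K := (isPGroup_autInducedBy hS Q).of_injective
    (Subgroup.subgroupOfEquivOfLe (autInducedBy_le (F := F) hQS.le)).toMonoidHom
    (Subgroup.subgroupOfEquivOfLe (autInducedBy_le (F := F) hQS.le)).injective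
  refine hβI (hrad.2.le ⟨⟨β, autInducedBy_le hQS.le hβ⟩, ?_, rfl⟩)
  exact (le_sSup ⟨hK, hKp⟩ : K ≤ pCore p (F.autGroup Q)) hβ

/-- A subgroup moved by central elements only lies in an essential subgroup preserving the centre. -/
theorem le_of_central_step (hS : IsPGroup p S) (hQ : F.IsEssential p Q) {R Z : Subgroup Ω} (hRS : R ≤ S)
    (hn : S ≤ Subgroup.normalizer (R : Set Ω)) (hZc : ∀ z ∈ Z, ∀ s ∈ S, s * z = z * s)
    (hinv : ∀ α ∈ F.autGroup Q, ∀ z : Q, (z : Ω) ∈ Z → ((α z : Q) : Ω) ∈ Z)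
    (hR : ∀ r ∈ R, ∀ s ∈ S, s⁻¹ * (r * s * r⁻¹) ∈ Z) : R ≤ Q :=
  le_of_chain_radical hS hQ hRS hn hinv fun g hg _ q hq =>
    ⟨hR g hg q (hQ.1.1 hq), fun hqZ => by rw [hZc q hqZ g (hRS hg), mul_inv_cancel_right]⟩

/-! ### Maps moving points inside a subgroup over the derived subgroup -/

/-- The maps moving each point inside `Y`. -/
def Moves (Y : Subgroup Ω) (P : Subgroup Ω) (f : Ω → Ω) : Prop := ∀ x ∈ P, f x * x⁻¹ ∈ Y

theorem isMapClass_moves {Y : Subgroup Ω} (hY : ∀ a ∈ S, ∀ b ∈ S, ⁅a, b⁆ ∈ Y) :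
    IsMapClass F (Moves Y) where
  conj P g hP hg := fun x hx => by simpa [commutatorElement_def] using hY g hg x (hP hx)
  congr P f f' _ e h := fun x hx => (e x hx).symm ▸ h x hx
  mono P R f _ hR h := fun x hx => h x (hR hx)
  comp P R f g _ _ hfR h h' := fun x hx => by
    have := Y.mul_mem (h' (f x) (hfR x hx)) (h x hx)
    rwa [mul_assoc, inv_mul_cancel_left] at this
  inv P f g hf _ hl h := fun y hy => by
    obtain ⟨x, hx, rfl⟩ := hf.mem_img.mp hy
    rw [hl x hx]
    simpa using Y.inv_mem (h x hx)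

variable {Y : Subgroup Ω} (hY : ∀ a ∈ S, ∀ b ∈ S, ⁅a, b⁆ ∈ Y)
include hY

/-- At a site the automorphisms are good once the conjugates of the induced ones are. -/
theorem moves_of_commutators (hS : IsPGroup p S) (hF : F.IsSaturated p) (hQS : Q < S)
    (hQn : F.IsFullyNormalized Q) (hQc : F.IsCentric Q)
    (hIH : ∀ (T : Subgroup Ω) (f : Ω → Ω), Nat.card Q < Nat.card T → IsMap F T f → Moves Y T f)
    (h : ∀ α ∈ F.autGroup Q, ∀ g ∈ normalizerIn S Q, ∀ q ∈ Q, autFun α (g * q * g⁻¹ * q⁻¹) ∈ Y) :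
    ∀ α ∈ F.autGroup Q, Moves Y Q (autFun α) := by
  have hΦ := isMapClass_moves (F := F) hY
  obtain ⟨-, hfa, hrec⟩ := fullyNormalized_props hS hF hQn
  haveI := finite_of_le hQS.le
  haveI := finite_mulAut (Q := Q)
  obtain ⟨β₀, hβ₀, hβ₀I⟩ := exists_noninner hS hQS (hQc.2 Q (isConj_refl hQS.le))
  set Good := (goodAut F (Moves Y) hΦ Q hQS.le).subgroupOf (F.autGroup Q)
  obtain ⟨R, hR⟩ := hfa.2
  set N := Subgroup.normalClosure ((R : Subgroup (F.autGroup Q)) : Set (F.autGroup Q))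
  have hRN : (R : Subgroup (F.autGroup Q)) ≤ N := Subgroup.subset_normalClosure
  have hN : N ≤ Good := by
    refine (Subgroup.closure_le _).mpr fun b hb => ?_
    obtain ⟨a, ha, hab⟩ := Group.mem_conjugatesOfSet_iff.mp hb
    obtain ⟨c, rfl⟩ := _root_.isConj_iff.mp hab
    rw [hR, SetLike.mem_coe, Subgroup.mem_subgroupOf] at ha
    obtain ⟨g, hg, eg⟩ := mem_autInducedBy.mp ha
    refine ⟨(c * a * c⁻¹).2, fun x hx => ?_⟩
    have hq := autFun_mem (c : MulAut Q)⁻¹ hx
    have hgn := mem_normalizer_of_mem_autInducedBy eg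
    have h1 := h c c.2 g ⟨hg, hgn⟩ _ hq
    have hm := (isMap_autFun (F := F) hQS.le).mpr c.2
    rw [hm.map_mul (conj_mem_of_mem_normalizer hgn hq) (Q.inv_mem hq), hm.map_inv hq,
      autFun_inv_apply _ hx] at h1
    show autFun ((c : MulAut Q) * (a : MulAut Q) * (c : MulAut Q)⁻¹) x * x⁻¹ ∈ Y
    rw [autFun_mul _ _ hx, autFun_mul _ _ hq, autFun_apply_mem (a : MulAut Q) hq, eg]
    exact h1
  have hnorm : Subgroup.normalizer ((R : Subgroup (F.autGroup Q)) : Set (F.autGroup Q)) ≤ Good := by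
    intro a ha
    refine good_of_conj (p := p) hΦ hQS.le hrec hIH a.2 hβ₀ hβ₀I ?_
    have := (Subgroup.mem_normalizer_iff.mp ha ⟨β₀, autInducedBy_le hQS.le hβ₀⟩).mp
      (by rw [hR]; exact hβ₀)
    rw [hR] at this
    exact this
  intro α hα
  have htop : Subgroup.normalizer ((R : Subgroup (F.autGroup Q)) : Set (F.autGroup Q)) ⊔ N = ⊤ := by
    have h1 := Sylow.normalizer_sup_eq_top (R.subtype hRN)
    rwa [Sylow.coe_subtype, Subgroup.subgroupOf_map_subtype, inf_eq_left.mpr hRN] at h1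
  have hmem : (⟨α, hα⟩ : F.autGroup Q) ∈ Good := (htop ▸ sup_le hnorm hN : ⊤ ≤ Good) (Subgroup.mem_top _)
  exact hmem.2

/-- At a site where the induced group is normal all automorphisms are good. -/
theorem moves_of_normalize (hS : IsPGroup p S) (hF : F.IsSaturated p) (hQS : Q < S)
    (hQn : F.IsFullyNormalized Q) (hQc : F.IsCentric Q)
    (hIH : ∀ (T : Subgroup Ω) (f : Ω → Ω), Nat.card Q < Nat.card T → IsMap F T f → Moves Y T f)
    (hn : ∀ α ∈ F.autGroup Q, ∀ β ∈ autInducedBy S Q, α * β * α⁻¹ ∈ autInducedBy S Q) :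
    ∀ α ∈ F.autGroup Q, Moves Y Q (autFun α) := by
  obtain ⟨β₀, hβ₀, hβ₀I⟩ := exists_noninner hS hQS (hQc.2 Q (isConj_refl hQS.le))
  exact fun α hα => (good_of_conj (p := p) (isMapClass_moves hY) hQS.le
    (fullyNormalized_props hS hF hQn).2.2 hIH hα hβ₀ hβ₀I (hn α hα β₀ hβ₀)).2

/-- The hyperfocal subgroup lies in `Y` once all maps move points inside it. -/
theorem hyperfocal_le_of_moves (hYS : ∀ y ∈ Y, y ∈ S)
    (h : ∀ (P : Subgroup Ω) (f : Ω → Ω), IsMap F P f → Moves Y P f) : F.hyperfocalSubgroup p ≤ Y := by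
  refine (hyperfocalSubgroup_le_focalSubgroup F p).trans (focalSubgroup_le_iff.mpr fun P f hf x hx => ?_)
  have h1 := h P f hf x hx
  have h2 := Y.mul_mem (hY x⁻¹ (S.inv_mem (hf.le hx)) _ (hYS _ h1)) h1
  convert h2 using 1
  simp only [commutatorElement_def]
  group

end Cfsg.Lib.Fusion.OrderPFive
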