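import Cfsg.Agent.Fusion.OrderPFive.AbelianTorus

/-!
Abelian essential subgroups of order `p ^ 3` occur only for `p = 3` and a centre of order `3`.
-/

set_option autoImplicit false
set_option linter.style.haveILetI false
set_option linter.unusedSectionVars false
set_option linter.unusedVariables false

namespace Cfsg.Lib.Fusion.OrderPFive

open Subgroup Cfsg Cfsg.FusionSystem Cfsg.Lib.Fusion
open scoped commutatorElement

universe u

variable {Ω : Type u} [Group Ω] {S : Subgroup Ω} {F : FusionSystem S} {p : ℕ} [Finite S] [hp : Fact p.Prime]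
  {E : Subgroup Ω} {A M : Subgroup S} {e x : S}

theorem center_le_A (R : Tri p (E.subgroupOf S) A M ((normalizerIn S E).subgroupOf S) e x)
    (T : Five p S) : center S ≤ A := fun z hz =>
  mem_A_of_central R T fun n _ => (mem_center_iff.1 hz n).symm

theorem not_mem_of_center_sq (R : Tri p (E.subgroupOf S) A M ((normalizerIn S E).subgroupOf S) e x)
    (T : Five p S) (hA : A = center S) : ⁅⁅e, x⁆, x⁆ ∉ zpowers ⁅⁅e, x⁆, e⁆ := by
  intro h
  haveI := R.normalM; haveI := R.normalN
  set y := ⁅e, x⁆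
  set c := ⁅y, e⁆
  obtain ⟨k, hk⟩ := mem_powers_iff_mem_zpowers.2 h
  change c ^ k = ⁅y, x⁆ at hk
  set x' := x * e ^ (k * (p - 1))
  have hx' : Commute y x' := commutatorElement_eq_one_iff_mul_comm.1 (by
    rw [Cfsg.Lib.PGroups.mul_right_commutator, Cfsg.Lib.PGroups.commutator_pow_right_of_commute (R.c_central T e),
      ((R.c_central T x).pow_left _).symm.eq, mul_inv_cancel_right, ← hk, ← pow_add,
      show k + k * (p - 1) = p * k by
        obtain ⟨q, rfl⟩ : ∃ q, p = q + 1 := ⟨p - 1, by have := hp.out.pos; omega⟩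
        rw [Nat.add_sub_cancel]; ring, pow_mul, R.c_pow T, one_pow])
  have hx'N : x' ∉ (normalizerIn S E).subgroupOf S := fun h1 => R.xN (by
    have h2 := mul_mem h1 (inv_mem (pow_mem (R.e_mem_N T) (k * (p - 1))))
    rwa [mul_inv_cancel_right] at h2)
  have hpN : x' ^ p ∈ (normalizerIn S E).subgroupOf S :=
    pow_mem_of_card le_top (by rw [card_top, T.card, R.cardN]; ring) (mem_top x')
  have hpM : x' ^ p ∈ M := by
    obtain ⟨u, hu, i, hi⟩ := exists_mul_pow ((R.N_eq T).ge hpN)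
    have h1 : ⁅y, e ^ i * u⁆ = 1 := commutatorElement_eq_one_iff_mul_comm.2 (hi ▸ (hx'.pow_right p)).eq
    rw [commutator_mul_right (R.commM T (R.y_mem_M T) hu),
      Cfsg.Lib.PGroups.commutator_pow_right_of_commute (R.c_central T e)] at h1
    obtain ⟨d, rfl⟩ : p ∣ i := by
      rw [← orderOf_eq_prime (R.c_pow T) (R.c_ne T)]
      exact orderOf_dvd_of_pow_eq_one h1
    rw [hi, pow_mul, R.exp e R.eE, one_pow, one_mul]
    exact hu
  have hxM : x' ∉ M := fun h1 => hx'N (R.M_le_N h1)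
  refine T.nab (M ⊔ zpowers x') (fun a ha b hb => ?_)
    (by rw [card_sup_zpowers hxM hpM, R.cardM]; ring)
  have hM : ∀ u ∈ M, Commute u x' := fun u hu => by
    haveI := R.normalA
    obtain ⟨a0, ha0, r, rfl⟩ := exists_mul_pow ((R.M_eq T).ge hu)
    exact (hx'.pow_left r).mul_left (mem_center_iff.1 (hA ▸ ha0) x').symm
  obtain ⟨u, hu, i, rfl⟩ := exists_mul_pow ha
  obtain ⟨v, hv, j, rfl⟩ := exists_mul_pow hb
  exact (((Commute.pow_pow_self x' i j).mul_left ((hM u hu).pow_right j)).mul_right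
    (((hM v hv).symm.pow_left i).mul_left (R.commM T hu hv))).eq

theorem tri_eq_i {μ : ZMod p} (hμ : μ ≠ 0) {σ : MulAut S} {l : S} {i ν m : ℕ}
    (R : Tri p (E.subgroupOf S) A M ((normalizerIn S E).subgroupOf S) e x) (T : Five p S)
    (W : TriWts σ A ((normalizerIn S E).subgroupOf S) e x l i ν m μ.val) (hm : (m : ZMod p) = μ ^ 2) :
    (i : ZMod p) = μ⁻¹ ∧ (ν : ZMod p) = μ ^ 3 := by
  have h1 := R.eq_mi T W
  have h2 := R.eq_iν T W
  push_cast [ZMod.natCast_zmod_val, hm] at h1 h2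
  have hi : (i : ZMod p) = μ⁻¹ := by
    refine (eq_inv_of_mul_eq_one_right (mul_left_cancel₀ hμ ?_))
    rw [← mul_assoc, ← pow_two, h1, mul_one]
  refine ⟨hi, ?_⟩
  rw [hi] at h2
  field_simp at h2
  rw [h2]

/-- The contradiction outside `p = 3` with a centre of order `3`. -/
theorem three_of_abelian (hS : IsPGroup p S) (hF : F.IsSaturated p) (T : Five p S) (hp2 : p ≠ 2)
    (hE : F.IsEssential p E) (hab : ∀ a ∈ E, ∀ b ∈ E, a * b = b * a) (hc : Nat.card E = p ^ 3)
    (R : Tri p (E.subgroupOf S) A M ((normalizerIn S E).subgroupOf S) e x) :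
    p = 3 ∧ Nat.card (center S) = p := by
  have h2 : (2 : ZMod p) ≠ 0 := fun h => hp2 ((Nat.prime_dvd_prime_iff_eq hp.out Nat.prime_two).1
    ((ZMod.natCast_eq_zero_iff 2 p).1 (by exact_mod_cast h)))
  rcases T.card_center with hZ | hZ
  · refine ⟨?_, hZ⟩
    obtain ⟨σ, -, l, i, ν, m, W, hm, -⟩ := exists_torus_abelian hS hF T hE hab hc R h2
    have h1 := (tri_eq_i h2 R T W hm).2
    rw [R.eq_ν T W hZ, ZMod.natCast_zmod_val] at h1
    have h6 : ((6 : ℕ) : ZMod p) = 0 := by
      push_cast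
      linear_combination -h1
    obtain h | h := hp.out.dvd_mul.1 ((ZMod.natCast_eq_zero_iff (2 * 3) p).1 h6)
    · exact absurd ((Nat.prime_dvd_prime_iff_eq hp.out Nat.prime_two).1 h) hp2
    · exact (Nat.prime_dvd_prime_iff_eq hp.out Nat.prime_three).1 h
  · exfalso
    have hA : A = center S := (eq_of_le_of_card_ge (center_le_A R T) (by rw [R.cardA, hZ])).symm
    have hμ : (-1 : ZMod p) ≠ 0 := neg_ne_zero.2 one_ne_zero
    obtain ⟨σ, -, l, i, ν, m, W, hm, -⟩ := exists_torus_abelian hS hF T hE hab hc R hμ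
    have h3 := R.eq_mν T W (not_mem_of_center_sq R T hA)
    push_cast [hm, (tri_eq_i hμ R T W hm).2] at h3
    refine h2 ?_
    linear_combination -h3

end Cfsg.Lib.Fusion.OrderPFive
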