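import Cfsg.Agent.Fusion.OrderPFive.Five

/-!
An elementary abelian subgroup of order `p ^ 3` with normalizer of order `p ^ 4` in a group of order
`p ^ 5`: the weights of an automorphism acting on it as a torus.
-/

set_option autoImplicit false
set_option linter.style.haveILetI false
set_option linter.unusedSectionVars false

namespace Cfsg.Lib.Fusion.OrderPFive

open Subgroup
open scoped commutatorElement

universe u

variable {X : Type u} [Group X] {p : ℕ}

/-- The configuration. -/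
structure Tri (p : ℕ) (E A M N : Subgroup X) (e x : X) : Prop where
  cardE : Nat.card E = p ^ 3
  cardA : Nat.card A = p ^ 2
  cardM : Nat.card M = p ^ 3
  cardN : Nat.card N = p ^ 4
  normalA : A.Normal
  normalM : M.Normal
  normalN : N.Normal
  A_le_M : A ≤ M
  M_le_N : M ≤ N
  A_le_E : A ≤ E
  E_le_N : E ≤ N
  centA : ∀ a ∈ A, ∀ g ∈ N, Commute a g
  exp : ∀ a ∈ E, a ^ p = 1
  self : ∀ g, (∀ a ∈ E, Commute g a) → g ∈ E
  eE : e ∈ E
  eM : e ∉ M
  xN : x ∉ N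
  moved : ⁅e, x⁆ ∉ E

/-- The exponents of an automorphism on the configuration. -/
structure TriWts (σ : MulAut X) (A N : Subgroup X) (e x l : X) (i ν m μ : ℕ) : Prop where
  we : ∃ a ∈ A, σ e = e ^ i * a
  wx : ∃ n ∈ N, σ x = x ^ ν * n
  wy : ∃ a ∈ A, σ ⁅e, x⁆ = ⁅e, x⁆ ^ m * a
  wc : σ ⁅⁅e, x⁆, e⁆ = ⁅⁅e, x⁆, e⁆ ^ μ
  lA : l ∈ A
  lc : l ∉ zpowers ⁅⁅e, x⁆, e⁆
  wl : σ l = l

namespace Tri

variable [Finite X] [hp : Fact p.Prime] {E A M N : Subgroup X} {e x : X}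
  (R : Tri p E A M N e x) (T : Five p X)
include R T

theorem e_mem_N : e ∈ N := R.E_le_N R.eE

theorem y_mem_M : ⁅e, x⁆ ∈ M := by
  haveI := R.normalM; haveI := R.normalN
  exact comm_mem_of_step' T.isP R.M_le_N (by rw [R.cardN, R.cardM]; ring) (R.e_mem_N T) x

theorem y_not_A : ⁅e, x⁆ ∉ A := fun h => R.moved (R.A_le_E h)

theorem M_eq : A ⊔ zpowers ⁅e, x⁆ = M :=
  sup_eq_of_between T.isP R.A_le_M (by rw [R.cardM, R.cardA]; ring_nf; rfl) (R.y_mem_M T) (R.y_not_A T)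

theorem E_eq : A ⊔ zpowers e = E :=
  sup_eq_of_between T.isP R.A_le_E (by rw [R.cardE, R.cardA]; ring_nf; rfl) R.eE
    fun h => R.eM (R.A_le_M h)

theorem inf_eq : M ⊓ E = A := by
  refine le_antisymm (fun w hw => ?_) (le_inf R.A_le_M R.A_le_E)
  by_contra hwA
  have h := sup_eq_of_between T.isP R.A_le_E (by rw [R.cardE, R.cardA]; ring_nf; rfl) hw.2 hwA
  exact R.eM ((h ▸ sup_le R.A_le_M (zpowers_le.2 hw.1) : E ≤ M) R.eE)

theorem N_eq : M ⊔ zpowers e = N :=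
  sup_eq_of_between T.isP R.M_le_N (by rw [R.cardN, R.cardM]; ring_nf; rfl) (R.e_mem_N T) R.eM

theorem top_eq : N ⊔ zpowers x = ⊤ :=
  sup_eq_of_between T.isP le_top (by rw [card_top, T.card, R.cardN]; ring_nf; rfl) (mem_top x) R.xN

theorem M_step {w : X} (hw : w ∈ M) (g : X) : ⁅w, g⁆ ∈ A := by
  haveI := R.normalM; haveI := R.normalA
  exact comm_mem_of_step' T.isP R.A_le_M (by rw [R.cardM, R.cardA]; ring) hw g

theorem commM {u v : X} (hu : u ∈ M) (hv : v ∈ M) : Commute u v := by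
  haveI := R.normalA
  obtain ⟨a, ha, i, rfl⟩ := exists_mul_pow ((R.M_eq T).ge hu)
  obtain ⟨b, hb, j, rfl⟩ := exists_mul_pow ((R.M_eq T).ge hv)
  exact ((Commute.pow_pow_self _ i j).mul_left
    (R.centA a ha _ (pow_mem (R.M_le_N (R.y_mem_M T)) j))).mul_right
    ((R.centA b hb _ (R.M_le_N hu)).symm)

theorem commN_mem_A {u v : X} (hu : u ∈ N) (hv : v ∈ N) : ⁅u, v⁆ ∈ A := by
  haveI := R.normalM; haveI := R.normalA
  obtain ⟨a, ha, i, rfl⟩ := exists_mul_pow ((R.N_eq T).ge hu)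
  obtain ⟨b, hb, j, rfl⟩ := exists_mul_pow ((R.N_eq T).ge hv)
  set π := QuotientGroup.mk' A
  have hc : ∀ {w : X}, w ∈ M → ∀ g, Commute (π w) (π g) := fun {w} hw g => by
    refine commutatorElement_eq_one_iff_mul_comm.mp ?_
    rw [← map_commutatorElement]
    exact (QuotientGroup.eq_one_iff _).2 (R.M_step T hw g)
  refine (QuotientGroup.eq_one_iff _).1 ?_
  show π _ = 1
  rw [map_commutatorElement, commutatorElement_eq_one_iff_mul_comm, map_mul, map_mul, map_pow, map_pow]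
  exact (((Commute.pow_pow_self (π e) i j).mul_left ((hc ha e).pow_right j)).mul_right
    ((((hc hb e).symm).pow_left i).mul_left (hc ha b))).eq

theorem c_mem_A : ⁅⁅e, x⁆, e⁆ ∈ A := R.M_step T (R.y_mem_M T) e

theorem c_central (g : X) : Commute ⁅⁅e, x⁆, e⁆ g := by
  haveI := R.normalA; haveI := R.normalM; haveI := R.normalN
  set y := ⁅e, x⁆
  suffices h : g * ⁅y, e⁆ * g⁻¹ = ⁅y, e⁆ from (mul_inv_eq_iff_eq_mul.1 h).symm
  have hy' : y⁻¹ * (g * y * g⁻¹) ∈ A := by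
    have h := R.M_step T (M.inv_mem (R.y_mem_M T)) g
    change ⁅y⁻¹, g⁆ ∈ A at h
    rw [commutatorElement_def, inv_inv] at h
    convert h using 1
    group
  have he' : e⁻¹ * (g * e * g⁻¹) ∈ M := by
    have h := comm_mem_of_step' T.isP R.M_le_N (by rw [R.cardN, R.cardM]; ring)
      (N.inv_mem (R.e_mem_N T)) g
    rw [commutatorElement_def, inv_inv] at h
    convert h using 1
    group
  calc g * ⁅y, e⁆ * g⁻¹ = ⁅y * (y⁻¹ * (g * y * g⁻¹)), e * (e⁻¹ * (g * e * g⁻¹))⁆ := by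
        rw [mul_inv_cancel_left, mul_inv_cancel_left, commutatorElement_def, commutatorElement_def]
        group
    _ = ⁅y, e⁆ := by
        rw [commutator_mul_left (R.centA _ hy' _ (mul_mem (R.e_mem_N T) (R.M_le_N he'))),
          commutator_mul_right (R.commM T (R.y_mem_M T) he')]

theorem c_pow : ⁅⁅e, x⁆, e⁆ ^ p = 1 := R.exp _ (R.A_le_E (R.c_mem_A T))

theorem c_ne : ⁅⁅e, x⁆, e⁆ ≠ 1 := fun h => R.moved (R.self _ fun a ha => by
  haveI := R.normalA
  obtain ⟨b, hb, j, rfl⟩ := exists_mul_pow ((R.E_eq T).ge ha)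
  exact ((show Commute _ _ from commutatorElement_eq_one_iff_mul_comm.mp h).pow_right j).mul_right
    (R.centA b hb _ (R.M_le_N (R.y_mem_M T))).symm)

theorem normalC : (zpowers ⁅⁅e, x⁆, e⁆).Normal := ⟨fun w hw g => by
  obtain ⟨k, rfl⟩ := hw
  rw [((R.c_central T g).zpow_left k).symm.eq, mul_inv_cancel_right]
  exact zpow_mem (mem_zpowers _) k⟩

theorem cardC : Nat.card (zpowers ⁅⁅e, x⁆, e⁆) = p := by
  rw [Nat.card_zpowers, orderOf_eq_prime (R.c_pow T) (R.c_ne T)]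

theorem C_le_A : zpowers ⁅⁅e, x⁆, e⁆ ≤ A := zpowers_le.2 (R.c_mem_A T)

theorem A_step {a : X} (ha : a ∈ A) (g : X) : ⁅a, g⁆ ∈ zpowers ⁅⁅e, x⁆, e⁆ := by
  haveI := R.normalA; haveI := R.normalC T
  exact comm_mem_of_step' T.isP (R.C_le_A T) (by rw [R.cardA, R.cardC T, pow_two]) ha g

variable {σ : MulAut X} {l : X} {i ν m μ : ℕ} (W : TriWts σ A N e x l i ν m μ)
include W

theorem eq_mi : ((m * i : ℕ) : ZMod p) = (μ : ZMod p) := by
  obtain ⟨a, ha, he⟩ := W.we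
  obtain ⟨a', ha', hy⟩ := W.wy
  have h := W.wc
  rw [map_commutatorElement, he, hy,
    commutator_pow_mul (R.c_central T) (R.centA a' ha' e (R.e_mem_N T))
      (R.centA a ha _ (R.M_le_N (R.y_mem_M T))).symm (R.centA a' ha' a (R.M_le_N (R.A_le_M ha)))] at h
  have hm := pow_eq_pow_iff_modEq.mp h
  rw [orderOf_eq_prime (R.c_pow T) (R.c_ne T)] at hm
  exact (ZMod.natCast_eq_natCast_iff _ _ _).mpr hm

theorem eq_iν : ((i * ν : ℕ) : ZMod p) = (m : ZMod p) := by
  haveI := R.normalA; haveI := R.normalM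
  obtain ⟨a, ha, he⟩ := W.we
  obtain ⟨n, hn, hx⟩ := W.wx
  obtain ⟨a', ha', hy⟩ := W.wy
  refine cast_eq_of_pow (R.y_not_A T) (pow_mem_of_card R.A_le_M (by rw [R.cardM, R.cardA]; ring) (R.y_mem_M T)) ?_
  rw [← commutator_pow_mk (fun g => R.M_step T (R.y_mem_M T) g) (R.M_step T (R.A_le_M ha) x)
    (R.commN_mem_A T (R.e_mem_N T) hn) (R.M_step T (R.A_le_M ha) n) i ν, ← he, ← hx, ← map_commutatorElement,
    hy, map_mul, map_pow,
    show QuotientGroup.mk' A a' = 1 from (QuotientGroup.eq_one_iff a').2 ha', mul_one]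

/-- With a centre of order `p`. -/
theorem eq_ν (hZ : Nat.card (center X) = p) : (ν : ZMod p) = (μ : ZMod p) := by
  haveI := R.normalA; haveI := R.normalC T; haveI := R.normalN
  obtain ⟨n, hn, hx⟩ := W.wx
  obtain ⟨k, hk⟩ := mem_powers_iff_mem_zpowers.2 (R.A_step T W.lA x)
  change ⁅⁅e, x⁆, e⁆ ^ k = ⁅l, x⁆ at hk
  have hne : ⁅l, x⁆ ≠ 1 := fun h => by
    have hl : l ∈ center X := mem_center_iff.2 fun g => by
      obtain ⟨w, hw, j, rfl⟩ := exists_mul_pow ((R.top_eq T).ge (mem_top g))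
      exact ((((show Commute _ _ from commutatorElement_eq_one_iff_mul_comm.mp h).pow_right j).mul_right
        (R.centA l W.lA w hw)).symm).eq
    refine W.lc ((eq_of_le_of_card_ge (zpowers_le.2 (mem_center_iff.2 fun g => (R.c_central T g).symm.eq))
      (by rw [hZ, R.cardC T])).symm ▸ hl)
  have h := congrArg σ hk
  rw [map_pow, W.wc, ← pow_mul, map_commutatorElement, W.wl, hx, mul_comm, pow_mul, hk] at h
  have hz : ∀ g, Commute ⁅l, x⁆ g := fun g => hk ▸ (R.c_central T g).pow_left k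
  have h1 := commutator_pow_mul hz (Commute.one_left x) (R.centA l W.lA n hn) (Commute.one_left n) 1 ν
  rw [pow_one, mul_one, one_mul] at h1
  rw [h1] at h
  have hm := pow_eq_pow_iff_modEq.mp h.symm
  rw [orderOf_eq_prime (R.exp _ (R.A_le_E ((R.C_le_A T) (R.A_step T W.lA x)))) hne] at hm
  exact (ZMod.natCast_eq_natCast_iff _ _ _).mpr hm

/-- With an exponent one fixed line over the centre `A`. -/
theorem eq_mν (hw : ⁅⁅e, x⁆, x⁆ ∉ zpowers ⁅⁅e, x⁆, e⁆) : ((m * ν : ℕ) : ZMod p) = 1 := by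
  haveI := R.normalA; haveI := R.normalC T; haveI := R.normalM
  obtain ⟨n, hn, hx⟩ := W.wx
  obtain ⟨a', ha', hy⟩ := W.wy
  set y := ⁅e, x⁆
  set C := zpowers ⁅y, e⁆
  set π := QuotientGroup.mk' C
  have hwA : ⁅y, x⁆ ∈ A := R.M_step T (R.y_mem_M T) x
  have hyn : ⁅y, n⁆ ∈ C := by
    obtain ⟨b, hb, j, rfl⟩ := exists_mul_pow ((R.N_eq T).ge hn)
    rw [commutator_mul_right (R.commM T (R.y_mem_M T) hb),
      Cfsg.Lib.PGroups.commutator_pow_right_of_commute (R.c_central T e)]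
    exact pow_mem (mem_zpowers _) j
  have hfix : π (σ ⁅y, x⁆) = π ⁅y, x⁆ := by
    have hA : C ⊔ zpowers l = A := sup_eq_of_between T.isP (R.C_le_A T)
      (by rw [R.cardA, R.cardC T, pow_two]) W.lA W.lc
    obtain ⟨z, hz, j, e1⟩ := exists_mul_pow (hA.ge hwA)
    have hσz : σ z ∈ C := by
      obtain ⟨k, rfl⟩ := hz
      rw [map_zpow, W.wc]
      exact zpow_mem (pow_mem (mem_zpowers _) _) k
    rw [e1, map_mul σ, map_pow σ, W.wl, map_mul π, map_mul π,
      show π (σ z) = 1 from (QuotientGroup.eq_one_iff _).2 hσz,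
      show π z = 1 from (QuotientGroup.eq_one_iff _).2 hz]
  rw [← Nat.cast_one]
  refine cast_eq_of_pow hw (by rw [R.exp _ (R.A_le_E hwA)]; exact one_mem _) ?_
  rw [pow_one, ← commutator_pow_mk (fun g => R.A_step T hwA g) (R.A_step T ha' x) hyn (R.A_step T ha' n) m ν,
    ← hy, ← hx, ← map_commutatorElement σ, hfix]

end Tri

end Cfsg.Lib.Fusion.OrderPFive
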