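import Cfsg.Agent.Fusion.OrderPFive.Bridge
import Cfsg.Agent.Fusion.OrderPFive.Tri
import Cfsg.Agent.Fusion.OrderPFive.Transvection

/-!
An abelian essential subgroup of order `p ^ 3` in a group of order `p ^ 5` without an abelian subgroup of
index `p`: it is elementary, not normal, and spans the configuration of `Tri`.
-/

set_option autoImplicit false
set_option linter.style.haveILetI false
set_option linter.unusedSectionVars false
set_option linter.unusedVariables false

namespace Cfsg.Lib.Fusion.OrderPFive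

open Subgroup Cfsg Cfsg.FusionSystem Cfsg.Lib.Fusion
open scoped commutatorElement

universe u

variable {Ω : Type u} [Group Ω] {S : Subgroup Ω} {F : FusionSystem S} {p : ℕ} [Finite S] [hp : Fact p.Prime]

theorem comm_coe {E : Subgroup Ω} (hab : ∀ a ∈ E, ∀ b ∈ E, a * b = b * a) {a b : S}
    (ha : a ∈ E.subgroupOf S) (hb : b ∈ E.subgroupOf S) : Commute a b :=
  Subtype.ext (hab _ ha _ hb)

theorem mem_normalizer_subgroupOf {E : Subgroup Ω} (hE : E ≤ S) {g : S}
    (h : (g : Ω) ∈ Subgroup.normalizer (E : Set Ω)) {a : S} (ha : a ∈ E.subgroupOf S) :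
    g * a * g⁻¹ ∈ E.subgroupOf S :=
  (conj_mem_of_mem_normalizer h (show (a : Ω) ∈ E from ha) : (g : Ω) * a * (g : Ω)⁻¹ ∈ E)

theorem mem_normalizerIn_of_maps {E : Subgroup Ω} (hE : E ≤ S) {g : S}
    (h : ∀ a ∈ E.subgroupOf S, g * a * g⁻¹ ∈ E.subgroupOf S) :
    g ∈ (normalizerIn S E).subgroupOf S := by
  haveI := finite_of_le hE
  exact ⟨g.2, mem_normalizer_of_maps_finite fun x hx => h ⟨x, hE hx⟩ hx⟩

/-- The normalizer of an abelian essential subgroup of order `p ^ 3` has order `p ^ 4`. -/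
theorem card_normalizer_abelian (hS : IsPGroup p S) (hF : F.IsSaturated p) (T : Five p S) {E : Subgroup Ω}
    (hE : F.IsEssential p E) (hab : ∀ a ∈ E, ∀ b ∈ E, a * b = b * a) (hc : Nat.card E = p ^ 3) :
    Nat.card ((normalizerIn S E).subgroupOf S) = p ^ 4 := by
  have hES := hE.1.1
  have hexp := exp_of_essential hS hF hE hab (Or.inr hc)
  set E' := E.subgroupOf S
  set N := (normalizerIn S E).subgroupOf S
  have hcE : Nat.card E' = p ^ 3 := (card_subgroupOf_eq hES).trans hc
  have hEN : E' < N := by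
    have h := lt_normalizerIn hS (EssentialGen.lt_of_essential hS hF hE)
    refine lt_of_le_of_ne (fun g hg => h.le hg) fun e => h.ne ?_
    refine le_antisymm h.le fun g hg => ?_
    exact (e.ge (show (⟨g, hg.1⟩ : S) ∈ N from hg) :)
  have h1 := pow_le_of_lt hS hEN
  obtain ⟨k, hk⟩ := exists_pow hS N
  rw [hcE, hk, ← pow_succ', Nat.pow_le_pow_iff_right hp.out.one_lt] at h1
  have hk5 : k ≤ 5 := by
    have := card_le_card_group N
    rw [hk, T.card] at this
    exact (Nat.pow_le_pow_iff_right hp.out.one_lt).1 this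
  rcases (show k = 4 ∨ k = 5 by omega) with rfl | rfl
  · exact hk
  exfalso
  have hNtop : N = ⊤ := eq_top_of_card_eq _ (by rw [hk, T.card])
  haveI hEn : E'.Normal := ⟨fun a ha g =>
    mem_normalizer_subgroupOf hES (hNtop.ge (mem_top g) : g ∈ N).2 ha⟩
  have hZE := center_le_of_centric hE.1
  obtain ⟨A0, s, hA0, hA0c, hs, hcomm⟩ : ∃ (A0 : Subgroup S) (s : S), A0 ≤ E' ∧ Nat.card A0 = p ^ 2 ∧
      s ∉ E' ∧ ∀ a ∈ A0, Commute s a := by
    obtain ⟨s, -, hs⟩ := SetLike.exists_of_lt hEN
    rcases T.card_center with hZ | hZ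
    · have hlt : center S < E' := lt_of_le_of_ne hZE fun e => by
        rw [e, hcE] at hZ
        exact absurd (Nat.pow_right_injective hp.out.two_le (hZ.trans (pow_one p).symm)) (by norm_num)
      obtain ⟨w, hwE, hw, hwp, hwc⟩ := exists_step hS hlt
      let f : S →* center S := MonoidHom.mk' (fun g => ⟨⁅w, g⁆, hwc g⟩) fun g h => Subtype.ext (by
        show ⁅w, g * h⁆ = ⁅w, g⁆ * ⁅w, h⁆
        rw [Cfsg.Lib.PGroups.mul_right_commutator, mem_center_iff.1 (hwc h) g, mul_inv_cancel_right])
      have hker : ¬ f.ker ≤ E' := fun hle => by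
        have h2 := f.ker.card_mul_index
        rw [index_ker, T.card] at h2
        have h3 : Nat.card f.range ≤ p := hZ ▸ card_le_card_group f.range
        have h4 := card_le_of_le hle
        rw [hcE] at h4
        have h5 := Nat.mul_le_mul h4 h3
        rw [h2, ← pow_succ, Nat.pow_le_pow_iff_right hp.out.one_lt] at h5
        omega
      obtain ⟨s, hsk, hs⟩ := SetLike.not_le_iff_exists.1 hker
      refine ⟨center S ⊔ zpowers w, s, sup_le hZE (zpowers_le.2 hwE),
        by rw [card_sup_zpowers hw hwp, hZ, pow_two], hs, fun a ha => ?_⟩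
      obtain ⟨z, hz, i, rfl⟩ := exists_mul_pow ha
      have hws : ⁅w, s⁆ = 1 := congrArg Subtype.val (MonoidHom.mem_ker.1 hsk)
      exact ((show Commute w s from commutatorElement_eq_one_iff_mul_comm.1 hws).symm.pow_right i).mul_right
        (mem_center_iff.1 hz s)
    · exact ⟨center S, s, hZE, hZ, hs, fun a ha => mem_center_iff.1 ha s⟩
  have hsN : (s : Ω) ∈ normalizerIn S E := (hNtop.ge (mem_top s) : s ∈ N)
  have h4 := (card_normalizer_torus_plane hS hF hE hab hexp hc (A := A0.map S.subtype)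
    (by rintro _ ⟨a, ha, rfl⟩; exact hA0 ha) (by rw [card_map_of_injective S.subtype_injective, hA0c])
    hsN.1 hsN.2 hs (by rintro _ ⟨a, ha, rfl⟩; exact congrArg Subtype.val (hcomm a ha).eq)).1
  rw [← card_normalizerIn_eq, hk] at h4
  exact absurd (Nat.pow_right_injective hp.out.two_le h4) (by norm_num)

/-- The configuration at an abelian essential subgroup of order `p ^ 3`. -/
theorem exists_tri (hS : IsPGroup p S) (hF : F.IsSaturated p) (T : Five p S) {E : Subgroup Ω}
    (hE : F.IsEssential p E) (hab : ∀ a ∈ E, ∀ b ∈ E, a * b = b * a) (hc : Nat.card E = p ^ 3) :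
    ∃ (A M : Subgroup S) (e x : S),
      Tri p (E.subgroupOf S) A M ((normalizerIn S E).subgroupOf S) e x := by
  have hES := hE.1.1
  have hexp := exp_of_essential hS hF hE hab (Or.inr hc)
  have hN4 := card_normalizer_abelian hS hF T hE hab hc
  set E' := E.subgroupOf S
  set N := (normalizerIn S E).subgroupOf S
  have hcE : Nat.card E' = p ^ 3 := (card_subgroupOf_eq hES).trans hc
  haveI hNn : N.Normal := normal_of_index_eq_minFac_card (by
    have h := N.card_mul_index
    rw [hN4, T.card, pow_succ p 4] at h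
    rw [Nat.eq_of_mul_eq_mul_left (pow_pos hp.out.pos 4) h, T.card, Nat.pow_minFac (by norm_num),
      hp.out.minFac_eq])
  have hEN : E' ≤ N := fun g hg => le_normalizerIn hES hg
  obtain ⟨x, hx⟩ : ∃ x : S, x ∉ N := by
    by_contra h
    push Not at h
    rw [show N = ⊤ from eq_top_iff.2 fun g _ => h g, card_top, T.card] at hN4
    exact absurd (Nat.pow_right_injective hp.out.two_le hN4) (by norm_num)
  set K := E'.map (MulAut.conj x).toMonoidHom
  have hcK : Nat.card K = p ^ 3 := (card_map_of_injective (MulAut.conj x).injective).trans hcE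
  have hKN : K ≤ N := by
    rintro _ ⟨a, ha, rfl⟩
    exact hNn.conj_mem a (hEN ha) x
  have hKE : K ≠ E' := fun e => hx (mem_normalizerIn_of_maps hES fun a ha =>
    e.le ⟨a, ha, rfl⟩)
  set A := E' ⊓ K
  have hAc : Nat.card A = p ^ 2 := by
    obtain ⟨j, hj⟩ := exists_pow hS A
    have hlt : Nat.card A < p ^ 3 := hcE ▸ lt_of_le_of_ne (card_le_of_le inf_le_left) fun e =>
      hKE (eq_of_le_of_card_ge (inf_eq_left.1 (eq_of_le_of_card_ge inf_le_left e.ge)) (by rw [hcE, hcK])).symm
    have h1 := (K.subgroupOf E').card_mul_index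
    rw [show Nat.card (K.subgroupOf E') = Nat.card A by
      rw [← card_map_of_injective E'.subtype_injective, subgroupOf_map_subtype, inf_comm]] at h1
    have h2 : (K.subgroupOf E').index ≤ p := by
      refine le_trans (relIndex_le_of_le_right hEN index_ne_zero_of_finite) ?_
      have h3 := (K.subgroupOf N).card_mul_index
      rw [Nat.card_congr (subgroupOfEquivOfLe hKN).toEquiv, hcK, hN4, pow_succ p 3] at h3
      exact (Nat.eq_of_mul_eq_mul_left (pow_pos hp.out.pos 3) h3).le
    have h3 := Nat.mul_le_mul (le_refl (Nat.card A)) h2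
    rw [h1, hcE, hj, ← pow_succ, Nat.pow_le_pow_iff_right hp.out.one_lt] at h3
    rw [hj, Nat.pow_lt_pow_iff_right hp.out.one_lt] at hlt
    rw [hj, show j = 2 by omega]
  have hEK : E' ⊔ K = N := by
    obtain ⟨w, hw, hwE⟩ := SetLike.not_le_iff_exists.1 fun hle : K ≤ E' =>
      hKE (eq_of_le_of_card_ge hle (by rw [hcE, hcK]))
    exact eq_of_between hS le_sup_left (sup_le hEN hKN) (by rw [hN4, hcE]; ring_nf; rfl)
      (mem_sup_right hw) hwE
  have hcen : ∀ a ∈ A, ∀ g ∈ N, Commute a g := fun a ha g hg => by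
    have hle : N ≤ centralizer ({a} : Set S) := hEK ▸ sup_le
      (fun b hb => mem_centralizer_singleton_iff.2 (comm_coe hab hb ha.1).eq)
      (fun b hb => mem_centralizer_singleton_iff.2 (by
        obtain ⟨b', hb', rfl⟩ := hb
        obtain ⟨a', ha', e⟩ := ha.2
        rw [← e]
        exact (((comm_coe hab hb' ha').map (MulAut.conj x).toMonoidHom)).eq))
    exact (mem_centralizer_singleton_iff.1 (hle hg)).symm
  set Z := N ⊓ centralizer (N : Set S)
  have hAZ : A = Z := by
    refine le_antisymm (fun a ha => ⟨hEN ha.1, mem_centralizer_iff.2 fun g hg => (hcen a ha g hg).symm.eq⟩) ?_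
    by_contra hle
    obtain ⟨w, hw, hwA⟩ := SetLike.not_le_iff_exists.1 hle
    have hAZ' : A < Z := lt_of_le_of_ne
      (fun a ha => ⟨hEN ha.1, mem_centralizer_iff.2 fun g hg => (hcen a ha g hg).symm.eq⟩)
      fun e => hwA (e ▸ hw)
    have h1 := pow_le_of_lt hS hAZ'
    rw [hAc, ← pow_succ'] at h1
    obtain ⟨a, ha, b, hb, hne⟩ := T.not_comm hN4
    have hZN : ∀ z ∈ Z, ∀ g ∈ N, Commute z g := fun z hz g hg => (mem_centralizer_iff.1 hz.2 g hg).symm
    by_cases hall : N ≤ Z
    · exact hne (hZN a (hall ha) b hb)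
    obtain ⟨v, hv, hvZ⟩ := SetLike.not_le_iff_exists.1 hall
    have e : Z ⊔ zpowers v = N := sup_eq_of_between hS inf_le_left
      (by rw [hN4, pow_succ']; exact Nat.mul_le_mul_left _ h1) hv hvZ
    have : Z.Normal := ⟨fun z hz g => ⟨hNn.conj_mem z hz.1 g, mem_centralizer_iff.2 fun n hn => by
      have h := mem_centralizer_iff.1 hz.2 (g⁻¹ * n * g) (by simpa using hNn.conj_mem n hn g⁻¹)
      calc n * (g * z * g⁻¹) = g * ((g⁻¹ * n * g) * z) * g⁻¹ := by group
        _ = g * (z * (g⁻¹ * n * g)) * g⁻¹ := by rw [h]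
        _ = g * z * g⁻¹ * n := by group⟩⟩
    obtain ⟨z, hz, i, rfl⟩ := exists_mul_pow (e.ge ha)
    obtain ⟨z', hz', j, rfl⟩ := exists_mul_pow (e.ge hb)
    exact hne (((Commute.pow_pow_self v i j).mul_left (hZN z hz _ (pow_mem hv j))).mul_right
      ((hZN z' hz' _ (mul_mem (pow_mem hv i) hz.1)).symm)).eq
  haveI hAn : A.Normal := ⟨fun z hz g => by
    rw [hAZ] at hz ⊢
    exact ⟨hNn.conj_mem z hz.1 g, mem_centralizer_iff.2 fun n hn => by
      have h := mem_centralizer_iff.1 hz.2 (g⁻¹ * n * g) (by simpa using hNn.conj_mem n hn g⁻¹)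
      calc n * (g * z * g⁻¹) = g * ((g⁻¹ * n * g) * z) * g⁻¹ := by group
        _ = g * (z * (g⁻¹ * n * g)) * g⁻¹ := by rw [h]
        _ = g * z * g⁻¹ * n := by group⟩⟩
  have hAN : A < N := lt_of_le_of_ne (inf_le_left.trans hEN) fun e => by
    rw [e, hN4] at hAc
    exact absurd (Nat.pow_right_injective hp.out.two_le hAc) (by norm_num)
  obtain ⟨w, hwN, hw, hwp, hwc⟩ := exists_step hS hAN
  set M := A ⊔ zpowers w
  have hMc : Nat.card M = p ^ 3 := by rw [card_sup_zpowers hw hwp, hAc]; ring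
  haveI hMn : M.Normal := ⟨fun v hv g => by
    obtain ⟨a, ha, i, rfl⟩ := exists_mul_pow hv
    have h1 : g * w * g⁻¹ ∈ M := by
      have h := M.mul_mem (mem_sup_left (A.inv_mem (hwc g))) (mem_sup_right (mem_zpowers w))
      rw [commutatorElement_def] at h
      convert h using 1
      group
    have h := M.mul_mem (M.pow_mem h1 i) (mem_sup_left (hAn.conj_mem a ha g))
    rw [conj_pow] at h
    convert h using 1
    group⟩
  obtain ⟨e, he, heM⟩ := SetLike.not_le_iff_exists.1 fun hle : E' ≤ M => by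
    have h := eq_of_le_of_card_ge hle (by rw [hcE, hMc])
    exact hx (mem_normalizerIn_of_maps hES fun a ha => h.ge (hMn.conj_mem a (h.le ha) x))
  refine ⟨A, M, e, x, hcE, hAc, hMc, hN4, hAn, hMn, hNn, le_sup_left,
    sup_le hAN.le (zpowers_le.2 hwN), inf_le_left, hEN, hcen, fun a ha => Subtype.ext (hexp _ ha),
    fun g hg => self_of_centric hE.1 hg, he, heM, hx, fun hy => hx ?_⟩
  refine mem_normalizerIn_of_maps hES fun a ha => ?_
  have hAe : A ⊔ zpowers e = E' := sup_eq_of_between hS inf_le_left (by rw [hcE, hAc]; ring_nf; rfl) he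
    fun h => heM (mem_sup_left h)
  obtain ⟨b, hb, i, rfl⟩ := exists_mul_pow (hAe.ge ha)
  have h1 : x * e * x⁻¹ ∈ E' := by
    have h := E'.inv_mem (E'.mul_mem (E'.inv_mem he) hy)
    rw [commutatorElement_def] at h
    convert h using 1
    group
  have h := E'.mul_mem (E'.pow_mem h1 i) (hAn.conj_mem b hb x).1
  rw [conj_pow] at h
  convert h using 1
  group

end Cfsg.Lib.Fusion.OrderPFive
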