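import Cfsg.Agent.Fusion.OrderPFive.AbelianNormalizer

/-!
The torus of an abelian essential subgroup of order `p ^ 3` extends to the whole group.
-/

set_option autoImplicit false
set_option linter.style.haveILetI false
set_option linter.unusedSectionVars false
set_option linter.unusedVariables false

namespace Cfsg.Lib.Fusion.OrderPFive

open Subgroup Cfsg Cfsg.FusionSystem Cfsg.Lib.Fusion
open scoped commutatorElement

universe u

variable {Ω : Type u} [Group Ω] {S : Subgroup Ω} {F : FusionSystem S} {p : ℕ} [Finite S] [hp : Fact p.Prime]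

theorem keep_pull_autS {Q : Subgroup Ω} (hQ : Q ≤ S) {K : Subgroup S} [K.Normal] {β : MulAut Q}
    (hβ : β ∈ autInducedBy S Q) : ∀ q ∈ pull Q K, β q ∈ pull Q K := by
  obtain ⟨g, hg, eg⟩ := mem_autInducedBy.mp hβ
  intro q hq
  refine (mem_pull hQ).2 ?_
  have h := ‹K.Normal›.conj_mem _ ((mem_pull hQ).1 hq) ⟨g, hg⟩
  rwa [show (⟨((β q : Q) : Ω), hQ (β q).2⟩ : S) = ⟨g, hg⟩ * ⟨(q : Ω), hQ q.2⟩ * (⟨g, hg⟩ : S)⁻¹ from
    Subtype.ext (eg q)]

variable {E : Subgroup Ω} {A M : Subgroup S} {e x : S}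

theorem mem_A_of_central (R : Tri p (E.subgroupOf S) A M ((normalizerIn S E).subgroupOf S) e x)
    (T : Five p S) {g : S} (hg : ∀ n ∈ (normalizerIn S E).subgroupOf S, Commute g n) : g ∈ A := by
  haveI := R.normalA
  have hgE := R.self g fun a ha => hg a (R.E_le_N ha)
  obtain ⟨a, ha, i, rfl⟩ := exists_mul_pow ((R.E_eq T).ge hgE)
  have hy := hg _ (R.M_le_N (R.y_mem_M T))
  have h1 : ⁅⁅e, x⁆, e ^ i⁆ = 1 := by
    rw [← commutator_mul_right (b := e ^ i) (R.centA a ha _ (R.M_le_N (R.y_mem_M T))).symm]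
    exact commutatorElement_eq_one_iff_mul_comm.2 hy.symm.eq
  rw [Cfsg.Lib.PGroups.commutator_pow_right_of_commute (R.c_central T e)] at h1
  obtain ⟨d, rfl⟩ : p ∣ i := by
    rw [← orderOf_eq_prime (R.c_pow T) (R.c_ne T)]
    exact orderOf_dvd_of_pow_eq_one h1
  rw [pow_mul, R.exp e R.eE, one_pow, one_mul]
  exact ha

/-- Every automorphism of the normalizer keeps the chain. -/
theorem keep_normalizer (hF : F.IsSaturated p) (T : Five p S) (hE : F.IsEssential p E)
    (R : Tri p (E.subgroupOf S) A M ((normalizerIn S E).subgroupOf S) e x)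
    {α : MulAut (normalizerIn S E)} (hα : α ∈ F.autGroup (normalizerIn S E)) :
    ∀ (g : ((normalizerIn S E).subgroupOf S)),
      ((g : S) ∈ A → actHom inf_le_left α g ∈ A) ∧ ((g : S) ∈ M → actHom inf_le_left α g ∈ M) ∧
        ((g : S) ∈ zpowers ⁅⁅e, x⁆, e⁆ → actHom inf_le_left α g ∈ zpowers ⁅⁅e, x⁆, e⁆) := by
  haveI := R.normalA; haveI := R.normalM; haveI := R.normalN
  have hES := hE.1.1
  set N := (normalizerIn S E).subgroupOf S
  have hNS : (normalizerIn S E) ≤ S := inf_le_left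
  set f := actHom hNS α
  have hmem : ∀ g : N, f g ∈ N := actHom_mem hNS α
  have hsurj : ∀ n ∈ N, ∃ g : N, f g = n := fun n hn => by
    refine ⟨⟨⟨((α.symm ⟨(n : Ω), hn⟩ : (normalizerIn S E)) : Ω), hNS (α.symm _).2⟩, (α.symm _).2⟩, Subtype.ext ?_⟩
    show ((α (α.symm ⟨(n : Ω), hn⟩) : (normalizerIn S E)) : Ω) = n
    rw [MulEquiv.apply_symm_apply]
  have hA : ∀ g : N, (g : S) ∈ A → f g ∈ A := fun g hg => mem_A_of_central R T fun n hn => by
    obtain ⟨g', rfl⟩ := hsurj n hn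
    exact (show Commute g g' from Subtype.ext (R.centA _ hg _ g'.2)).map f
  have hA' : ∀ a ∈ A, ∃ g : N, (g : S) ∈ A ∧ f g = a := fun a ha => by
    obtain ⟨g, rfl⟩ := hsurj a (R.M_le_N (R.A_le_M ha))
    refine ⟨g, mem_A_of_central R T fun n hn => ?_, rfl⟩
    have hinj : Function.Injective f := fun u v h => by
      have h' : ((f u : S) : Ω) = f v := by rw [h]
      exact (subgroupOfEquivOfLe hNS).injective (α.injective (Subtype.ext h'))
    exact congrArg Subtype.val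
      (hinj (by rw [map_mul, map_mul]; exact (R.centA _ ha _ (hmem ⟨n, hn⟩)).eq) : g * ⟨n, hn⟩ = ⟨n, hn⟩ * g)
  have hM : ∀ g : N, (g : S) ∈ M → f g ∈ M := by
    intro g hg
    by_contra hk
    -- then some conjugate of `E` is an image of `M`
    obtain ⟨u, hu, i, hiu⟩ := exists_mul_pow ((R.N_eq T).ge (hmem g))
    have hi : ((i : ZMod p)) ≠ 0 := fun h0 => by
      obtain ⟨d, rfl⟩ := (ZMod.natCast_eq_zero_iff _ _).1 h0
      rw [pow_mul, R.exp e R.eE, one_pow, one_mul] at hiu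
      exact hk (hiu ▸ hu)
    set n := ((i : ZMod p)⁻¹).val
    obtain ⟨a0, ha0, r, rfl⟩ := exists_mul_pow ((R.M_eq T).ge hu)
    set π := QuotientGroup.mk' A
    set y := ⁅e, x⁆
    have hcen : ∀ v : S, Commute (π y) (π v) := fun v => commutatorElement_eq_one_iff_mul_comm.1 (by
      rw [← map_commutatorElement]
      exact (QuotientGroup.eq_one_iff _).2 (R.M_step T (R.y_mem_M T) v))
    have hein : e ^ (i * n) = e := by
      conv_rhs => rw [← pow_one e]
      refine pow_eq_pow_iff_modEq.2 ?_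
      rw [orderOf_eq_prime (R.exp e R.eE) fun h1 => R.eM (h1 ▸ one_mem M), ← ZMod.natCast_eq_natCast_iff]
      push_cast
      rw [ZMod.natCast_zmod_val, mul_inv_cancel₀ hi]
    set j := r * n
    set q := j * (p - 1)
    have hz : π (f (g ^ n)) = π (e * y ^ j) := by
      rw [map_pow f, hiu, map_pow π, map_mul π, map_mul π,
        show π a0 = 1 from (QuotientGroup.eq_one_iff _).2 ha0, mul_one, map_pow π, map_pow π,
        (((hcen e).symm.pow_pow i r)).mul_pow, ← pow_mul, ← pow_mul, ← map_pow π e, hein, map_mul π, map_pow π]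
    have hyp : π y ^ p = 1 := by
      rw [← map_pow]
      exact (QuotientGroup.eq_one_iff _).2
        (pow_mem_of_card R.A_le_M (by rw [R.cardM, R.cardA]; ring) (R.y_mem_M T))
    have hs : π (x ^ q * e * (x ^ q)⁻¹) = π (e * y ^ j) := by
      have h1 := commutator_pow_mk (K := A) (a := e) (b := x) (u := 1) (v := 1)
        (fun v => R.M_step T (R.y_mem_M T) v) (by simp) (by simp) (by simp) 1 q
      rw [pow_one, mul_one, mul_one, one_mul, map_commutatorElement, commutatorElement_def] at h1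
      have h2 : π (x ^ q) * π e * (π (x ^ q))⁻¹ = (π y ^ q)⁻¹ * π e := by
        rw [show π y ^ q = π e * π (x ^ q) * (π e)⁻¹ * (π (x ^ q))⁻¹ from h1.symm]
        group
      rw [map_mul, map_mul, map_inv, h2, map_mul, map_pow, ← ((hcen e).pow_left j).eq,
        show (π y ^ q)⁻¹ = π y ^ j from inv_eq_of_mul_eq_one_right (by
          rw [← pow_add, show q + j = p * j by
            have := hp.out.one_lt
            show j * (p - 1) + j = p * j
            obtain ⟨p', hp'⟩ : ∃ p', p = p' + 1 := ⟨p - 1, by omega⟩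
            rw [hp', Nat.add_sub_cancel]; ring, pow_mul, hyp, one_pow])]
    set MΩ := M.map S.subtype
    have hMN : MΩ ≤ (normalizerIn S E) := by
      rintro _ ⟨m, hm, rfl⟩
      exact R.M_le_N hm
    have hfm := ((isMap_autFun (F := F) hNS).mpr hα).mono hMN
    have hKmem : ∀ v : N, (v : S) ∈ M → ((f v : S) : Ω) ∈ img MΩ (autFun α) := fun v hv => by
      rw [coe_actHom]
      exact IsMap.apply_mem_img ⟨_, hv, rfl⟩
    set K := (img MΩ (autFun α)).subgroupOf S
    have hKA : A ≤ K := fun a ha => by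
      obtain ⟨v, hv, rfl⟩ := hA' a ha
      exact hKmem v (R.A_le_M hv)
    have hKs : x ^ q * e * (x ^ q)⁻¹ ∈ K := by
      have h1 : f (g ^ n) ∈ K := hKmem _ (by rw [SubgroupClass.coe_pow]; exact pow_mem hg n)
      have h2 := QuotientGroup.eq.1 (hz.trans hs.symm)
      have h3 := K.mul_mem h1 (hKA h2)
      rwa [mul_inv_cancel_left] at h3
    have hconj := isMap_conj (F := F) hES (x ^ q : S).2
    have hsub : img E (fun z => ((x ^ q : S) : Ω) * z * ((x ^ q : S) : Ω)⁻¹) ≤ img MΩ (autFun α) := by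
      refine IsMap.img_le_iff.2 fun z hz => ?_
      obtain ⟨b, hb, k, e1⟩ := exists_mul_pow ((R.E_eq T).ge (show (⟨z, hES hz⟩ : S) ∈ E.subgroupOf S from hz))
      have h1 := K.mul_mem (K.pow_mem hKs k) (hKA (R.normalA.conj_mem b hb (x ^ q)))
      rw [conj_pow] at h1
      have h4 : (x ^ q * ⟨z, hES hz⟩ * (x ^ q)⁻¹ : S) ∈ K := by
        rw [e1]
        convert h1 using 1
        group
      exact h4
    haveI := finite_of_le hfm.img_le
    have heq := eq_of_le_of_card_ge hsub (by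
      rw [hfm.card_img, hconj.card_img, card_map_of_injective S.subtype_injective, R.cardM,
        ← card_subgroupOf_eq hES, R.cardE])
    have hcj : F.IsConj E MΩ := isConj_trans (isConj_iff.2 ⟨_, hconj, heq⟩)
      (isConj_symm (isConj_iff.2 ⟨_, hfm, rfl⟩))
    have hle := hE.2.1.2 MΩ hcj
    haveI : (MΩ.subgroupOf S).Normal := by
      rw [subgroupOf, comap_map_eq_self_of_injective S.subtype_injective]
      exact R.normalM
    rw [normalizerIn_eq_of_normal (map_subtype_le M), T.card, ← card_normalizerIn_eq, R.cardN] at hle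
    exact absurd ((Nat.pow_le_pow_iff_right hp.out.one_lt).1 hle) (by norm_num)
  refine fun g => ⟨hA g, hM g, fun hg => ?_⟩
  change f g ∈ _
  set gy : N := ⟨⁅e, x⁆, R.M_le_N (R.y_mem_M T)⟩
  set ge : N := ⟨e, R.e_mem_N T⟩
  obtain ⟨k, hk⟩ := mem_zpowers_iff.1 hg
  rw [show g = ⁅gy, ge⁆ ^ k from Subtype.ext (by rw [coe_zpow]; exact hk.symm), map_zpow, map_commutatorElement]
  refine zpow_mem ?_ k
  obtain ⟨a, ha, i, hi⟩ := exists_mul_pow ((R.M_eq T).ge (hM gy (R.y_mem_M T)))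
  obtain ⟨m, hm, j, hj⟩ := exists_mul_pow ((R.N_eq T).ge (hmem ge))
  rw [hi, hj, commutator_pow_mul (R.c_central T) (R.centA a ha e (R.e_mem_N T))
    (R.commM T (R.y_mem_M T) hm) (R.centA a ha m (R.M_le_N hm))]
  exact pow_mem (mem_zpowers _) _

/-- The torus of sign `μ`, extended to `S`. -/
theorem exists_torus_abelian (hS : IsPGroup p S) (hF : F.IsSaturated p) (T : Five p S)
    (hE : F.IsEssential p E) (hab : ∀ a ∈ E, ∀ b ∈ E, a * b = b * a) (hc : Nat.card E = p ^ 3)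
    (R : Tri p (E.subgroupOf S) A M ((normalizerIn S E).subgroupOf S) e x) {μ : ZMod p} (hμ : μ ≠ 0) :
    ∃ σ ∈ F.autGroup S, ∃ (l : S) (i ν m : ℕ),
      TriWts σ A ((normalizerIn S E).subgroupOf S) e x l i ν m μ.val ∧ (m : ZMod p) = μ ^ 2 ∧
        (μ * μ = 1 → ∀ α ∈ F.autGroup E, ∀ g ∈ normalizerIn S E, ∀ q ∈ E, ∀ w : S,
          (w : Ω) = autFun α (g * q * g⁻¹ * q⁻¹) → σ w = w ^ μ.val) := by
  haveI := R.normalA; haveI := R.normalM; haveI := R.normalN; haveI := R.normalC T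
  have hES := hE.1.1
  have hexp := exp_of_essential hS hF hE hab (Or.inr hc)
  set NΩ := normalizerIn S E
  set N := NΩ.subgroupOf S
  have hNS : NΩ ≤ S := inf_le_left
  set y : S := ⁅e, x⁆
  set c : S := ⁅y, e⁆
  have hyN : y ∈ N := R.M_le_N (R.y_mem_M T)
  have hyE : y ∉ E.subgroupOf S := R.moved
  obtain ⟨-, -, H⟩ := card_normalizer_torus_plane hS hF hE hab hexp hc (A := A.map S.subtype)
    (by rintro _ ⟨a, ha, rfl⟩; exact R.A_le_E ha)
    (by rw [card_map_of_injective S.subtype_injective, R.cardA]) y.2 hyN.2 hyE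
    (by rintro _ ⟨a, ha, rfl⟩; exact congrArg Subtype.val (R.centA a ha y hyN).symm.eq)
  obtain ⟨h, hh, c0, l0, ⟨cX, hcX, rfl⟩, hc01, ⟨l, hl, rfl⟩, hl0, hcomm, hc0', hl0', hconj, hplane⟩ := H μ hμ
  have hm := (isMap_autFun (F := F) hES).mpr hh
  -- the centre line
  have hcc : c ∈ zpowers cX := by
    obtain ⟨k, hk⟩ := mem_zpowers_iff.1 (hcomm (e : Ω) R.eE)
    refine mem_zpowers_iff.2 ⟨k, Subtype.ext ?_⟩
    rw [coe_zpow]
    exact hk
  have hcX1 : cX ≠ 1 := fun h1 => hc01 (by rw [h1]; rfl)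
  have hzp : zpowers c = zpowers cX := eq_of_le_of_card_ge (zpowers_le.2 hcc) (by
    rw [R.cardC T, Nat.card_zpowers, orderOf_eq_prime (R.exp _ (R.A_le_E hcX)) hcX1])
  have hlc : l ∉ zpowers c := fun h1 => hl0 (by
    rw [hzp] at h1
    obtain ⟨k, rfl⟩ := h1
    exact mem_zpowers_iff.2 ⟨k, rfl⟩)
  -- `h` on `X`
  set f := actHom hES h
  have hfc : ∀ g : E.subgroupOf S, (g : S) ∈ zpowers c → f g = (g : S) ^ μ.val := fun g hg => by
    rw [hzp] at hg
    obtain ⟨k, hk⟩ := mem_powers_iff_mem_zpowers.2 hg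
    change cX ^ k = (g : S) at hk
    refine Subtype.ext ?_
    rw [coe_actHom, coe_pow, ← hk, coe_pow, hm.map_pow (show (cX : Ω) ∈ E from R.A_le_E hcX) k]
    show (autFun h (cX : Ω)) ^ k = _
    rw [show autFun h (cX : Ω) = (cX : Ω) ^ μ.val from hc0', ← pow_mul, ← pow_mul, mul_comm]
  have hfl : f ⟨l, R.A_le_E hl⟩ = l := Subtype.ext (by rw [coe_actHom]; exact hl0')
  have hAeq : zpowers c ⊔ zpowers l = A := sup_eq_of_between hS (R.C_le_A T)
    (by rw [R.cardA, R.cardC T, pow_two]) hl hlc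
  have hfA : ∀ g : E.subgroupOf S, (g : S) ∈ A → f g ∈ A := fun g hg => by
    obtain ⟨b, hb, k, hgk⟩ := exists_mul_pow (hAeq.ge hg)
    rw [show g = (⟨l, R.A_le_E hl⟩ : E.subgroupOf S) ^ k * ⟨b, R.A_le_E ((R.C_le_A T) hb)⟩ from
      Subtype.ext (by rw [coe_mul, coe_pow]; exact hgk), map_mul, map_pow, hfl, hfc _ hb]
    exact mul_mem (pow_mem hl k) (pow_mem ((R.C_le_A T) hb) _)
  -- extend to the normalizer
  obtain ⟨-, hfa, -⟩ := fullyNormalized_props hS hF hE.2.1
  have hCE : IsChain (ofList [⊥, pull E (zpowers c), pull E A, ⊤]) 3 :=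
    ⟨rfl, rfl, fun i hi => by
      interval_cases i
      · exact bot_le
      · exact pull_mono (R.C_le_A T)
      · exact le_top⟩
  have hflE : IsFlag p (ofList [⊥, pull E (zpowers c), pull E A, ⊤]) 3 := fun i hi => by
    refine ⟨fun j _ v hv => ?_, ?_⟩
    · interval_cases i
      · simp [ofList] at hv ⊢; simp [hv]
      · exact (mem_pull hES).2 ((R.normalC T).conj_mem _ ((mem_pull hES).1 hv) ⟨(j : Ω), hES j.2⟩)
      · exact (mem_pull hES).2 (R.normalA.conj_mem _ ((mem_pull hES).1 hv) ⟨(j : Ω), hES j.2⟩)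
    · interval_cases i <;>
        simp only [ofList, List.getD_cons_zero, List.getD_cons_succ, card_bot, card_top, Nat.reduceAdd]
      · rw [card_pull hES ((R.C_le_A T).trans R.A_le_E), R.cardC T, mul_one]
      · rw [card_pull hES ((R.C_le_A T).trans R.A_le_E), card_pull hES R.A_le_E, R.cardC T, R.cardA, pow_two]
      · rw [card_pull hES R.A_le_E, R.cardA, hc]; ring
  have hPE : ∀ β ∈ autInducedBy S E, Triv (ofList [⊥, pull E (zpowers c), pull E A, ⊤]) 3 β := fun β hβ =>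
    triv_of_flag hS hES hCE hflE hβ fun i hi => by
      interval_cases i
      · simp [ofList]
      · exact keep_pull_autS hES hβ
      · exact keep_pull_autS hES hβ
      · simp [ofList]
  have hhk : Keep (ofList [⊥, pull E (zpowers c), pull E A, ⊤]) 3 h := fun i hi => by
    interval_cases i
    · simp [ofList]
    · exact keep_pull hES fun g hg => by rw [hfc g hg]; exact pow_mem hg _
    · exact keep_pull hES hfA
    · simp [ofList]
  obtain ⟨β1, hβ1, hag1⟩ := extend_of_normalize hS hF hE.2.1 hh (normalize_of_keep hS hfa hCE hPE hh hhk)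
  -- extend to `S`
  have hNn : F.IsFullyNormalized NΩ := fullyNormalized_of_normal hNS
  obtain ⟨-, hfaN, -⟩ := fullyNormalized_props hS hF hNn
  set CN := ofList [⊥, pull NΩ (zpowers c), pull NΩ A, pull NΩ M, ⊤]
  have hCN : IsChain CN 4 := ⟨rfl, rfl, fun i hi => by
    interval_cases i
    · exact bot_le
    · exact pull_mono (R.C_le_A T)
    · exact pull_mono R.A_le_M
    · exact le_top⟩
  have hCcN : zpowers c ≤ N := (R.C_le_A T).trans (R.A_le_M.trans R.M_le_N)
  have hflN : IsFlag p CN 4 := fun i hi => by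
    refine ⟨fun j _ v hv => ?_, ?_⟩
    · interval_cases i
      · simp [CN, ofList] at hv ⊢; simp [hv]
      · exact (mem_pull hNS).2 ((R.normalC T).conj_mem _ ((mem_pull hNS).1 hv) ⟨(j : Ω), hNS j.2⟩)
      · exact (mem_pull hNS).2 (R.normalA.conj_mem _ ((mem_pull hNS).1 hv) ⟨(j : Ω), hNS j.2⟩)
      · exact (mem_pull hNS).2 (R.normalM.conj_mem _ ((mem_pull hNS).1 hv) ⟨(j : Ω), hNS j.2⟩)
    · interval_cases i <;>
        simp only [CN, ofList, List.getD_cons_zero, List.getD_cons_succ, card_bot, card_top, Nat.reduceAdd]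
      · rw [card_pull hNS hCcN, R.cardC T, mul_one]
      · rw [card_pull hNS hCcN, card_pull hNS (R.A_le_M.trans R.M_le_N), R.cardC T, R.cardA, pow_two]
      · rw [card_pull hNS (R.A_le_M.trans R.M_le_N), card_pull hNS R.M_le_N, R.cardA, R.cardM]; ring
      · rw [card_pull hNS R.M_le_N, R.cardM, ← card_normalizerIn_eq, R.cardN]; ring
  have hkN : ∀ α ∈ F.autGroup NΩ, Keep CN 4 α := fun α hα i hi => by
    interval_cases i
    · simp [CN, ofList]
    · exact keep_pull hNS fun g hg => (keep_normalizer hF T hE R hα g).2.2 hg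
    · exact keep_pull hNS fun g hg => (keep_normalizer hF T hE R hα g).1 hg
    · exact keep_pull hNS fun g hg => (keep_normalizer hF T hE R hα g).2.1 hg
    · simp [CN, ofList]
  obtain ⟨β2, hβ2, hag2⟩ := extend_of_normalize hS hF hNn hβ1 (normalize_of_keep hS hfaN hCN
    (fun β hβ => triv_of_flag hS hNS hCN hflN hβ (hkN β (autInducedBy_le hNS hβ))) hβ1 (hkN β1 hβ1))
  haveI : (NΩ.subgroupOf S).Normal := R.normalN
  have hNN : normalizerIn S NΩ = S := normalizerIn_eq_of_normal hNS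
  have hmap : IsMap F S (autFun β2) := ((isMap_autFun inf_le_left).mpr hβ2).mono hNN.ge
  obtain ⟨σ, hσ, hσe⟩ := hmap.exists_aut (eq_of_le_of_card_ge hmap.img_le hmap.card_img.ge)
  have hσE : ∀ g : E.subgroupOf S, σ (g : S) = f g := fun g => Subtype.ext (by
    rw [← autFun_apply σ, hσe _ (g : S).2, coe_actHom,
      hag2 _ (le_normalizerIn hES (show ((g : S) : Ω) ∈ E from g.2)), hag1 _ (show ((g : S) : Ω) ∈ E from g.2)])
  have hσN : ∀ g : N, σ (g : S) = actHom hNS β1 g := fun g => Subtype.ext (by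
    rw [← autFun_apply σ, hσe _ (g : S).2, coe_actHom, hag2 _ (show ((g : S) : Ω) ∈ NΩ from g.2)])
  obtain ⟨a, ha, i, hi⟩ := exists_mul_pow ((R.E_eq T).ge
    (show σ e ∈ E.subgroupOf S by rw [hσE ⟨e, R.eE⟩]; exact actHom_mem hES h _))
  obtain ⟨n, hn, ν, hν⟩ := exists_mul_pow ((R.top_eq T).ge (mem_top (σ x)))
  set m := (μ ^ 2).val
  have hyM : σ y ∈ M := by
    rw [show σ y = σ ((⟨y, hyN⟩ : N) : S) from rfl, hσN]
    exact (keep_normalizer hF T hE R hβ1 _).2.1 (R.y_mem_M T)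
  have hy' : (y ^ m)⁻¹ * σ y ∈ A := by
    rw [← R.inf_eq T]
    refine ⟨M.mul_mem (M.inv_mem (pow_mem (R.y_mem_M T) m)) hyM, R.self _ fun b hb => ?_⟩
    obtain ⟨z, rfl⟩ : ∃ z : E.subgroupOf S, σ (z : S) = b := by
      refine ⟨⟨⟨autFun h⁻¹ (b : Ω), hES (autFun_mem _ hb)⟩, autFun_mem _ hb⟩, Subtype.ext ?_⟩
      rw [hσE, coe_actHom]
      exact autFun_inv_apply h hb
    have h1 := hconj ((z : S) : Ω) z.2
    have h2 : σ y * σ (z : S) * (σ y)⁻¹ = y ^ m * σ (z : S) * (y ^ m)⁻¹ := by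
      rw [← map_mul, ← map_inv, ← map_mul]
      have hz' : y * (z : S) * y⁻¹ ∈ E.subgroupOf S := mem_normalizer_subgroupOf hES hyN.2 z.2
      rw [show σ (y * (z : S) * y⁻¹) = f ⟨_, hz'⟩ from hσE ⟨_, hz'⟩, hσE z]
      refine Subtype.ext ?_
      simp only [f, coe_mul, coe_inv, coe_pow, coe_actHom]
      exact h1
    show (y ^ m)⁻¹ * σ y * σ (z : S) = σ (z : S) * ((y ^ m)⁻¹ * σ y)
    calc (y ^ m)⁻¹ * σ y * σ (z : S) = (y ^ m)⁻¹ * (σ y * σ (z : S) * (σ y)⁻¹) * σ y := by group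
      _ = σ (z : S) * ((y ^ m)⁻¹ * σ y) := by rw [h2]; group
  refine ⟨σ, hσ, l, i, ν, m, ⟨⟨a, ha, hi⟩, ⟨n, hn, hν⟩,
    ⟨_, hy', (mul_inv_cancel_left _ _).symm⟩, ?_, hl, hlc, ?_⟩, ZMod.natCast_zmod_val _, ?_⟩
  · exact (hσE ⟨c, R.A_le_E (R.c_mem_A T)⟩).trans (hfc _ (mem_zpowers c))
  · exact (hσE ⟨l, R.A_le_E hl⟩).trans hfl
  intro hμμ α hα g hg q hq w hw
  obtain ⟨u, hu, k0, hgb⟩ := exists_mul_pow ((R.N_eq T).ge (show (⟨g, hg.1⟩ : S) ∈ N from hg))
  obtain ⟨a, ha, k, rfl⟩ := exists_mul_pow ((R.M_eq T).ge hu)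
  obtain ⟨a1, ha1, j, hq1⟩ := exists_mul_pow ((R.E_eq T).ge (show (⟨q, hES hq⟩ : S) ∈ E.subgroupOf S from hq))
  have key : ⁅(⟨g, hg.1⟩ : S), (⟨q, hES hq⟩ : S)⁆ = ⁅y, e ^ (k * j)⁆ := by
    have hqE : (e ^ j * a1) ∈ E.subgroupOf S := mul_mem (pow_mem R.eE j) (R.A_le_E ha1)
    have h1 : ⁅y ^ k * a, e ^ j * a1⁆ = c ^ (k * j) := commutator_pow_mul (R.c_central T)
      (R.centA a ha e (R.e_mem_N T)) (R.centA a1 ha1 y hyN).symm (R.centA a ha a1 (R.E_le_N (R.A_le_E ha1))) k j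
    rw [hgb, hq1, Cfsg.Lib.PGroups.mul_left_commutator, h1, (((R.c_central T (e ^ k0)).pow_left (k * j))).symm.eq,
      mul_inv_cancel_right, commutatorElement_eq_one_iff_mul_comm.2 (comm_coe hab (pow_mem R.eE k0) hqE).eq,
      mul_one, Cfsg.Lib.PGroups.commutator_pow_right_of_commute (R.c_central T e)]
  have hgq : g * q * g⁻¹ * q⁻¹ = (y : Ω) * ((e ^ (k * j) : S) : Ω) * (y : Ω)⁻¹ * ((e ^ (k * j) : S) : Ω)⁻¹ := by
    have := congrArg Subtype.val key
    simpa [commutatorElement_def] using this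
  have hekE : ((e ^ (k * j) : S) : Ω) ∈ E := pow_mem R.eE (k * j)
  have h3 := hplane hμμ α hα _ hekE
  rw [← hgq, ← hw] at h3
  have hwE : w ∈ E.subgroupOf S := by
    show (w : Ω) ∈ E
    rw [hw]
    refine autFun_mem α (E.mul_mem (conj_mem_of_mem_normalizer hg.2 hq) (E.inv_mem hq))
  refine Subtype.ext ?_
  rw [show σ w = f ⟨w, hwE⟩ from hσE ⟨w, hwE⟩, coe_actHom, coe_pow]
  exact h3

end Cfsg.Lib.Fusion.OrderPFive
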