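import Cfsg.Agent.Fusion.OrderPFive.Chain
import Cfsg.Agent.Coprime.Basic
import Cfsg.Agent.Coprime.SolvableBasics
import Cfsg.Agent.PGroups.MaxClass

/-!
Groups of order `p ^ 5` without an abelian subgroup of index `p`.
-/

set_option autoImplicit false
set_option linter.style.haveILetI false
set_option linter.unusedSectionVars false
set_option linter.deprecated false

namespace Cfsg.Lib.Fusion.OrderPFive

open Subgroup
open scoped commutatorElement

universe u

variable {X : Type u} [Group X] {p : ℕ}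

/-- Order `p ^ 5` and no abelian subgroup of index `p`. -/
structure Five (p : ℕ) (X : Type u) [Group X] : Prop where
  card : Nat.card X = p ^ 5
  nab : ∀ A : Subgroup X, (∀ a ∈ A, ∀ b ∈ A, a * b = b * a) → Nat.card A ≠ p ^ 4

variable [Finite X] [hp : Fact p.Prime]

theorem exists_pow (hX : IsPGroup p X) (H : Subgroup X) : ∃ k, Nat.card H = p ^ k :=
  IsPGroup.iff_card.mp (hX.to_subgroup H)

theorem pow_le_of_lt (hX : IsPGroup p X) {H J : Subgroup X} (hlt : H < J) :
    p * Nat.card H ≤ Nat.card J := by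
  obtain ⟨i, hi⟩ := exists_pow hX H
  obtain ⟨j, hj⟩ := exists_pow hX J
  have h : Nat.card H < Nat.card J := lt_of_le_of_ne (card_le_of_le hlt.le) fun e =>
    hlt.ne (eq_of_le_of_card_ge hlt.le e.ge)
  rw [hi, hj] at h ⊢
  rw [← pow_succ']
  exact Nat.pow_le_pow_right hp.out.pos ((Nat.pow_lt_pow_iff_right hp.out.one_lt).1 h)

/-- Between a subgroup and one `p` times as large there is nothing. -/
theorem eq_of_between (hX : IsPGroup p X) {H J K : Subgroup X} (hHK : H ≤ K) (hKJ : K ≤ J)
    (hc : Nat.card J ≤ p * Nat.card H) {w : X} (hw : w ∈ K) (hwH : w ∉ H) : K = J := by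
  have hlt : H < K := lt_of_le_of_ne hHK fun e => hwH (e ▸ hw)
  exact eq_of_le_of_card_ge hKJ (hc.trans (pow_le_of_lt hX hlt))

theorem sup_eq_of_between (hX : IsPGroup p X) {H J : Subgroup X} (hHJ : H ≤ J)
    (hc : Nat.card J ≤ p * Nat.card H) {w : X} (hw : w ∈ J) (hwH : w ∉ H) : H ⊔ zpowers w = J :=
  eq_of_between hX le_sup_left (sup_le hHJ (zpowers_le.2 hw)) hc (mem_sup_right (mem_zpowers w)) hwH

/-- An index `p` step between normal subgroups is central. -/
theorem comm_mem_of_step (hX : IsPGroup p X) {H J : Subgroup X} [H.Normal] [J.Normal] (hHJ : H ≤ J)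
    (hc : Nat.card J = p * Nat.card H) (g : X) {x : X} (hx : x ∈ J) : ⁅g, x⁆ ∈ H := by
  have h := step_of_pElem (α := MulAut.conj g) hHJ (fun j _ h hh => ‹H.Normal›.conj_mem h hh j) hc
    (fun y hy => ‹J.Normal›.conj_mem y hy g) (fun y hy => ‹H.Normal›.conj_mem y hy g) (by
      obtain ⟨k, hk⟩ := hX g
      exact ⟨k, by rw [← map_pow, hk, map_one]⟩) x hx
  rwa [MulAut.conj_apply, ← commutatorElement_def] at h

theorem comm_mem_of_step' (hX : IsPGroup p X) {H J : Subgroup X} [H.Normal] [J.Normal] (hHJ : H ≤ J)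
    (hc : Nat.card J = p * Nat.card H) {x : X} (hx : x ∈ J) (g : X) : ⁅x, g⁆ ∈ H := by
  rw [← commutatorElement_inv]
  exact H.inv_mem (comm_mem_of_step hX hHJ hc g hx)

/-- A normal subgroup of order `p` is central. -/
theorem mem_center_of_card (hX : IsPGroup p X) {J : Subgroup X} [J.Normal] (hc : Nat.card J = p) {x : X}
    (hx : x ∈ J) : x ∈ center X := by
  refine mem_center_iff.2 fun g => ?_
  have h := comm_mem_of_step hX (H := (⊥ : Subgroup X)) bot_le (by rw [card_bot, mul_one, hc]) g hx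
  exact commutatorElement_eq_one_iff_mul_comm.mp (mem_bot.mp h)

theorem pow_mem_of_card {H J : Subgroup X} [H.Normal] (hHJ : H ≤ J) (hc : Nat.card J = p * Nat.card H)
    {x : X} (hx : x ∈ J) : x ^ p ∈ H := by
  have hidx : (H.subgroupOf J).index = p := by
    have h := (H.subgroupOf J).card_mul_index
    rw [Nat.card_congr (subgroupOfEquivOfLe hHJ).toEquiv, hc, mul_comm p] at h
    exact Nat.eq_of_mul_eq_mul_left Nat.card_pos h
  have h := pow_index_mem (H.subgroupOf J) (⟨x, hx⟩ : J)
  rw [hidx] at h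
  simpa [mem_subgroupOf] using h

/-- The order of a subgroup extended by one element. -/
theorem card_sup_zpowers {H : Subgroup X} [H.Normal] {w : X} (hw : w ∉ H) (hwp : w ^ p ∈ H) :
    Nat.card (H ⊔ zpowers w : Subgroup X) = p * Nat.card H := by
  set π := QuotientGroup.mk' H
  have hne : π w ≠ 1 := fun e => hw ((QuotientGroup.eq_one_iff w).1 e)
  have ho : orderOf (π w) = p := orderOf_eq_prime
    (by rw [← map_pow]; exact (QuotientGroup.eq_one_iff _).2 hwp) hne
  have hmap : (H ⊔ zpowers w).map π = zpowers (π w) := by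
    rw [Subgroup.map_sup, (Subgroup.map_eq_bot_iff _).2 (by rw [QuotientGroup.ker_mk']), bot_sup_eq, MonoidHom.map_zpowers]
  have h := (π.comp (H ⊔ zpowers w).subtype).ker.card_mul_index
  rw [index_ker, MonoidHom.range_comp, range_subtype, hmap, Nat.card_zpowers, ho,
    ← MonoidHom.comap_ker, QuotientGroup.ker_mk',
    show Nat.card (H.comap (H ⊔ zpowers w).subtype) = Nat.card H from
      Nat.card_congr (subgroupOfEquivOfLe (le_sup_left : H ≤ _)).toEquiv] at h
  rw [← h, mul_comm]

/-- Elements of a cyclic extension. -/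
theorem exists_mul_pow {H : Subgroup X} [H.Normal] {w x : X} (hx : x ∈ H ⊔ zpowers w) :
    ∃ h ∈ H, ∃ i : ℕ, x = w ^ i * h := by
  obtain ⟨k, hk, h, hh, e⟩ := (Cfsg.Lib.Coprime.mem_sup_of_le_normalizer' (Subgroup.le_normalizer_of_normal)).1 hx
  obtain ⟨j, rfl⟩ := mem_powers_iff_mem_zpowers.2 hk
  exact ⟨h, hh, j, e.symm⟩

/-- A central element one step up. -/
theorem exists_step (hX : IsPGroup p X) {H J : Subgroup X} [H.Normal] [J.Normal] (hlt : H < J) :
    ∃ w ∈ J, w ∉ H ∧ w ^ p ∈ H ∧ ∀ g, ⁅w, g⁆ ∈ H := by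
  set π := QuotientGroup.mk' H
  haveI : (J.map π).Normal := Normal.map inferInstance π (QuotientGroup.mk'_surjective H)
  have hb : J.map π ≠ ⊥ := fun e => hlt.not_ge (by
    rw [Subgroup.map_eq_bot_iff, QuotientGroup.ker_mk'] at e
    exact e)
  haveI := (hX.to_quotient H).isNilpotent
  obtain ⟨⟨q, hq⟩, hq1⟩ := ne_bot_iff_exists_ne_one.1 (Cfsg.Lib.Coprime.inf_center_ne_bot (J.map π) hb)
  obtain ⟨k, hk⟩ := (hX.to_quotient H) q
  obtain ⟨m, -, hm⟩ := (Nat.dvd_prime_pow hp.out).1 (orderOf_dvd_of_pow_eq_one hk)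
  have hm0 : m ≠ 0 := fun e => hq1 (Subtype.ext (orderOf_eq_one_iff.1 (by rw [hm, e, pow_zero])))
  have hmem := pow_mem hq (p ^ (m - 1))
  obtain ⟨⟨w, hw, hwe⟩, hwc⟩ := hmem
  refine ⟨w, hw, fun hwH => ?_, ?_, fun g => ?_⟩
  · have h1 : q ^ p ^ (m - 1) = 1 := hwe ▸ (QuotientGroup.eq_one_iff w).2 hwH
    have h2 := orderOf_dvd_of_pow_eq_one h1
    rw [hm, Nat.pow_dvd_pow_iff_le_right hp.out.one_lt] at h2
    omega
  · refine (QuotientGroup.eq_one_iff _).1 ?_
    show π (w ^ p) = 1
    rw [map_pow, hwe, ← pow_mul, ← pow_succ, Nat.sub_add_cancel (Nat.one_le_iff_ne_zero.2 hm0), ← hm,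
      pow_orderOf_eq_one]
  · refine (QuotientGroup.eq_one_iff _).1 ?_
    show π ⁅w, g⁆ = 1
    rw [map_commutatorElement, hwe, commutatorElement_eq_one_iff_mul_comm]
    exact ((mem_center_iff.1 hwc) (π g)).symm

namespace Five

variable (T : Five p X)
include T

theorem isP : IsPGroup p X := IsPGroup.of_card T.card

theorem not_comm {A : Subgroup X} (hc : Nat.card A = p ^ 4) : ∃ a ∈ A, ∃ b ∈ A, a * b ≠ b * a := by
  by_contra h
  push Not at h
  exact T.nab A h hc

/-- The centre has order `p` or `p ^ 2`. -/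
theorem card_center : Nat.card (center X) = p ∨ Nat.card (center X) = p ^ 2 := by
  obtain ⟨k, hk⟩ := exists_pow T.isP (center X)
  haveI : Nontrivial X := Finite.one_lt_card_iff_nontrivial.1 (T.card ▸ Nat.one_lt_pow (by norm_num) hp.out.one_lt)
  haveI := T.isP.center_nontrivial
  have h1 := Finite.one_lt_card (α := center X)
  have hk5 : k ≤ 5 := by
    have := card_le_card_group (center X)
    rw [hk, T.card] at this
    exact (Nat.pow_le_pow_iff_right hp.out.one_lt).1 this
  have h0 : k ≠ 0 := fun e => by rw [hk, e, pow_zero] at h1; omega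
  suffices hk2 : k ≤ 2 by
    rcases (show k = 1 ∨ k = 2 by omega) with h | h
    · left; rw [hk, h, pow_one]
    · right; rw [hk, h]
  by_contra h
  -- a normal subgroup of order `p ^ 4` over a large centre
  obtain ⟨A, hA⟩ := Sylow.exists_subgroup_card_pow_prime_of_le_card (n := 4) hp.out T.isP
    (by rw [T.card]; exact Nat.pow_le_pow_right hp.out.pos (by norm_num))
  rcases (show k = 3 ∨ k = 4 ∨ k = 5 by omega) with hk3 | hk4 | hk5
  · have hlt : center X < ⊤ := lt_top_iff_ne_top.2 fun e => by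
      rw [e, card_top, T.card, hk3] at hk
      exact absurd (Nat.pow_right_injective hp.out.two_le hk) (by norm_num)
    obtain ⟨w, -, hw, hwp, -⟩ := exists_step T.isP hlt
    refine T.nab _ (fun a ha b hb => ?_) ((card_sup_zpowers hw hwp).trans (by rw [hk, hk3, ← pow_succ']))
    obtain ⟨z, hz, i, rfl⟩ := exists_mul_pow ha
    obtain ⟨z', hz', j, rfl⟩ := exists_mul_pow hb
    have c1 : ∀ g, Commute z g := fun g => (mem_center_iff.1 hz g).symm
    have c2 : ∀ g, Commute z' g := fun g => (mem_center_iff.1 hz' g).symm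
    exact (((Commute.pow_pow_self w i j).mul_left (c1 _)).mul_right ((c2 _).symm)).eq
  · exact T.nab _ (fun a ha b _ => (mem_center_iff.1 ha b).symm) (by rw [hk, hk4])
  · refine T.nab A (fun a _ b _ => ?_) hA
    have e : center X = ⊤ := eq_top_of_card_eq _ (by rw [hk, hk5, T.card])
    exact mem_center_iff.1 (e ▸ mem_top b) a

/-- The centre of a self-centralizing nonabelian subgroup of order `p ^ 3` or `p ^ 4` meets the centre
of `X` in an invariant subgroup. -/
theorem center_invariant {Q : Subgroup X} (hnc : ∃ a ∈ Q, ∃ b ∈ Q, a * b ≠ b * a) (hZ : center X ≤ Q)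
    (hc : Nat.card Q = p ^ 3 ∨ Nat.card Q = p ^ 4) (α : MulAut Q) (z : Q) (hz : (z : X) ∈ center X) :
    ((α z : Q) : X) ∈ center X := by
  set Zq := (center Q).map Q.subtype
  have hZq : center X ≤ Zq := fun w hw =>
    ⟨⟨w, hZ hw⟩, mem_center_iff.2 fun q => Subtype.ext (mem_center_iff.1 hw q), rfl⟩
  have hα : ∀ w ∈ center Q, α w ∈ center Q := fun w hw => mem_center_iff.2 fun q => by
    have := congrArg α (mem_center_iff.1 hw (α.symm q))
    simpa using this
  have hzq : z ∈ center Q := mem_center_iff.2 fun q => Subtype.ext (mem_center_iff.1 hz q)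
  by_cases he : center X = Zq
  · rw [he]; exact ⟨α z, hα z hzq, rfl⟩
  have hlt : center X < Zq := lt_of_le_of_ne hZq he
  have hcq : Nat.card Zq = Nat.card (center Q) := card_map_of_injective Q.subtype_injective
  obtain ⟨i, hi⟩ := IsPGroup.iff_card.mp ((T.isP.to_subgroup Q).to_quotient (center Q))
  have hi2 : 2 ≤ i := by
    by_contra hi'
    obtain ⟨a, ha, b, hb, hab⟩ := hnc
    haveI : IsCyclic (Q ⧸ center Q) := by
      rcases (show i = 0 ∨ i = 1 by omega) with rfl | rfl
      · haveI : Subsingleton (Q ⧸ center Q) := (Nat.card_eq_one_iff_unique.1 (by rw [hi, pow_zero])).1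
        exact isCyclic_of_subsingleton
      · exact isCyclic_of_prime_card (p := p) (by rw [hi, pow_one])
    exact hab (congrArg Subtype.val (commutative_of_cyclic_center_quotient (QuotientGroup.mk' (center Q))
      (le_of_eq (QuotientGroup.ker_mk' _)) (⟨a, ha⟩ : Q) ⟨b, hb⟩))
  have hmul := card_eq_card_quotient_mul_card_subgroup (center Q)
  obtain ⟨j, hj⟩ := IsPGroup.iff_card.mp ((T.isP.to_subgroup Q).to_subgroup (center Q))
  rw [hi, hj, ← pow_add] at hmul
  have hjlow : 2 ≤ j := by
    have h := pow_le_of_lt T.isP hlt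
    rw [hcq, hj] at h
    rcases T.card_center with h' | h' <;> rw [h'] at h <;>
      first
      | (rw [← pow_two] at h; exact (Nat.pow_le_pow_iff_right hp.out.one_lt).1 h)
      | (rw [← pow_succ'] at h; exact le_trans (by norm_num) ((Nat.pow_le_pow_iff_right hp.out.one_lt).1 h))
  have h4 : Nat.card Q = p ^ 4 ∧ i = 2 ∧ j = 2 := by
    rcases hc with h | h <;> rw [hmul] at h <;> have e := Nat.pow_right_injective hp.out.two_le h
    · omega
    · exact ⟨by rw [hmul, e], by omega, by omega⟩
  obtain ⟨hQ4, rfl, rfl⟩ := h4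
  have hZc : Nat.card (center X) = p := by
    refine T.card_center.resolve_right fun h => ?_
    have h' := pow_le_of_lt T.isP hlt
    rw [hcq, hj, h] at h'
    nlinarith [hp.out.two_le, pow_pos hp.out.pos 2]
  haveI hQn : Q.Normal := normal_of_index_eq_minFac_card (by
    have h := Q.card_mul_index
    rw [hQ4, T.card, pow_succ p 4] at h
    rw [Nat.eq_of_mul_eq_mul_left (pow_pos hp.out.pos 4) h, T.card, Nat.pow_minFac (by norm_num),
      hp.out.minFac_eq])
  -- the derived subgroup
  haveI hQc : IsMulCommutative (Q ⧸ center Q) := IsPGroup.isMulCommutative_of_card_eq_prime_sq (p := p) hi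
  have hcc : ∀ a b : Q, ⁅a, b⁆ ∈ center Q := fun a b => by
    refine (QuotientGroup.eq_one_iff _).1 ?_
    show QuotientGroup.mk' (center Q) ⁅a, b⁆ = 1
    rw [map_commutatorElement, commutatorElement_eq_one_iff_mul_comm]
    exact mul_comm' _ _
  have hQP := T.isP.to_subgroup Q
  obtain ⟨w, -, hw, hwp, -⟩ := exists_step hQP (lt_top_iff_ne_top.2 fun e : center Q = ⊤ => by
    rw [e, card_top, hQ4] at hj
    exact absurd (Nat.pow_right_injective hp.out.two_le hj) (by norm_num))
  set A1 : Subgroup Q := center Q ⊔ zpowers w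
  have hA1c : Nat.card A1 = p * Nat.card (center Q) := card_sup_zpowers hw hwp
  haveI : A1.Normal := ⟨fun v hv g => by
    have h := A1.mul_mem (mem_sup_left (hcc g v)) hv
    rwa [commutatorElement_def, inv_mul_cancel_right] at h⟩
  have hA1ab : ∀ u ∈ A1, ∀ v ∈ A1, u * v = v * u := fun u hu v hv => by
    obtain ⟨z0, hz0, k, rfl⟩ := exists_mul_pow hu
    obtain ⟨z1, hz1, l, rfl⟩ := exists_mul_pow hv
    have c0 : ∀ g, Commute z0 g := fun g => (mem_center_iff.1 hz0 g).symm
    have c1 : ∀ g, Commute z1 g := fun g => (mem_center_iff.1 hz1 g).symm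
    exact (((Commute.pow_pow_self w k l).mul_left (c0 _)).mul_right ((c1 _).symm)).eq
  have hA1lt : A1 < ⊤ := lt_top_iff_ne_top.2 fun e => by
    rw [e, card_top, hQ4, hj, ← pow_succ'] at hA1c
    exact absurd (Nat.pow_right_injective hp.out.two_le hA1c) (by norm_num)
  obtain ⟨b, -, hb⟩ := SetLike.exists_of_lt hA1lt
  have htop : A1 ⊔ zpowers b = ⊤ :=
    sup_eq_of_between hQP le_top (by rw [card_top, hQ4, hA1c, hj]; ring_nf; rfl) (mem_top b) hb
  have hcom : Nat.card (commutator Q) = p := by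
    have h := Cfsg.Lib.MaxClass.card_commutator_mul_card_center A1 hA1ab b htop le_sup_left
    rw [hA1c] at h
    exact Nat.eq_of_mul_eq_mul_right Nat.card_pos h
  set D := (commutator Q).map Q.subtype
  haveI : D.Normal := by
    rw [show D = ⁅Q, Q⁆ from Subgroup.map_subtype_commutator Q]
    infer_instance
  have hDc : Nat.card D = p := (card_map_of_injective Q.subtype_injective).trans hcom
  have hDZ : D = center X := eq_of_le_of_card_ge
    (fun v hv => mem_center_of_card T.isP hDc hv) (by rw [hZc, hDc])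
  rw [← hDZ] at hz ⊢
  obtain ⟨v, hv, hvz⟩ := hz
  rw [show z = v from Subtype.ext hvz.symm]
  exact ⟨α v, (characteristic_iff_map_le.1 (inferInstance : (commutator Q).Characteristic) α) ⟨v, hv, rfl⟩, rfl⟩

end Five

end Cfsg.Lib.Fusion.OrderPFive
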