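import Cfsg.Agent.Fusion.OrderPFive.Site
import Cfsg.Agent.Fusion.OrderPFive.Five

/-!
Passing between subgroups of the ambient group and subgroups of `S`, and elementary consequences for
abelian essential subgroups.
-/

set_option autoImplicit false
set_option linter.style.haveILetI false
set_option linter.unusedSectionVars false
set_option linter.unusedVariables false

namespace Cfsg.Lib.Fusion.OrderPFive

open Subgroup Cfsg Cfsg.FusionSystem Cfsg.Lib.Fusion
open scoped commutatorElement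

universe u

variable {Ω : Type u} [Group Ω] {S : Subgroup Ω} {F : FusionSystem S} {p : ℕ}

/-- A chain given by a list. -/
def ofList {Q : Type*} [Group Q] (l : List (Subgroup Q)) (i : ℕ) : Subgroup Q := l.getD i ⊤

/-- A subgroup of `S` seen in `Q`. -/
def pull (Q : Subgroup Ω) (K : Subgroup S) : Subgroup Q := (K.map S.subtype).subgroupOf Q

theorem mem_pull {Q : Subgroup Ω} (hQ : Q ≤ S) {K : Subgroup S} {q : Q} :
    q ∈ pull Q K ↔ (⟨(q : Ω), hQ q.2⟩ : S) ∈ K := by
  constructor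
  · rintro ⟨k, hk, e⟩
    rwa [show (⟨(q : Ω), hQ q.2⟩ : S) = k from Subtype.ext e.symm]
  · exact fun h => ⟨_, h, rfl⟩

theorem pull_mono {Q : Subgroup Ω} {H K : Subgroup S} (h : H ≤ K) : pull Q H ≤ pull Q K :=
  fun _ hq => Subgroup.map_mono h hq

theorem pull_bot {Q : Subgroup Ω} : pull Q (⊥ : Subgroup S) = ⊥ := by
  rw [pull, Subgroup.map_bot, Subgroup.bot_subgroupOf]

theorem card_pull {Q : Subgroup Ω} (hQ : Q ≤ S) {K : Subgroup S} (hK : K ≤ Q.subgroupOf S) :
    Nat.card (pull Q K) = Nat.card K := by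
  have hle : K.map S.subtype ≤ Q := by
    rintro _ ⟨k, hk, rfl⟩
    exact hK hk
  rw [pull, Nat.card_congr (subgroupOfEquivOfLe hle).toEquiv, card_map_of_injective S.subtype_injective]

theorem pull_eq_top {Q : Subgroup Ω} (hQ : Q ≤ S) : pull Q (Q.subgroupOf S) = ⊤ :=
  eq_top_iff.2 fun q _ => (mem_pull hQ).2 q.2

theorem pull_normal {Q : Subgroup Ω} (hQ : Q ≤ S) {H J : Subgroup S}
    (h : ∀ j ∈ J, ∀ x ∈ H, j * x * j⁻¹ ∈ H) :
    ∀ j ∈ pull Q J, ∀ x ∈ pull Q H, j * x * j⁻¹ ∈ pull Q H := fun j hj x hx =>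
  (mem_pull hQ).2 (h _ ((mem_pull hQ).1 hj) _ ((mem_pull hQ).1 hx))

/-- An automorphism of `Q` on the elements of `S` inside `Q`. -/
def actHom {Q : Subgroup Ω} (hQ : Q ≤ S) (α : MulAut Q) : Q.subgroupOf S →* S :=
  (Subgroup.inclusion hQ).comp (α.toMonoidHom.comp (subgroupOfEquivOfLe hQ).toMonoidHom)

theorem coe_actHom {Q : Subgroup Ω} (hQ : Q ≤ S) (α : MulAut Q) (g : Q.subgroupOf S) :
    ((actHom hQ α g : S) : Ω) = autFun α ((g : S) : Ω) := by
  rw [autFun_apply_mem α (show ((g : S) : Ω) ∈ Q from g.2)]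
  rfl

theorem actHom_mem {Q : Subgroup Ω} (hQ : Q ≤ S) (α : MulAut Q) (g : Q.subgroupOf S) :
    actHom hQ α g ∈ Q.subgroupOf S := (α _).2

theorem keep_pull {Q : Subgroup Ω} (hQ : Q ≤ S) {K : Subgroup S} {α : MulAut Q}
    (h : ∀ g : Q.subgroupOf S, (g : S) ∈ K → actHom hQ α g ∈ K) :
    ∀ q ∈ pull Q K, α q ∈ pull Q K := fun q hq =>
  (mem_pull hQ).2 (h ⟨⟨q, hQ q.2⟩, q.2⟩ ((mem_pull hQ).1 hq))

variable [Finite S] [hp : Fact p.Prime]

theorem five_of (hcard : Nat.card S = p ^ 5)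
    (hNA : ¬ ∃ A : Subgroup Ω, A ≤ S ∧ IsMulCommutative ↥A ∧ (A.subgroupOf S).index = p) :
    Five p S where
  card := hcard
  nab A hA hc := hNA ⟨A.map S.subtype, map_subtype_le A, ⟨⟨by
    rintro ⟨_, a, ha, rfl⟩ ⟨_, b, hb, rfl⟩
    refine Subtype.ext ?_
    show ((a : Ω) * b) = b * a
    exact congrArg Subtype.val (hA a ha b hb)⟩⟩, by
      rw [subgroupOf, comap_map_eq_self_of_injective S.subtype_injective]
      have h := A.card_mul_index
      rw [hc, hcard, pow_succ p 4] at h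
      exact Nat.eq_of_mul_eq_mul_left (pow_pos hp.out.pos 4) h⟩

theorem self_of_centric {Q : Subgroup Ω} (hQ : F.IsCentric Q) {g : S}
    (h : ∀ a ∈ Q.subgroupOf S, Commute g a) : g ∈ Q.subgroupOf S :=
  hQ.2 Q (isConj_refl hQ.1) (mem_centralizerIn.2 ⟨g.2, fun x hx => by
    have e := congrArg Subtype.val (h ⟨x, hQ.1 hx⟩ hx).eq
    simp only [coe_mul] at e
    show (g : Ω) * x * (g : Ω)⁻¹ = x
    rw [e, mul_inv_cancel_right]⟩)

theorem center_le_of_centric {Q : Subgroup Ω} (hQ : F.IsCentric Q) : center S ≤ Q.subgroupOf S :=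
  fun _ hz => self_of_centric hQ fun a _ => (mem_center_iff.1 hz a).symm

theorem card_subgroupOf_eq {Q : Subgroup Ω} (hQ : Q ≤ S) : Nat.card (Q.subgroupOf S) = Nat.card Q :=
  Nat.card_congr (subgroupOfEquivOfLe hQ).toEquiv

theorem card_normalizerIn_eq (Q : Subgroup Ω) :
    Nat.card ((normalizerIn S Q).subgroupOf S) = Nat.card (normalizerIn S Q) :=
  card_subgroupOf_eq inf_le_left

theorem mem_normalizerIn_of_normal {Q : Subgroup Ω} (hQ : Q ≤ S) [hn : (Q.subgroupOf S).Normal] {g : Ω}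
    (hg : g ∈ S) : g ∈ normalizerIn S Q := by
  haveI := finite_of_le hQ
  exact ⟨hg, mem_normalizer_of_maps_finite fun x hx => hn.conj_mem ⟨x, hQ hx⟩ hx ⟨g, hg⟩⟩

theorem normalizerIn_eq_of_normal {Q : Subgroup Ω} (hQ : Q ≤ S) [(Q.subgroupOf S).Normal] :
    normalizerIn S Q = S := le_antisymm inf_le_left fun _ hg => mem_normalizerIn_of_normal hQ hg

theorem fullyNormalized_of_normal {Q : Subgroup Ω} (hQ : Q ≤ S) [(Q.subgroupOf S).Normal] :
    F.IsFullyNormalized Q := ⟨hQ, fun R _ => by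
  rw [normalizerIn_eq_of_normal hQ]
  exact card_le_of_le inf_le_left⟩

/-- A chain kept by the whole automizer of an essential subgroup is no flag. -/
theorem false_of_flag (hS : IsPGroup p S) (hF : F.IsSaturated p) {Q : Subgroup Ω}
    (hQ : F.IsEssential p Q) {C : ℕ → Subgroup Q} {n : ℕ} (hC : IsChain C n) (hfl : IsFlag p C n)
    (hk : ∀ α ∈ F.autGroup Q, Keep C n α) : False := by
  obtain ⟨-, hfa, -⟩ := fullyNormalized_props hS hF hQ.2.1
  exact not_normalize_of_essential hS hF hQ fun α hα => normalize_of_keep hS hfa hC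
    (fun β hβ => triv_of_flag hS hQ.1.1 hC hfl hβ (hk β (autInducedBy_le hQ.1.1 hβ))) hα (hk α hα)

/-- Small abelian essential subgroups are elementary. -/
theorem exp_of_essential (hS : IsPGroup p S) (hF : F.IsSaturated p) {Q : Subgroup Ω}
    (hQ : F.IsEssential p Q) (hab : ∀ a ∈ Q, ∀ b ∈ Q, a * b = b * a)
    (hc : Nat.card Q = p ^ 2 ∨ Nat.card Q = p ^ 3) : ∀ a ∈ Q, a ^ p = 1 := by
  haveI := finite_of_le hQ.1.1
  letI : CommGroup Q :=
    { (inferInstance : Group Q) with mul_comm := fun a b => Subtype.ext (hab a a.2 b b.2) }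
  set f : Q →* Q := powMonoidHom p
  by_contra hne
  push Not at hne
  obtain ⟨a, ha, hap⟩ := hne
  have hQp : IsPGroup p Q := hS.to_le hQ.1.1
  have hconj : ∀ H J : Subgroup Q, ∀ j ∈ J, ∀ h ∈ H, j * h * j⁻¹ ∈ H := fun H J j _ h hh => by
    rwa [mul_comm j h, mul_inv_cancel_right]
  obtain ⟨k, hk⟩ := exists_pow hQp f.ker
  obtain ⟨r, hr⟩ := exists_pow hQp f.range
  have hmul := f.ker.card_mul_index
  rw [index_ker, hk, hr, ← pow_add] at hmul
  have hr0 : r ≠ 0 := fun e => hap (congrArg Subtype.val (show (⟨a, ha⟩ : Q) ^ p = 1 from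
    mem_bot.1 ((card_eq_one.1 (by rw [hr, e, pow_zero]) : f.range = ⊥) ▸ ⟨⟨a, ha⟩, rfl⟩)))
  obtain ⟨b, hb⟩ := exists_prime_orderOf_dvd_card' p (show p ∣ Nat.card f.range by
    rw [hr]; exact dvd_pow_self p hr0)
  have hbk : (b : Q) ∈ f.ker := MonoidHom.mem_ker.2 (show (b : Q) ^ p = 1 by
    rw [← hb, ← Subgroup.orderOf_coe, pow_orderOf_eq_one])
  have hk0 : k ≠ 0 := fun e => by
    rw [(card_eq_one.1 (by rw [hk, e, pow_zero]) : f.ker = ⊥), mem_bot] at hbk
    rw [← Subgroup.orderOf_coe, hbk, orderOf_one] at hb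
    exact hp.out.one_lt.ne hb
  have hkeep : ∀ α : MulAut Q, (∀ q ∈ f.ker, α q ∈ f.ker) ∧ ∀ q ∈ f.range, α q ∈ f.range := fun α =>
    ⟨fun q hq => MonoidHom.mem_ker.2 (show (α q) ^ p = 1 by
      rw [← map_pow, show q ^ p = 1 from MonoidHom.mem_ker.1 hq, map_one]), by
      rintro _ ⟨q, rfl⟩
      exact ⟨α q, (map_pow α q p).symm⟩⟩
  have hsmall : r = 1 → f.range ≤ f.ker := fun h w hw => MonoidHom.mem_ker.2 (show w ^ p = 1 from
    congrArg Subtype.val (show (⟨w, hw⟩ : f.range) ^ p = 1 by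
      rw [show p = Nat.card f.range by rw [hr, h, pow_one], pow_card_eq_one']))
  have hbig : k = 1 → f.ker ≤ f.range := fun h => by
    have e : zpowers (b : Q) = f.ker := eq_of_le_of_card_ge (zpowers_le.2 hbk) (by
      rw [Nat.card_zpowers, Subgroup.orderOf_coe, hb, hk, h, pow_one])
    exact e ▸ zpowers_le.2 b.2
  rcases hc with hc | hc <;> rw [hc] at hmul <;> have e := Nat.pow_right_injective hp.out.two_le hmul
  · refine false_of_flag hS hF hQ (C := ofList [⊥, f.ker, ⊤]) (n := 2)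
      ⟨rfl, rfl, fun i hi => ?_⟩ (fun i hi => ⟨hconj _ _, ?_⟩) fun α _ i hi => ?_
    · interval_cases i <;> simp [ofList]
    · interval_cases i <;>
        simp only [ofList, List.getD_cons_zero, List.getD_cons_succ, List.getD_nil, card_bot, card_top,
          Nat.reduceAdd] <;> simp only [hk, hc, show k = 1 by omega] <;> ring
    · interval_cases i
      · simp [ofList]
      · exact (hkeep α).1
      · simp [ofList]
  · rcases (show (k = 2 ∧ r = 1) ∨ (k = 1 ∧ r = 2) by omega) with ⟨h1, h2⟩ | ⟨h1, h2⟩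
    · refine false_of_flag hS hF hQ (C := ofList [⊥, f.range, f.ker, ⊤]) (n := 3)
        ⟨rfl, rfl, fun i hi => ?_⟩ (fun i hi => ⟨hconj _ _, ?_⟩) fun α _ i hi => ?_
      · interval_cases i <;> simp [ofList, hsmall h2]
      · interval_cases i <;>
          simp only [ofList, List.getD_cons_zero, List.getD_cons_succ, List.getD_nil, card_bot, card_top,
            Nat.reduceAdd] <;> simp only [hk, hr, hc, h1, h2] <;> ring
      · interval_cases i
        · simp [ofList]
        · exact (hkeep α).2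
        · exact (hkeep α).1
        · simp [ofList]
    · refine false_of_flag hS hF hQ (C := ofList [⊥, f.ker, f.range, ⊤]) (n := 3)
        ⟨rfl, rfl, fun i hi => ?_⟩ (fun i hi => ⟨hconj _ _, ?_⟩) fun α _ i hi => ?_
      · interval_cases i <;> simp [ofList, hbig h1]
      · interval_cases i <;>
          simp only [ofList, List.getD_cons_zero, List.getD_cons_succ, List.getD_nil, card_bot, card_top,
            Nat.reduceAdd] <;> simp only [hk, hr, hc, h1, h2] <;> ring
      · interval_cases i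
        · simp [ofList]
        · exact (hkeep α).1
        · exact (hkeep α).2
        · simp [ofList]

end Cfsg.Lib.Fusion.OrderPFive
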