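import Cfsg.Agent.Fusion.EssentialShape
import Cfsg.Agent.PGroups.Commutators

/-!
Automorphisms of a `p`-group that stabilize a chain of subgroups, and commutators of powers.
-/

set_option autoImplicit false
set_option linter.style.haveILetI false
set_option linter.unusedVariables false

namespace Cfsg.Lib.Fusion.OrderPFive

open Subgroup
open scoped commutatorElement

universe u

variable {Q : Type u} [Group Q] {p : ℕ}

/-- A chain from the trivial subgroup to the whole group. -/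
structure IsChain (C : ℕ → Subgroup Q) (n : ℕ) : Prop where
  bot : C 0 = ⊥
  top : C n = ⊤
  mono : ∀ i < n, C i ≤ C (i + 1)

/-- `α` maps every member of the chain into itself. -/
def Keep (C : ℕ → Subgroup Q) (n : ℕ) (α : MulAut Q) : Prop := ∀ i ≤ n, ∀ x ∈ C i, α x ∈ C i

/-- `α` is trivial on every factor of the chain. -/
def Triv (C : ℕ → Subgroup Q) (n : ℕ) (α : MulAut Q) : Prop :=
  ∀ i < n, ∀ x ∈ C (i + 1), α x * x⁻¹ ∈ C i

variable {C : ℕ → Subgroup Q} {n : ℕ} {α β : MulAut Q}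

theorem Triv.keep (hC : IsChain C n) (h : Triv C n α) : Keep C n α := by
  intro i hi x hx
  rcases i with _ | j
  · rw [hC.bot, mem_bot] at hx ⊢
    rw [hx, map_one]
  · have := (C (j + 1)).mul_mem (hC.mono j (by omega) (h j (by omega) x hx)) hx
    rwa [inv_mul_cancel_right] at this

theorem Keep.mul (h : Keep C n α) (h' : Keep C n β) : Keep C n (α * β) := fun i hi x hx =>
  h i hi _ (h' i hi x hx)

theorem keep_one : Keep C n (1 : MulAut Q) := fun _ _ _ hx => hx

theorem Keep.pow (h : Keep C n α) : ∀ k : ℕ, Keep C n (α ^ k)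
  | 0 => keep_one
  | k + 1 => pow_succ' α k ▸ h.mul (Keep.pow h k)

theorem finite_mulAut [Finite Q] : Finite (MulAut Q) :=
  Finite.of_injective (fun f : MulAut Q => (f : Q → Q)) DFunLike.coe_injective

theorem Keep.inv [Finite Q] (h : Keep C n α) : Keep C n α⁻¹ := by
  haveI := finite_mulAut (Q := Q)
  have e : α⁻¹ = α ^ (orderOf α - 1) := by
    refine inv_eq_of_mul_eq_one_right ?_
    rw [← pow_succ', Nat.sub_add_cancel (orderOf_pos α), pow_orderOf_eq_one]
  rw [e]
  exact h.pow _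

theorem Triv.mul (hC : IsChain C n) (h : Triv C n α) (h' : Triv C n β) : Triv C n (α * β) := by
  intro i hi x hx
  have h1 := (C i).mul_mem (h i hi (β x) (h'.keep hC (i + 1) (by omega) x hx)) (h' i hi x hx)
  rwa [mul_assoc, inv_mul_cancel_left] at h1

theorem triv_one : Triv C n (1 : MulAut Q) := fun i _ x _ => by simp [(C i).one_mem]

theorem Triv.pow (hC : IsChain C n) (h : Triv C n α) : ∀ k : ℕ, Triv C n (α ^ k)
  | 0 => triv_one
  | k + 1 => pow_succ' α k ▸ h.mul hC (Triv.pow hC h k)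

theorem Triv.inv [Finite Q] (hC : IsChain C n) (h : Triv C n α) : Triv C n α⁻¹ := by
  haveI := finite_mulAut (Q := Q)
  have e : α⁻¹ = α ^ (orderOf α - 1) := by
    refine inv_eq_of_mul_eq_one_right ?_
    rw [← pow_succ', Nat.sub_add_cancel (orderOf_pos α), pow_orderOf_eq_one]
  rw [e]
  exact h.pow hC _

/-- The stabilizer of a chain. -/
def stab [Finite Q] (hC : IsChain C n) : Subgroup (MulAut Q) where
  carrier := {α | Triv C n α}
  one_mem' := triv_one
  mul_mem' := Triv.mul hC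
  inv_mem' := Triv.inv hC

theorem mem_stab [Finite Q] {hC : IsChain C n} : α ∈ stab hC ↔ Triv C n α := Iff.rfl

theorem Triv.conj [Finite Q] (hC : IsChain C n) (ha : Keep C n α) (h : Triv C n β) :
    Triv C n (α * β * α⁻¹) := by
  intro i hi x hx
  have hy := ha.inv (i + 1) (by omega) x hx
  have := ha i hi.le _ (h i hi _ hy)
  rwa [map_mul, map_inv, MulAut.apply_inv_self] at this

/-- The stabilizer of a chain is a `p`-group. -/
theorem isPGroup_stab [Finite Q] [Fact p.Prime] (hQ : IsPGroup p Q) (hC : IsChain C n) :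
    IsPGroup p (stab hC) := by
  obtain ⟨N, hN⟩ := IsPGroup.iff_card.mp hQ
  rintro ⟨α, hα⟩
  suffices h : ∀ i ≤ n, ∀ x ∈ C i, (α ^ p ^ (N * i)) x = x by
    refine ⟨N * n, Subtype.ext (MulEquiv.ext fun x => ?_)⟩
    exact h n le_rfl x (hC.top ▸ mem_top x)
  intro i
  induction i with
  | zero =>
    intro _ x hx
    rw [hC.bot, mem_bot] at hx
    rw [hx, map_one]
  | succ i ih =>
    intro hi x hx
    set γ := α ^ p ^ (N * i)
    have hd := (Triv.pow hC hα (p ^ (N * i))) i (by omega) x hx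
    have hfix := ih (by omega) _ hd
    have hiter : ∀ m : ℕ, (γ ^ m) x = (γ x * x⁻¹) ^ m * x := by
      intro m
      induction m with
      | zero => simp
      | succ m ihm =>
        rw [pow_succ', MulAut.mul_apply, ihm, map_mul, map_pow, hfix, pow_succ (γ x * x⁻¹), mul_assoc]
        rw [inv_mul_cancel_right]
    rw [Nat.mul_succ, pow_add, pow_mul, hiter, ← hN, pow_card_eq_one', one_mul]

/-- A `p`-element fixing two neighbours of index `p` is trivial on the factor. -/
theorem step_of_pElem [Finite Q] [Fact p.Prime] {H J : Subgroup Q} (hHJ : H ≤ J)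
    (hn : ∀ j ∈ J, ∀ h ∈ H, j * h * j⁻¹ ∈ H) (hc : Nat.card J = p * Nat.card H)
    (hJ : ∀ x ∈ J, α x ∈ J) (hH : ∀ x ∈ H, α x ∈ H) (hp : ∃ k : ℕ, α ^ p ^ k = 1) :
    ∀ x ∈ J, α x * x⁻¹ ∈ H := by
  intro x hx
  haveI : (H.subgroupOf J).Normal := ⟨fun h hh j => hn j j.2 h hh⟩
  have hmap : J.map (α : Q ≃* Q).toMonoidHom = J := by
    refine eq_of_le_of_card_ge ?_ (le_of_eq
      (Nat.card_congr (J.equivMapOfInjective _ α.injective).toEquiv))
    rintro _ ⟨y, hy, rfl⟩
    exact hJ y hy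
  let a' : MulAut J := (α.subgroupMap J).trans (MulEquiv.subgroupCongr hmap)
  have ha' : ∀ y : J, (a' y : Q) = α y := fun _ => rfl
  have hiter : ∀ (j : ℕ) (y : J), ((a' ^ j) y : Q) = (α ^ j) y := by
    intro j
    induction j with
    | zero => intro y; rfl
    | succ j ih => intro y; rw [pow_succ, MulAut.mul_apply, ih, ha', pow_succ, MulAut.mul_apply]
  obtain ⟨k, hk⟩ := hp
  have hidx : (H.subgroupOf J).index = p := by
    have h := (H.subgroupOf J).card_mul_index
    rw [Nat.card_congr (subgroupOfEquivOfLe hHJ).toEquiv, hc, mul_comm p] at h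
    exact Nat.eq_of_mul_eq_mul_left Nat.card_pos h
  exact mul_inv_mem_of_index_dvd (H.subgroupOf J) hidx.dvd a' (fun y hy => hH y hy)
    ⟨k, MulEquiv.ext fun y => Subtype.ext (by rw [hiter, hk]; rfl)⟩ ⟨x, hx⟩

/-! ### Commutators of powers -/

variable {G : Type u} [Group G]

theorem commutator_mul_left {a u b : G} (hu : Commute u b) : ⁅a * u, b⁆ = ⁅a, b⁆ := by
  have h : u * b * u⁻¹ = b := by rw [hu.eq, mul_inv_cancel_right]
  calc ⁅a * u, b⁆ = a * (u * b * u⁻¹) * a⁻¹ * b⁻¹ := by rw [commutatorElement_def]; group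
    _ = _ := by rw [h, commutatorElement_def]

theorem commutator_mul_right {a b v : G} (hv : Commute a v) : ⁅a, b * v⁆ = ⁅a, b⁆ := by
  have h : a * v * a⁻¹ * v⁻¹ = 1 := by rw [hv.eq]; group
  calc ⁅a, b * v⁆ = a * b * a⁻¹ * (a * v * a⁻¹ * v⁻¹) * b⁻¹ := by rw [commutatorElement_def]; group
    _ = _ := by rw [h, mul_one, commutatorElement_def]

/-- The commutator of powers with commuting corrections. -/
theorem commutator_pow_mul {a b u v : G} (hz : ∀ g, Commute ⁅a, b⁆ g) (hu : Commute u b)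
    (hv : Commute a v) (huv : Commute u v) (i j : ℕ) :
    ⁅a ^ i * u, b ^ j * v⁆ = ⁅a, b⁆ ^ (i * j) := by
  rw [commutator_mul_left ((hu.pow_right j).mul_right huv),
    commutator_mul_right (hv.pow_left i)]
  have h1 : ⁅a ^ i, b⁆ = ⁅a, b⁆ ^ i :=
    Cfsg.Lib.PGroups.commutator_pow_left_of_commute (hz a) i
  have h2 : Commute ⁅a ^ i, b⁆ b := by rw [h1]; exact (hz b).pow_left i
  rw [Cfsg.Lib.PGroups.commutator_pow_right_of_commute h2 j, h1, pow_mul]

/-- The commutator of powers modulo a normal subgroup. -/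
theorem commutator_pow_mul_mod {K : Subgroup G} [K.Normal] {a b u v : G}
    (hz : ∀ g, ⁅⁅a, b⁆, g⁆ ∈ K) (hu : ⁅u, b⁆ ∈ K) (hv : ⁅a, v⁆ ∈ K) (huv : ⁅u, v⁆ ∈ K) (i j : ℕ) :
    (⁅a, b⁆ ^ (i * j))⁻¹ * ⁅a ^ i * u, b ^ j * v⁆ ∈ K := by
  set π := QuotientGroup.mk' K
  have hc : ∀ {x y : G}, ⁅x, y⁆ ∈ K → Commute (π x) (π y) := fun {x y} h =>
    commutatorElement_eq_one_iff_mul_comm.mp (by
      rw [← map_commutatorElement]
      exact (QuotientGroup.eq_one_iff _).mpr h)
  have hg : ∀ g, Commute ⁅π a, π b⁆ g := fun g => by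
    obtain ⟨g, rfl⟩ := QuotientGroup.mk'_surjective K g
    rw [← map_commutatorElement]
    exact hc (hz g)
  have h := commutator_pow_mul hg (hc hu) (hc hv) (hc huv) i j
  rw [← map_pow, ← map_pow, ← map_mul, ← map_mul, ← map_commutatorElement, ← map_commutatorElement,
    ← map_pow] at h
  exact QuotientGroup.eq.mp h.symm

/-- The commutator of powers in a quotient. -/
theorem commutator_pow_mk {K : Subgroup G} [K.Normal] {a b u v : G}
    (hz : ∀ g, ⁅⁅a, b⁆, g⁆ ∈ K) (hu : ⁅u, b⁆ ∈ K) (hv : ⁅a, v⁆ ∈ K) (huv : ⁅u, v⁆ ∈ K) (i j : ℕ) :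
    QuotientGroup.mk' K ⁅a ^ i * u, b ^ j * v⁆ = QuotientGroup.mk' K ⁅a, b⁆ ^ (i * j) := by
  rw [← map_pow]
  exact (QuotientGroup.eq.mpr (commutator_pow_mul_mod hz hu hv huv i j)).symm

/-- Equal powers of an element of order `p` outside a subgroup. -/
theorem cast_eq_of_pow [Fact p.Prime] {K : Subgroup G} [K.Normal] {g : G} (hg : g ∉ K)
    (hgp : g ^ p ∈ K) {i j : ℕ} (h : QuotientGroup.mk' K g ^ i = QuotientGroup.mk' K g ^ j) : (i : ZMod p) = j := by
  have hne : (QuotientGroup.mk' K g) ≠ 1 := fun e => hg ((QuotientGroup.eq_one_iff g).mp e)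
  have ho : orderOf (QuotientGroup.mk' K g) = p := orderOf_eq_prime
    (by rw [← map_pow]; exact (QuotientGroup.eq_one_iff _).mpr hgp) hne
  have he : (QuotientGroup.mk' K g) ^ i = (QuotientGroup.mk' K g) ^ j := h
  have hm := pow_eq_pow_iff_modEq.mp he
  rw [ho] at hm
  exact (ZMod.natCast_eq_natCast_iff _ _ _).mpr hm

end Cfsg.Lib.Fusion.OrderPFive
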