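import Cfsg.Agent.Fusion.OrderPFive.MaxFive

/-!
The subgroups generated by a term of the lower central series and an element outside the centralizer of
the second centre.
-/

set_option autoImplicit false
set_option linter.style.haveILetI false
set_option linter.unusedSectionVars false
set_option linter.unusedVariables false

namespace Cfsg.Lib.Fusion.OrderPFive

open Subgroup
open Cfsg.Lib.PGroups.MaxClassRank
open scoped commutatorElement

universe u

variable {X : Type u} [Group X] {p : ℕ} [Finite X] [hp : Fact p.Prime] [Group.IsNilpotent X] {e : X}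

namespace Max5

variable (H : Max5 p X e)
include H

theorem L_apply (σ : MulAut X) (i : ℕ) {g : X} (hg : g ∈ L X i) : σ g ∈ L X i := by
  have h : (L X i).map σ.toMonoidHom ≤ L X i := by
    rw [Subgroup.map_lowerCentralSeries]
    exact Subgroup.lowerCentralSeries_mono i le_top
  exact h ⟨g, hg, rfl⟩

theorem gam_apply (σ : MulAut X) {g : X} (hg : g ∈ gam X) : σ g ∈ gam X := mem_centralizer_iff.2 fun v hv => by
  have h := congrArg σ (mem_centralizer_iff.1 hg _ (H.L_apply σ⁻¹ 2 hv))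
  rwa [map_mul, map_mul, MulAut.apply_inv_self] at h

theorem exists_gen : ∃ s ∈ gam X, s ∉ L X 1 :=
  SetLike.exists_of_lt (lt_of_le_of_ne H.L1_le_gam fun h => by
    have := H.card1
    rw [h, H.card_gam] at this
    exact absurd (Nat.pow_right_injective hp.out.two_le this) (by norm_num))

theorem pow_mem_L1 (g : X) : g ^ p ∈ L X 1 := by
  obtain ⟨s, hs, hs'⟩ := H.exists_gen
  haveI := H.normal_gam
  obtain ⟨γ, hγ, i, rfl⟩ := exists_mul_pow (H.top_eq.ge (mem_top g))
  set π := QuotientGroup.mk' (L X 1)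
  refine (QuotientGroup.eq_one_iff _).1 ?_
  show π ((e ^ i * γ) ^ p) = 1
  have hc : Commute (π (e ^ i)) (π γ) := commutatorElement_eq_one_iff_mul_comm.1 (by
    rw [← map_commutatorElement]; exact (QuotientGroup.eq_one_iff _).2 (H.comm_top _ _))
  rw [map_pow, map_mul, hc.mul_pow, ← map_pow, ← pow_mul, mul_comm, pow_mul, H.data.ord, one_pow, map_one,
    one_mul, ← map_pow]
  exact (QuotientGroup.eq_one_iff _).2 (pow_mem_of_card H.L1_le_gam (by rw [H.card_gam, H.card1]; ring) hγ)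

theorem exists_coord {g : X} (hg : g ∉ gam X) : ∃ i : ℕ, (i : ZMod p) ≠ 0 ∧ ∃ γ ∈ gam X, g = e ^ i * γ := by
  haveI := H.normal_gam
  obtain ⟨γ, hγ, i, rfl⟩ := exists_mul_pow (H.top_eq.ge (mem_top g))
  refine ⟨i, fun h => hg ?_, γ, hγ, rfl⟩
  obtain ⟨d, rfl⟩ := (ZMod.natCast_eq_zero_iff i p).1 h
  rw [pow_mul, H.data.ord, one_pow, one_mul]
  exact hγ

theorem pow_ne_of_coord {c : X} (hc : c ≠ 1) (hcp : c ^ p = 1) {i : ℕ} (hi : (i : ZMod p) ≠ 0) : c ^ i ≠ 1 :=
  fun h => hi ((ZMod.natCast_eq_zero_iff i p).2 (orderOf_eq_prime hcp hc ▸ orderOf_dvd_of_pow_eq_one h))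

/-- Commuting with a nontrivial step is confined to the centralizer of the second centre. -/
theorem not_commute {g v : X} (hg : g ∉ gam X) (hv : v ∈ L X 2) (hv3 : v ∉ L X 3) : ¬ Commute g v := fun h => by
  refine hg (mem_centralizer_iff.2 fun u hu => ?_)
  obtain ⟨z, hz, k, rfl⟩ := exists_mul_pow ((sup_eq_of_between H.five.isP (L_le (by norm_num))
    (by rw [H.card2, H.card3]; ring_nf; rfl) hv hv3 : L X 3 ⊔ zpowers v = L X 2).ge hu)
  exact (((h.pow_right k).mul_right (mem_center_iff.1 (H.center_eq.ge hz) g))).symm.eq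

theorem s3_moved {g : X} (hg : g ∉ gam X) {t : X} (ht : t ∈ L X 1) (ht2 : t ∉ L X 2) : ⁅t, g⁆ ∉ L X 3 := by
  intro h
  obtain ⟨s, hs, hs'⟩ := H.exists_gen
  obtain ⟨i, hi, γ, hγ, rfl⟩ := H.exists_coord hg
  set π := QuotientGroup.mk' (L X 3)
  haveI : (L X 3).Normal := inferInstance
  have hte : ⁅t, e⁆ ∈ L X 2 := comm_mem_succ ht e
  have h1 := commutator_pow_mk (K := L X 3) (a := t) (b := e) (u := 1) (v := γ) (fun g => comm_mem_succ hte g)
    (by simp) (H.comm_gam hs hs' (H.L1_le_gam ht) hγ) (by simp) 1 i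
  rw [pow_one, mul_one, one_mul, show QuotientGroup.mk' (L X 3) ⁅t, e ^ i * γ⁆ = 1 from
    (QuotientGroup.eq_one_iff _).2 h] at h1
  have hne : π ⁅t, e⁆ ≠ 1 := fun h0 => by
    have hte3 : ⁅t, e⁆ ∈ L X 3 := (QuotientGroup.eq_one_iff _).1 h0
    obtain ⟨m, hm, k, hk⟩ := exists_mul_pow ((H.L1_eq hs hs').ge ht)
    have hk0 : (k : ZMod p) ≠ 0 := fun h2 => ht2 (by
      obtain ⟨d, rfl⟩ := (ZMod.natCast_eq_zero_iff k p).1 h2
      rw [hk, pow_mul]
      exact mul_mem (pow_mem (pow_mem_of_card (L_le (show 1 ≤ 2 by norm_num))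
        (by rw [H.card1, H.card2]; ring) (H.comm_top s e)) d) hm)
    have h3 := commutator_pow_mk (K := L X 3) (a := ⁅s, e⁆) (b := e) (u := m) (v := 1)
      (fun g => comm_mem_succ (comm_mem_succ (H.comm_top s e) e) g) (comm_mem_succ hm e) (by simp) (by simp) k 1
    rw [pow_one, mul_one, ← hk, mul_one,
      show QuotientGroup.mk' (L X 3) ⁅t, e⁆ = 1 from h0] at h3
    have h4 := cast_eq_of_pow (H.s3_not hs hs') (pow_mem_of_card (L_le (show 2 ≤ 3 by norm_num))
      (by rw [H.card2, H.card3]; ring) (comm_mem_succ (H.comm_top s e) e)) (i := k) (j := 0)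
      (by rw [pow_zero]; exact h3.symm)
    exact hk0 (by simpa using h4)
  have h5 := cast_eq_of_pow (g := ⁅t, e⁆) (fun h0 => hne ((QuotientGroup.eq_one_iff _).2 h0))
    (pow_mem_of_card (L_le (show 2 ≤ 3 by norm_num)) (by rw [H.card2, H.card3]; ring) hte) (i := i) (j := 0)
    (by rw [pow_zero]; exact h1.symm)
  exact hi (by simpa using h5)

theorem card_sup (g : X) (hg : g ∉ gam X) :
    Nat.card (L X 1 ⊔ zpowers g : Subgroup X) = p ^ 4 ∧ (g ^ p ∈ L X 2 →
      Nat.card (L X 2 ⊔ zpowers g : Subgroup X) = p ^ 3) := by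
  have h1 : g ∉ L X 1 := fun h => hg (H.L1_le_gam h)
  exact ⟨by rw [card_sup_zpowers h1 (H.pow_mem_L1 g), H.card1]; ring, fun h => by
    rw [card_sup_zpowers (fun h2 => h1 (L_le (show 1 ≤ 2 by norm_num) h2)) h, H.card2]; ring⟩

theorem inf_eq {g : X} (hg : g ∉ gam X) (hgp : g ^ p ∈ L X 2) :
    (L X 2 ⊔ zpowers g) ⊓ L X 1 = L X 2 := by
  refine le_antisymm (fun w hw => ?_) (le_inf le_sup_left (L_le (by norm_num)))
  by_contra hw2
  have h := sup_eq_of_between H.five.isP (le_sup_left : L X 2 ≤ L X 2 ⊔ zpowers g)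
    (by rw [(H.card_sup g hg).2 hgp, H.card2]; ring_nf; rfl) hw.1 hw2
  exact hg (H.L1_le_gam ((h ▸ sup_le (L_le (by norm_num)) (zpowers_le.2 hw.2) :
    L X 2 ⊔ zpowers g ≤ L X 1) (mem_sup_right (mem_zpowers g))))

/-- The normalizer of `L 2 ⊔ ⟨g⟩` is `L 1 ⊔ ⟨g⟩`. -/
theorem mem_normalizer_small {g : X} (hg : g ∉ gam X) (hgp : g ^ p ∈ L X 2) (h : X) :
    h ∈ L X 1 ⊔ zpowers g ↔ ∀ k ∈ L X 2 ⊔ zpowers g, h * k * h⁻¹ ∈ L X 2 ⊔ zpowers g := by
  set Q := L X 2 ⊔ zpowers g
  constructor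
  · intro hh k hk
    obtain ⟨u, hu, i, rfl⟩ := exists_mul_pow hh
    obtain ⟨m, hm, j, rfl⟩ := exists_mul_pow hk
    have h1 : u * g * u⁻¹ ∈ Q := by
      have := Q.mul_mem (mem_sup_left (comm_mem_succ hu g)) (mem_sup_right (mem_zpowers g) : g ∈ Q)
      rwa [commutatorElement_def, inv_mul_cancel_right] at this
    have h2 : u * (g ^ j * m) * u⁻¹ ∈ Q := by
      have := Q.mul_mem (Q.pow_mem h1 j) (mem_sup_left ((inferInstance : (L X 2).Normal).conj_mem m hm u))
      rw [conj_pow] at this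
      convert this using 1
      group
    have h3 := Q.mul_mem (Q.mul_mem (Q.pow_mem (mem_sup_right (mem_zpowers g)) i) h2)
      (Q.inv_mem (Q.pow_mem (mem_sup_right (mem_zpowers g)) i))
    convert h3 using 1
    group
  · intro hh
    by_contra hhN
    have hc : ⁅h, g⁆ ∈ L X 2 := by
      rw [← H.inf_eq hg hgp]
      exact ⟨Q.mul_mem (hh g (mem_sup_right (mem_zpowers g))) (Q.inv_mem (mem_sup_right (mem_zpowers g))),
        H.comm_top h g⟩
    -- then `X` is abelian modulo `L 2`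
    have htop : (L X 1 ⊔ zpowers g) ⊔ zpowers h = ⊤ := sup_eq_of_between H.five.isP le_top
      (by rw [card_top, H.card, (H.card_sup g hg).1]; ring_nf; rfl) (mem_top h) hhN
    set π := QuotientGroup.mk' (L X 2)
    have hl : ∀ u ∈ L X 1, ∀ v, Commute (π u) (π v) := fun u hu v =>
      commutatorElement_eq_one_iff_mul_comm.1 (by
        rw [← map_commutatorElement]; exact (QuotientGroup.eq_one_iff _).2 (comm_mem_succ hu v))
    have hgh : Commute (π h) (π g) := commutatorElement_eq_one_iff_mul_comm.1 (by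
      rw [← map_commutatorElement]; exact (QuotientGroup.eq_one_iff _).2 hc)
    haveI : (L X 1 ⊔ zpowers g).Normal := ⟨fun w hw v => by
      have := (L X 1 ⊔ zpowers g).mul_mem (mem_sup_left (H.comm_top v w)) hw
      rwa [commutatorElement_def, inv_mul_cancel_right] at this⟩
    have hle : L X 1 ≤ L X 2 := by
      rw [show L X 1 = ⁅(⊤ : Subgroup X), ⊤⁆ from (top_lowerCentralSeries_one (G := X)).trans (commutator_def X)]
      refine commutator_le.2 fun a _ b _ => (QuotientGroup.eq_one_iff _).1 ?_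
      show π ⁅a, b⁆ = 1
      obtain ⟨a', ha', i, rfl⟩ := exists_mul_pow (htop.ge (mem_top a))
      obtain ⟨b', hb', j, rfl⟩ := exists_mul_pow (htop.ge (mem_top b))
      obtain ⟨u, hu, i1, rfl⟩ := exists_mul_pow ha'
      obtain ⟨v, hv, j1, rfl⟩ := exists_mul_pow hb'
      rw [map_commutatorElement, commutatorElement_eq_one_iff_mul_comm]
      simp only [map_mul, map_pow]
      refine Commute.eq (Commute.mul_left ?_ (Commute.mul_left ?_ ?_))
      · exact (Commute.pow_pow_self _ i j).mul_right ((hgh.pow_pow i j1).mul_right ((hl v hv h).symm.pow_left i))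
      · exact (hgh.symm.pow_pow i1 j).mul_right ((Commute.pow_pow_self _ i1 j1).mul_right ((hl v hv g).symm.pow_left i1))
      · exact ((hl u hu h).pow_right j).mul_right (((hl u hu g).pow_right j1).mul_right (hl u hu v))
    exact (H.data.L_lt (show 1 < 5 - 1 by norm_num)).not_ge hle

/-- A normal subgroup of order `p ^ 3` is `L 1`. -/
theorem eq_L1_of_normal {R : Subgroup X} [R.Normal] (h : Nat.card R = p ^ 3) : R = L X 1 := by
  have hi : R.index = p ^ 2 := by
    have h1 := R.card_mul_index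
    rw [h, H.card, pow_add p 3 2] at h1
    exact Nat.eq_of_mul_eq_mul_left (pow_pos hp.out.pos 3) h1
  exact Cfsg.Lib.MaxClass.normal_eq_lcs 5 X H.data.card (by norm_num) H.data.cls R 2 le_rfl hi

end Max5

end Cfsg.Lib.Fusion.OrderPFive
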