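import Cfsg.Agent.Fusion.OrderPFive.SFlag
import Cfsg.Agent.Fusion.OrderPFive.MaxFiveSub

/-!
Extending automorphisms through the flags of a group of order `p ^ 5` and maximal class.
-/

set_option autoImplicit false
set_option linter.style.haveILetI false
set_option linter.unusedSectionVars false
set_option linter.unusedVariables false

namespace Cfsg.Lib.Fusion.OrderPFive

open Subgroup Cfsg Cfsg.FusionSystem Cfsg.Lib.Fusion
open Cfsg.Lib.PGroups.MaxClassRank
open scoped commutatorElement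

universe u

variable {Ω : Type u} [Group Ω] {S : Subgroup Ω} {F : FusionSystem S} {p : ℕ} [Finite S] [hp : Fact p.Prime]
  [Group.IsNilpotent S] {e : S}

theorem actHom_injective {Q : Subgroup Ω} (hQ : Q ≤ S) (α : MulAut Q) :
    Function.Injective (actHom hQ α) := fun u v h => by
  have h' : ((actHom hQ α u : S) : Ω) = actHom hQ α v := by rw [h]
  exact (subgroupOfEquivOfLe hQ).injective (α.injective (Subtype.ext h'))

theorem actHom_mul {Q : Subgroup Ω} (hQ : Q ≤ S) (α β : MulAut Q) (g : Q.subgroupOf S) :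
    actHom hQ (α * β) g = actHom hQ α ⟨actHom hQ β g, actHom_mem hQ β g⟩ := Subtype.ext (by
  rw [coe_actHom, coe_actHom, autFun_mul _ _ (show ((g : S) : Ω) ∈ Q from g.2)]
  show _ = autFun α ((actHom hQ β g : S) : Ω)
  rw [coe_actHom])

namespace Max5

variable (H : Max5 p S e)
include H

/-- The second step is kept above a centre line that is kept. -/
theorem exists_mem_L2 {v : S} (hv : v ∈ L S 2) {w : S} (hw : w ∈ L S 2) (hw3 : w ∉ L S 3) :
    ∃ z ∈ L S 3, ∃ k : ℕ, v = w ^ k * z :=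
  exists_mul_pow ((sup_eq_of_between H.five.isP (L_le (by norm_num))
    (by rw [H.card2, H.card3]; ring_nf; rfl) hw hw3 : L S 3 ⊔ zpowers w = L S 2).ge hv)

/-- All automorphisms of `L 1 ⊔ ⟨g⟩` keep `L 1`, `L 2` and `L 3`. -/
theorem skeep_big {g : S} (hg : g ∉ gam S) {Q : Subgroup Ω} (hQ : Q ≤ S)
    (hQe : Q.subgroupOf S = L S 1 ⊔ zpowers g) (α : MulAut Q) :
    ∀ v : Q.subgroupOf S, ((v : S) ∈ L S 1 → actHom hQ α v ∈ L S 1) ∧
      ((v : S) ∈ L S 2 → actHom hQ α v ∈ L S 2) ∧ ((v : S) ∈ L S 3 → actHom hQ α v ∈ L S 3) := by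
  set f := actHom hQ α
  have hg' : g ∈ Q.subgroupOf S := hQe.ge (mem_sup_right (mem_zpowers g))
  have hL : L S 1 ≤ Q.subgroupOf S := le_sup_left.trans hQe.ge
  obtain ⟨t, ht, ht2⟩ := SetLike.exists_of_lt (H.data.L_lt (show 1 < 5 - 1 by norm_num))
  set w := ⁅t, g⁆
  have hw : w ∈ L S 2 := comm_mem_succ ht g
  have hw3 : w ∉ L S 3 := H.s3_moved hg ht ht2
  -- commutators in `Q` lie in `L 2`
  have hQc : ∀ a ∈ Q.subgroupOf S, ∀ b ∈ Q.subgroupOf S, ⁅a, b⁆ ∈ L S 2 := fun a ha b hb => by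
    rw [hQe] at ha hb
    obtain ⟨u, hu, i, rfl⟩ := exists_mul_pow ha
    obtain ⟨v, hv, j, rfl⟩ := exists_mul_pow hb
    refine (QuotientGroup.eq_one_iff _).1 ?_
    show QuotientGroup.mk' (L S 2) _ = 1
    have hl : ∀ {u : S}, u ∈ L S 1 → ∀ v, Commute (QuotientGroup.mk' (L S 2) u) (QuotientGroup.mk' (L S 2) v) :=
      fun {u} hu v => commutatorElement_eq_one_iff_mul_comm.1 (by
        rw [← map_commutatorElement]; exact (QuotientGroup.eq_one_iff _).2 (comm_mem_succ hu v))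
    rw [map_commutatorElement, commutatorElement_eq_one_iff_mul_comm, map_mul, map_mul, map_pow, map_pow]
    exact (((Commute.pow_pow_self _ i j).mul_left ((hl hu g).pow_right j)).mul_right
      ((((hl hv g).symm).pow_left i).mul_left (hl hu v))).eq
  set wQ : Q.subgroupOf S := ⁅(⟨t, hL ht⟩ : Q.subgroupOf S), (⟨g, hg'⟩ : Q.subgroupOf S)⁆
  have hwQ : (wQ : S) = w := rfl
  have hfw : f wQ ∈ L S 2 := by
    rw [map_commutatorElement]
    exact hQc _ (actHom_mem hQ α _) _ (actHom_mem hQ α _)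
  set zQ : Q.subgroupOf S := ⁅wQ, ⟨g, hg'⟩⁆
  have hzQ : (zQ : S) = ⁅w, g⁆ := rfl
  have hz1 : ⁅w, g⁆ ≠ 1 := fun h =>
    H.not_commute hg hw hw3 (commutatorElement_eq_one_iff_mul_comm.1 h).symm
  have hz3 : ⁅w, g⁆ ∈ L S 3 := comm_mem_succ hw g
  have hgen : zpowers ⁅w, g⁆ = L S 3 := eq_of_le_of_card_ge (zpowers_le.2 hz3) (by
    rw [Nat.card_zpowers, orderOf_eq_prime (p := p) ?_ hz1, H.card3]
    have h := pow_card_eq_one' (x := (⟨_, hz3⟩ : L S 3))
    rw [H.card3] at h
    exact congrArg Subtype.val h)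
  have h3 : ∀ v : Q.subgroupOf S, (v : S) ∈ L S 3 → f v ∈ L S 3 := fun v hv => by
    obtain ⟨k, hk⟩ := mem_zpowers_iff.1 (hgen.ge hv)
    rw [show v = zQ ^ k from Subtype.ext (by rw [coe_zpow, hzQ]; exact hk.symm), map_zpow]
    refine zpow_mem ?_ k
    rw [map_commutatorElement]
    exact comm_mem_succ hfw _
  have h2 : ∀ v : Q.subgroupOf S, (v : S) ∈ L S 2 → f v ∈ L S 2 := fun v hv => by
    obtain ⟨z, hz, k, hk⟩ := H.exists_mem_L2 hv hw hw3
    rw [show v = wQ ^ k * ⟨z, hL (L_le (by norm_num) hz)⟩ from Subtype.ext (by rw [coe_mul, coe_pow, hwQ]; exact hk),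
      map_mul, map_pow]
    exact mul_mem (pow_mem hfw k) (L_le (show 2 ≤ 3 by norm_num) (h3 _ hz))
  refine fun v => ⟨fun hv => ?_, h2 v, h3 v⟩
  -- the image centralizes the image of `L 2`
  have hinj := actHom_injective hQ α
  have hfw3 : f wQ ∉ L S 3 := fun h => by
    have hlt : ∀ v : Q.subgroupOf S, (v : S) ∈ L S 2 → f v ∈ L S 3 := fun v hv => by
      obtain ⟨z, hz, k, hk⟩ := H.exists_mem_L2 hv hw hw3
      rw [show v = wQ ^ k * ⟨z, hL (L_le (by norm_num) hz)⟩ from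
        Subtype.ext (by rw [coe_mul, coe_pow, hwQ]; exact hk), map_mul, map_pow]
      exact mul_mem (pow_mem h k) (h3 _ hz)
    have hc := Nat.card_le_card_of_injective
      (fun v : L S 2 => (⟨f ⟨v, hL (L_le (by norm_num) v.2)⟩, hlt _ v.2⟩ : L S 3))
      fun a b h => Subtype.ext (congrArg (fun x : Q.subgroupOf S => (x : S)) (hinj (congrArg Subtype.val h)))
    rw [H.card2, H.card3] at hc
    nlinarith [hp.out.two_le]
  have hfv : f v ∈ L S 1 ⊔ zpowers g := hQe.le (actHom_mem hQ α v)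
  obtain ⟨u, hu, k, hk⟩ := exists_mul_pow hfv
  have hcomm : Commute (f v) (f wQ) :=
    (show Commute v wQ from Subtype.ext (H.comm12 hv (show (wQ : S) ∈ L S 2 from hw)).eq).map f
  rw [hk] at hcomm ⊢
  by_contra hk1
  have hgk : g ^ k ∉ gam S := fun hgk => hk1 (mul_mem (by
    obtain ⟨i, hi, γ, hγ, rfl⟩ := H.exists_coord hg
    by_cases hk0 : (k : ZMod p) = 0
    · obtain ⟨d, rfl⟩ := (ZMod.natCast_eq_zero_iff k p).1 hk0
      rw [pow_mul]
      exact pow_mem (H.pow_mem_L1 _) d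
    · exfalso
      haveI := H.normal_gam
      have hπ : QuotientGroup.mk' (gam S) (e ^ (i * k)) = 1 := by
        have : QuotientGroup.mk' (gam S) ((e ^ i * γ) ^ k) = 1 := (QuotientGroup.eq_one_iff _).2 hgk
        rwa [map_pow, map_mul, show QuotientGroup.mk' (gam S) γ = 1 from (QuotientGroup.eq_one_iff _).2 hγ,
          mul_one, ← map_pow, ← pow_mul] at this
      have h5 := cast_eq_of_pow (g := e) H.e_not_gam (by rw [H.data.ord]; exact one_mem _) (i := i * k) (j := 0)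
        (by rw [← map_pow, hπ, pow_zero])
      push_cast at h5
      exact mul_ne_zero hi hk0 h5) hu)
  refine H.not_commute hgk hfw hfw3 ?_
  have h2 := hcomm.mul_left ((H.comm12 hu hfw).inv_left)
  rwa [mul_assoc, mul_inv_cancel, mul_one] at h2

/-- `L 1 ⊔ ⟨g⟩` is normal in `S`. -/
theorem normal_big (g : S) : (L S 1 ⊔ zpowers g).Normal := ⟨fun w hw v => by
  have := (L S 1 ⊔ zpowers g).mul_mem (mem_sup_left (H.comm_top v w)) hw
  rwa [commutatorElement_def, inv_mul_cancel_right] at this⟩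

/-- The flag below `L 1 ⊔ ⟨g⟩`. -/
theorem sflag_big {g : S} (hg : g ∉ gam S) {Q : Subgroup Ω} (hQe : Q.subgroupOf S = L S 1 ⊔ zpowers g) :
    SFlag p Q (ofList [⊥, L S 3, L S 2, L S 1, Q.subgroupOf S]) 4 where
  bot := rfl
  top := rfl
  normal i hi := by interval_cases i <;> simp only [ofList, List.getD_cons_zero, List.getD_cons_succ] <;> infer_instance
  mono i hi := by
    interval_cases i
    · exact bot_le
    · exact L_le (by norm_num)
    · exact L_le (by norm_num)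
    · exact le_sup_left.trans hQe.ge
  card i hi := by
    interval_cases i <;> simp only [ofList, List.getD_cons_zero, List.getD_cons_succ, Nat.reduceAdd]
    · rw [H.card3, card_bot, mul_one]
    · rw [H.card2, H.card3, pow_two]
    · rw [H.card1, H.card2]; ring
    · rw [hQe, (H.card_sup g hg).1, H.card1]; ring

/-- Every automorphism of `L 1 ⊔ ⟨g⟩` extends to `S`. -/
theorem extend_big (hS : IsPGroup p S) (hF : F.IsSaturated p) {g : S} (hg : g ∉ gam S) {Q : Subgroup Ω}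
    (hQ : Q ≤ S) (hQe : Q.subgroupOf S = L S 1 ⊔ zpowers g) {α : MulAut Q} (hα : α ∈ F.autGroup Q) :
    ∃ σ ∈ F.autGroup S, ∀ x ∈ Q, autFun σ x = autFun α x := by
  haveI : (Q.subgroupOf S).Normal := hQe ▸ H.normal_big g
  refine (H.sflag_big hg hQe).extend hS hF (fullyNormalized_of_normal hQ) hα (fun i hi v hv => ?_)
    (normalizerIn_eq_of_normal hQ)
  interval_cases i
  · simp only [ofList, List.getD_cons_zero, mem_bot] at hv ⊢
    rw [show v = 1 from Subtype.ext hv, map_one]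
  · exact (H.skeep_big hg hQ hQe α v).2.2 hv
  · exact (H.skeep_big hg hQ hQe α v).2.1 hv
  · exact (H.skeep_big hg hQ hQe α v).1 hv

/-- The flag below `L 2 ⊔ ⟨g⟩`. -/
theorem sflag_small {g : S} (hg : g ∉ gam S) (hgp : g ^ p ∈ L S 2) {Q : Subgroup Ω}
    (hQe : Q.subgroupOf S = L S 2 ⊔ zpowers g) :
    SFlag p Q (ofList [⊥, L S 3, L S 2, Q.subgroupOf S]) 3 where
  bot := rfl
  top := rfl
  normal i hi := by interval_cases i <;> simp only [ofList, List.getD_cons_zero, List.getD_cons_succ] <;> infer_instance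
  mono i hi := by
    interval_cases i
    · exact bot_le
    · exact L_le (by norm_num)
    · exact le_sup_left.trans hQe.ge
  card i hi := by
    interval_cases i <;> simp only [ofList, List.getD_cons_zero, List.getD_cons_succ, Nat.reduceAdd]
    · rw [H.card3, card_bot, mul_one]
    · rw [H.card2, H.card3, pow_two]
    · rw [hQe, (H.card_sup g hg).2 hgp, H.card2]; ring

/-- All automorphisms of `L 2 ⊔ ⟨g⟩` keep `L 3`. -/
theorem keep3_small {g : S} (hg : g ∉ gam S) {Q : Subgroup Ω} (hQ : Q ≤ S)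
    (hQe : Q.subgroupOf S = L S 2 ⊔ zpowers g) (α : MulAut Q) (v : Q.subgroupOf S) (hv : (v : S) ∈ L S 3) :
    actHom hQ α v ∈ L S 3 := by
  obtain ⟨w, hw, hw3⟩ := SetLike.exists_of_lt (H.data.L_lt (show 2 < 5 - 1 by norm_num))
  set wQ : Q.subgroupOf S := ⟨w, hQe.ge (mem_sup_left hw)⟩
  set gQ : Q.subgroupOf S := ⟨g, hQe.ge (mem_sup_right (mem_zpowers g))⟩
  have hz1 : ⁅w, g⁆ ≠ 1 := fun h => H.not_commute hg hw hw3 (commutatorElement_eq_one_iff_mul_comm.1 h).symm
  have hz3 : ⁅w, g⁆ ∈ L S 3 := comm_mem_succ hw g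
  have hgen : zpowers ⁅w, g⁆ = L S 3 := eq_of_le_of_card_ge (zpowers_le.2 hz3) (by
    rw [Nat.card_zpowers, orderOf_eq_prime (p := p) ?_ hz1, H.card3]
    have h := pow_card_eq_one' (x := (⟨_, hz3⟩ : L S 3))
    rw [H.card3] at h
    exact congrArg Subtype.val h)
  obtain ⟨k, hk⟩ := mem_zpowers_iff.1 (hgen.ge hv)
  rw [show v = ⁅wQ, gQ⁆ ^ k from Subtype.ext (by rw [coe_zpow]; exact hk.symm), map_zpow, map_commutatorElement]
  refine zpow_mem ?_ k
  obtain ⟨a, ha, i, hi⟩ := exists_mul_pow (hQe.le (actHom_mem hQ α wQ))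
  obtain ⟨b, hb, j, hj⟩ := exists_mul_pow (hQe.le (actHom_mem hQ α gQ))
  rw [hi, hj]
  refine (QuotientGroup.eq_one_iff _).1 ?_
  show QuotientGroup.mk' (L S 3) _ = 1
  have hl : ∀ {u : S}, u ∈ L S 2 → ∀ v, Commute (QuotientGroup.mk' (L S 3) u) (QuotientGroup.mk' (L S 3) v) :=
    fun {u} hu v => commutatorElement_eq_one_iff_mul_comm.1 (by
      rw [← map_commutatorElement]; exact (QuotientGroup.eq_one_iff _).2 (comm_mem_succ hu v))
  rw [map_commutatorElement, commutatorElement_eq_one_iff_mul_comm, map_mul, map_mul, map_pow, map_pow]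
  exact (((Commute.pow_pow_self _ i j).mul_left ((hl ha g).pow_right j)).mul_right
    ((((hl hb g).symm).pow_left i).mul_left (hl ha b))).eq

/-- An automorphism of `L 2 ⊔ ⟨g⟩` keeping `L 2` extends to `S`. -/
theorem extend_small (hS : IsPGroup p S) (hF : F.IsSaturated p) {g : S} (hg : g ∉ gam S) (hgp : g ^ p ∈ L S 2)
    {Q : Subgroup Ω} (hQn : F.IsFullyNormalized Q) (hQe : Q.subgroupOf S = L S 2 ⊔ zpowers g) {α : MulAut Q}
    (hα : α ∈ F.autGroup Q)
    (h2 : ∀ v : Q.subgroupOf S, (v : S) ∈ L S 2 → actHom hQn.1 α v ∈ L S 2) :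
    ∃ σ ∈ F.autGroup S, ∀ x ∈ Q, autFun σ x = autFun α x := by
  set R := (L S 1 ⊔ zpowers g).map S.subtype
  have hQeq : Q = (L S 2 ⊔ zpowers g).map S.subtype := by
    rw [← hQe, subgroupOf_map_subtype, inf_eq_left.2 hQn.1]
  have hR : normalizerIn S Q = R := by
    rw [hQeq]; exact normalizerIn_map (H.mem_normalizer_small hg hgp)
  obtain ⟨β, hβ, hag⟩ := (H.sflag_small hg hgp hQe).extend hS hF hQn hα (fun i hi v hv => by
    interval_cases i
    · simp only [ofList, List.getD_cons_zero, mem_bot] at hv ⊢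
      rw [show v = 1 from Subtype.ext hv, map_one]
    · exact H.keep3_small hg hQn.1 hQe α v hv
    · exact h2 v hv) hR
  obtain ⟨σ, hσ, hag'⟩ := H.extend_big hS hF hg (map_subtype_le _) (subgroupOf_map_subtype' _) hβ
  refine ⟨σ, hσ, fun x hx => ?_⟩
  rw [hag' x ?_, hag x hx]
  rw [hQeq] at hx
  exact Subgroup.map_mono (sup_le_sup_right (L_le (show 1 ≤ 2 by norm_num)) _) hx

end Max5

end Cfsg.Lib.Fusion.OrderPFive
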