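import Cfsg.Agent.Fusion.OrderPFive.Five
import Cfsg.Agent.PGroups.MaxClassRank

/-!
Groups of order `p ^ 5` and maximal class without an abelian subgroup of index `p`, with an element of
order `p` whose centralizer has order `p ^ 2`: the weights of an automorphism.
-/

set_option autoImplicit false
set_option linter.style.haveILetI false
set_option linter.unusedSectionVars false
set_option linter.unusedVariables false

namespace Cfsg.Lib.Fusion.OrderPFive

open Subgroup
open Cfsg.Lib.PGroups.MaxClassRank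
open scoped commutatorElement

universe u

variable {X : Type u} [Group X] {p : ℕ}

/-- Maximal class of order `p ^ 5`. -/
structure Max5 (p : ℕ) (X : Type u) [Group X] (e : X) : Prop extends Five p X where
  data : Data p 5 e

/-- The centralizer of the second centre. -/
def gam (X : Type u) [Group X] : Subgroup X := centralizer (L X 2 : Set X)

variable [Finite X] [hp : Fact p.Prime] [Group.IsNilpotent X] {e : X}

namespace Max5

variable (H : Max5 p X e)
include H

theorem five : Five p X := H.toFive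

theorem card1 : Nat.card (L X 1) = p ^ 3 := H.data.L_card le_rfl (by norm_num)
theorem card2 : Nat.card (L X 2) = p ^ 2 := H.data.L_card (by norm_num) (by norm_num)
theorem card3 : Nat.card (L X 3) = p := by
  rw [H.data.L_card (by norm_num) (by norm_num), pow_one]
theorem four_bot : L X 4 = ⊥ := H.data.L_eq_bot (by norm_num)

theorem center_eq : center X = L X 3 := by
  refine (eq_of_le_of_card_ge (fun g hg => mem_center_of_card H.five.isP H.card3 hg) ?_).symm
  rw [(Cfsg.Lib.MaxClass.center_facts 5 X H.data.card (by norm_num) H.data.cls).1, H.card3]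

theorem comm12 {u v : X} (hu : u ∈ L X 1) (hv : v ∈ L X 2) : Commute u v :=
  commutatorElement_eq_one_iff_mul_comm.1 (mem_bot.1 (H.four_bot ▸
    lcs_comm_le 2 1 (commutator_mem_commutator hu hv)))

theorem L1_le_gam : L X 1 ≤ gam X := fun u hu => mem_centralizer_iff.2 fun v hv => (H.comm12 hu hv).symm.eq

theorem commL1 {u v : X} (hu : u ∈ L X 1) (hv : v ∈ L X 1) : Commute u v := by
  obtain ⟨s, hs, hs2⟩ := SetLike.exists_of_lt (H.data.L_lt (show 1 < 5 - 1 by norm_num))
  have e' : L X 2 ⊔ zpowers s = L X 1 := sup_eq_of_between H.five.isP (L_le (by norm_num))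
    (by rw [H.card1, H.card2]; ring_nf; rfl) hs hs2
  obtain ⟨a, ha, i, rfl⟩ := exists_mul_pow (e'.ge hu)
  obtain ⟨b, hb, j, rfl⟩ := exists_mul_pow (e'.ge hv)
  exact (((Commute.pow_pow_self s i j).mul_left ((H.comm12 (pow_mem hs j) ha).symm)).mul_right
    ((H.comm12 hu hb)))

theorem e_not_gam : e ∉ gam X := fun he => by
  have hle : L X 2 ≤ centralizer ({e} : Set X) := fun v hv =>
    mem_centralizer_singleton_iff.2 (mem_centralizer_iff.1 he v hv)
  have h := eq_of_le_of_card_ge hle (by rw [H.data.cent, H.card2])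
  exact H.data.x_not_mem (L_le (show 1 ≤ 2 by norm_num) (h.ge (mem_centralizer_singleton_iff.2 rfl)))

theorem normal_gam : (gam X).Normal := ⟨fun a ha g => mem_centralizer_iff.2 fun v hv => by
  have h := mem_centralizer_iff.1 ha (g⁻¹ * v * g) (by
    simpa using (inferInstance : (L X 2).Normal).conj_mem v hv g⁻¹)
  calc v * (g * a * g⁻¹) = g * ((g⁻¹ * v * g) * a) * g⁻¹ := by group
    _ = g * (a * (g⁻¹ * v * g)) * g⁻¹ := by rw [h]
    _ = g * a * g⁻¹ * v := by group⟩

theorem step3 {v : X} (hv : v ∈ L X 2) (g : X) : ⁅v, g⁆ ∈ center X := H.center_eq.symm ▸ comm_mem_succ hv g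

theorem card_gam : Nat.card (gam X) = p ^ 4 := by
  obtain ⟨w, hw, hw3⟩ := SetLike.exists_of_lt (H.data.L_lt (show 2 < 5 - 1 by norm_num))
  let f : X →* center X := MonoidHom.mk' (fun g => ⟨⁅w, g⁆, H.step3 hw g⟩) fun g h => Subtype.ext (by
    show ⁅w, g * h⁆ = ⁅w, g⁆ * ⁅w, h⁆
    rw [Cfsg.Lib.PGroups.mul_right_commutator, mem_center_iff.1 (H.step3 hw h) g, mul_inv_cancel_right])
  have hker : f.ker ≤ gam X := fun g hg => by
    have e' : L X 3 ⊔ zpowers w = L X 2 := sup_eq_of_between H.five.isP (L_le (by norm_num))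
      (by rw [H.card2, H.card3]; ring_nf; rfl) hw hw3
    have hwg : Commute w g := commutatorElement_eq_one_iff_mul_comm.1 (congrArg Subtype.val (MonoidHom.mem_ker.1 hg))
    have hle : L X 2 ≤ centralizer ({g} : Set X) := e' ▸ sup_le
      (fun v hv => mem_centralizer_singleton_iff.2 (mem_center_iff.1 (H.center_eq.ge hv) g).symm)
      (zpowers_le.2 (mem_centralizer_singleton_iff.2 hwg.eq))
    exact mem_centralizer_iff.2 fun v hv => mem_centralizer_singleton_iff.1 (hle hv)
  have h1 : p ^ 4 ≤ Nat.card f.ker := by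
    have h := f.ker.card_mul_index
    rw [index_ker, H.card] at h
    have h3 : Nat.card f.range ≤ p := (card_le_card_group f.range).trans (le_of_eq (by rw [H.center_eq, H.card3]))
    refine Nat.le_of_mul_le_mul_right ?_ hp.out.pos
    rw [← pow_succ, ← h]
    exact Nat.mul_le_mul_left _ h3
  obtain ⟨k, hk⟩ := exists_pow H.five.isP (gam X)
  have h2 := h1.trans (card_le_of_le hker)
  rw [hk, Nat.pow_le_pow_iff_right hp.out.one_lt] at h2
  have h5 : k ≤ 5 := by
    have := card_le_card_group (gam X)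
    rw [hk, H.card] at this
    exact (Nat.pow_le_pow_iff_right hp.out.one_lt).1 this
  rcases (show k = 4 ∨ k = 5 by omega) with rfl | rfl
  · exact hk
  · exact absurd (eq_top_of_card_eq _ (by rw [hk, H.card]) ▸ mem_top e) H.e_not_gam

theorem top_eq : gam X ⊔ zpowers e = ⊤ :=
  sup_eq_of_between H.five.isP le_top (by rw [card_top, H.card, H.card_gam]; ring_nf; rfl) (mem_top e) H.e_not_gam

theorem comm_top (g h : X) : ⁅g, h⁆ ∈ L X 1 := by
  rw [show L X 1 = commutator X from top_lowerCentralSeries_one]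
  exact commutator_mem_commutator (mem_top g) (mem_top h)

section Gen

variable {s : X} (hs : s ∈ gam X) (hs' : s ∉ L X 1)
include hs hs'

theorem gam_eq : L X 1 ⊔ zpowers s = gam X :=
  sup_eq_of_between H.five.isP H.L1_le_gam (by rw [H.card_gam, H.card1]; ring_nf; rfl) hs hs'

theorem s2_not : ⁅s, e⁆ ∉ L X 2 := fun h => by
  set π := QuotientGroup.mk' (L X 2)
  have hl : ∀ u ∈ L X 1, ∀ g, Commute (π u) (π g) := fun u hu g =>
    commutatorElement_eq_one_iff_mul_comm.1 (by
      rw [← map_commutatorElement]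
      exact (QuotientGroup.eq_one_iff _).2 (comm_mem_succ hu g))
  have hse : Commute (π s) (π e) := commutatorElement_eq_one_iff_mul_comm.1 (by
    rw [← map_commutatorElement]
    exact (QuotientGroup.eq_one_iff _).2 h)
  have hle : L X 1 ≤ L X 2 := by
    rw [show L X 1 = ⁅(⊤ : Subgroup X), ⊤⁆ from (top_lowerCentralSeries_one (G := X)).trans (commutator_def X)]
    refine commutator_le.2 fun a _ b _ => (QuotientGroup.eq_one_iff _).1 ?_
    show π ⁅a, b⁆ = 1
    haveI := H.normal_gam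
    obtain ⟨u, hu, i, rfl⟩ := exists_mul_pow (H.top_eq.ge (mem_top a))
    obtain ⟨v, hv, j, rfl⟩ := exists_mul_pow (H.top_eq.ge (mem_top b))
    obtain ⟨u1, hu1, i1, rfl⟩ := exists_mul_pow ((H.gam_eq hs hs').ge hu)
    obtain ⟨v1, hv1, j1, rfl⟩ := exists_mul_pow ((H.gam_eq hs hs').ge hv)
    rw [map_commutatorElement, commutatorElement_eq_one_iff_mul_comm]
    simp only [map_mul, map_pow]
    refine Commute.eq ?_
    refine Commute.mul_left ?_ (Commute.mul_left ?_ ?_)
    · exact (Commute.pow_pow_self _ i j).mul_right ((hse.symm.pow_pow i j1).mul_right ((hl v1 hv1 e).symm.pow_left i))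
    · exact (hse.pow_pow i1 j).mul_right ((Commute.pow_pow_self _ i1 j1).mul_right ((hl v1 hv1 s).symm.pow_left i1))
    · exact (((hl u1 hu1 e).pow_right j)).mul_right (((hl u1 hu1 s).pow_right j1).mul_right (hl u1 hu1 v1))
  exact (H.data.L_lt (show 1 < 5 - 1 by norm_num)).not_ge hle

theorem w_central (g : X) : Commute ⁅s, ⁅s, e⁆⁆ g := by
  set t := ⁅s, e⁆
  suffices h : g * ⁅s, t⁆ * g⁻¹ = ⁅s, t⁆ from (mul_inv_eq_iff_eq_mul.1 h).symm
  have ht : t ∈ L X 1 := H.comm_top s e
  have h1 : s⁻¹ * (g * s * g⁻¹) ∈ L X 1 := by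
    have := H.comm_top s⁻¹ g
    rw [commutatorElement_def, inv_inv] at this
    convert this using 1
    group
  have h2 : t⁻¹ * (g * t * g⁻¹) ∈ L X 2 := by
    have := comm_mem_succ ((L X 1).inv_mem ht) g
    rw [commutatorElement_def, inv_inv] at this
    convert this using 1
    group
  calc g * ⁅s, t⁆ * g⁻¹ = ⁅s * (s⁻¹ * (g * s * g⁻¹)), t * (t⁻¹ * (g * t * g⁻¹))⁆ := by
        rw [mul_inv_cancel_left, mul_inv_cancel_left, commutatorElement_def, commutatorElement_def]
        group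
    _ = ⁅s, t⁆ := by
        rw [commutator_mul_left (H.commL1 h1 ((L X 1).mul_mem ht (L_le (by norm_num) h2))),
          commutator_mul_right (show Commute s _ from (mem_centralizer_iff.1 hs _ h2).symm)]

theorem L1_eq : L X 2 ⊔ zpowers ⁅s, e⁆ = L X 1 :=
  sup_eq_of_between H.five.isP (L_le (by norm_num)) (by rw [H.card1, H.card2]; ring_nf; rfl)
    (H.comm_top s e) (H.s2_not hs hs')

theorem comm_gam {u v : X} (hu : u ∈ gam X) (hv : v ∈ gam X) : ⁅u, v⁆ ∈ L X 3 := by
  set π := QuotientGroup.mk' (L X 3)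
  have key : ∀ l ∈ L X 1, Commute (π s) (π l) := fun l hl => by
    obtain ⟨m, hm, j, rfl⟩ := exists_mul_pow ((H.L1_eq hs hs').ge hl)
    refine commutatorElement_eq_one_iff_mul_comm.1 ?_
    rw [← map_commutatorElement]
    refine (QuotientGroup.eq_one_iff _).2 ?_
    rw [commutator_mul_right (show Commute s m from (mem_centralizer_iff.1 hs m hm).symm),
      Cfsg.Lib.PGroups.commutator_pow_right_of_commute (H.w_central hs hs' _)]
    exact pow_mem (H.center_eq.le (mem_center_iff.2 fun g => (H.w_central hs hs' g).symm.eq)) j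
  obtain ⟨a, ha, i, rfl⟩ := exists_mul_pow ((H.gam_eq hs hs').ge hu)
  obtain ⟨b, hb, j, rfl⟩ := exists_mul_pow ((H.gam_eq hs hs').ge hv)
  refine (QuotientGroup.eq_one_iff _).1 ?_
  show π _ = 1
  rw [map_commutatorElement, commutatorElement_eq_one_iff_mul_comm, map_mul, map_mul, map_pow, map_pow]
  exact (((Commute.pow_pow_self (π s) i j).mul_left ((key a ha).symm.pow_right j)).mul_right
    (((key b hb).pow_left i).mul_left ((H.commL1 ha hb).map π))).eq

theorem w_ne : ⁅s, ⁅s, e⁆⁆ ≠ 1 := fun h => by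
  obtain ⟨a, ha, b, hb, hne⟩ := H.five.not_comm H.card_gam
  obtain ⟨a1, ha1, i, rfl⟩ := exists_mul_pow ((H.gam_eq hs hs').ge ha)
  obtain ⟨b1, hb1, j, rfl⟩ := exists_mul_pow ((H.gam_eq hs hs').ge hb)
  have hc : ∀ l ∈ L X 1, Commute s l := fun l hl => by
    obtain ⟨m, hm, k, rfl⟩ := exists_mul_pow ((H.L1_eq hs hs').ge hl)
    exact ((show Commute s _ from commutatorElement_eq_one_iff_mul_comm.1 h).pow_right k).mul_right
      (show Commute s m from (mem_centralizer_iff.1 hs m hm).symm)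
  exact hne (((Commute.pow_pow_self s i j).mul_left ((hc a1 ha1).symm.pow_right j)).mul_right
    (((hc b1 hb1).pow_left i).mul_left (H.commL1 ha1 hb1))).eq

theorem s3_not : ⁅⁅s, e⁆, e⁆ ∉ L X 3 := fun h => by
  set t := ⁅s, e⁆
  set π := QuotientGroup.mk' (L X 3)
  have hc : ∀ {u v : X}, ⁅u, v⁆ ∈ L X 3 → Commute (π u) (π v) := fun {u v} huv =>
    commutatorElement_eq_one_iff_mul_comm.1 (by
      rw [← map_commutatorElement]; exact (QuotientGroup.eq_one_iff _).2 huv)
  have hle : L X 2 ≤ L X 3 := by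
    rw [show L X 2 = ⁅L X 1, ⊤⁆ from Subgroup.lowerCentralSeries_succ _ 1]
    refine commutator_le.2 fun a ha b _ => (QuotientGroup.eq_one_iff _).1 ?_
    show π ⁅a, b⁆ = 1
    haveI := H.normal_gam
    obtain ⟨m, hm, j, rfl⟩ := exists_mul_pow ((H.L1_eq hs hs').ge ha)
    obtain ⟨v, hv, k, rfl⟩ := exists_mul_pow (H.top_eq.ge (mem_top b))
    rw [map_commutatorElement, commutatorElement_eq_one_iff_mul_comm, map_mul, map_mul, map_pow, map_pow]
    refine Commute.eq (Commute.mul_left ?_ ?_)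
    · exact (((hc h).pow_pow j k)).mul_right ((hc (H.comm_gam hs hs' (H.L1_le_gam (H.comm_top s e)) hv)).pow_left j)
    · exact ((hc (comm_mem_succ hm e)).pow_right k).mul_right (hc (comm_mem_succ hm v))
  exact (H.data.L_lt (show 2 < 5 - 1 by norm_num)).not_ge hle

theorem z_ne : ⁅⁅⁅s, e⁆, e⁆, e⁆ ≠ 1 := fun h => by
  set v := ⁅⁅s, e⁆, e⁆
  have hv : v ∈ L X 2 := comm_mem_succ (H.comm_top s e) e
  have e' : L X 3 ⊔ zpowers v = L X 2 := sup_eq_of_between H.five.isP (L_le (by norm_num))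
    (by rw [H.card2, H.card3]; ring_nf; rfl) hv (H.s3_not hs hs')
  have hle : L X 2 ≤ centralizer ({e} : Set X) := e' ▸ sup_le
    (fun u hu => mem_centralizer_singleton_iff.2 (mem_center_iff.1 (H.center_eq.ge hu) e).symm)
    (zpowers_le.2 (mem_centralizer_singleton_iff.2 (commutatorElement_eq_one_iff_mul_comm.1 h)))
  have h' := eq_of_le_of_card_ge hle (by rw [H.data.cent, H.card2])
  exact H.data.x_not_mem (L_le (show 1 ≤ 2 by norm_num) (h'.ge (mem_centralizer_singleton_iff.2 rfl)))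

/-- The weights of an automorphism with weight `a` on the top quotient. -/
theorem weights (σ : MulAut X) {a : ℕ} {γ : X} (hγ : γ ∈ gam X) (hσe : σ e = e ^ a * γ)
    (ha : (a : ZMod p) ≠ 0) :
    ∃ b : ℕ, (b : ZMod p) = (a : ZMod p) ^ 2 ∧ (∃ u ∈ L X 1, σ s = s ^ b * u) ∧
      σ ⁅⁅⁅s, e⁆, e⁆, e⁆ = ⁅⁅⁅s, e⁆, e⁆, e⁆ ^ (b * a * a * a) := by
  set t := ⁅s, e⁆
  set v := ⁅t, e⁆
  set z := ⁅v, e⁆
  have ht : t ∈ L X 1 := H.comm_top s e
  have hv : v ∈ L X 2 := comm_mem_succ ht e
  have hL : ∀ i, ∀ g ∈ L X i, σ g ∈ L X i := fun i g hg => by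
    have h : (L X i).map σ.toMonoidHom ≤ L X i := by
      rw [Subgroup.map_lowerCentralSeries]
      exact Subgroup.lowerCentralSeries_mono i le_top
    exact h ⟨g, hg, rfl⟩
  have hσs : σ s ∈ gam X := mem_centralizer_iff.2 fun g hg => by
    have h1 : σ.symm g ∈ L X 2 := by
      have h : (L X 2).map σ.symm.toMonoidHom ≤ L X 2 := by
        rw [Subgroup.map_lowerCentralSeries]
        exact Subgroup.lowerCentralSeries_mono 2 le_top
      exact h ⟨g, hg, rfl⟩
    have h2 := congrArg σ (mem_centralizer_iff.1 hs _ h1)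
    rwa [map_mul, map_mul, MulEquiv.apply_symm_apply] at h2
  obtain ⟨u, hu, b, hb⟩ := exists_mul_pow ((H.gam_eq hs hs').ge hσs)
  have hcz : ∀ g, Commute z g := fun g => (mem_center_iff.1 (H.step3 hv e) g).symm
  have hw := H.w_central hs hs'
  -- the successive commutators
  have e2 : QuotientGroup.mk' (L X 2) (σ t) = QuotientGroup.mk' (L X 2) (t ^ (b * a)) := by
    rw [map_commutatorElement σ, hb, hσe, map_pow]
    exact commutator_pow_mk (fun g => comm_mem_succ ht g) (comm_mem_succ hu e)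
      (L_le (show 2 ≤ 3 by norm_num) (H.comm_gam hs hs' hs hγ))
      (L_le (show 2 ≤ 3 by norm_num) (H.comm_gam hs hs' (H.L1_le_gam hu) hγ)) b a
  obtain ⟨u2, hu2, ht'⟩ : ∃ u2 ∈ L X 2, σ t = t ^ (b * a) * u2 :=
    ⟨_, QuotientGroup.eq.1 e2.symm, (mul_inv_cancel_left _ _).symm⟩
  have e3 : QuotientGroup.mk' (L X 3) (σ v) = QuotientGroup.mk' (L X 3) (v ^ (b * a * a)) := by
    rw [map_commutatorElement σ, ht', hσe, map_pow]
    exact commutator_pow_mk (fun g => comm_mem_succ hv g) (comm_mem_succ hu2 e)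
      (H.comm_gam hs hs' (H.L1_le_gam ht) hγ) (comm_mem_succ hu2 γ) (b * a) a
  obtain ⟨u3, hu3, hv'⟩ : ∃ u3 ∈ L X 3, σ v = v ^ (b * a * a) * u3 :=
    ⟨_, QuotientGroup.eq.1 e3.symm, (mul_inv_cancel_left _ _).symm⟩
  have e4 : σ z = z ^ (b * a * a * a) := by
    have hc3 : ∀ g, Commute u3 g := fun g => (mem_center_iff.1 (H.center_eq.ge hu3) g).symm
    rw [map_commutatorElement σ, hv', hσe]
    exact commutator_pow_mul hcz (hc3 e) (mem_centralizer_iff.1 hγ v hv) (hc3 γ) _ _
  refine ⟨b, ?_, ⟨u, hu, hb⟩, e4⟩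
  have ew : σ ⁅s, t⁆ = ⁅s, t⁆ ^ (b * (b * a)) := by
    rw [map_commutatorElement σ, hb, ht']
    exact commutator_pow_mul hw (H.commL1 hu ht)
      (show Commute s u2 from (mem_centralizer_iff.1 hs u2 hu2).symm) (H.comm12 hu hu2) _ _
  have hz3 : z ∈ L X 3 := H.center_eq.le (H.step3 hv e)
  have hzp : z ^ p = 1 := by
    have h := pow_card_eq_one' (x := (⟨z, hz3⟩ : L X 3))
    rw [H.card3] at h
    exact congrArg Subtype.val h
  have hgen : zpowers z = L X 3 := eq_of_le_of_card_ge (zpowers_le.2 hz3) (by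
    rw [Nat.card_zpowers, orderOf_eq_prime hzp (H.z_ne hs hs'), H.card3])
  obtain ⟨r, hr⟩ := mem_powers_iff_mem_zpowers.2
    (hgen.ge (H.center_eq.le (mem_center_iff.2 fun g => (hw g).symm.eq) : ⁅s, t⁆ ∈ L X 3))
  change z ^ r = ⁅s, t⁆ at hr
  have hwp : ⁅s, t⁆ ^ p = 1 := by rw [← hr, ← pow_mul, mul_comm, pow_mul, hzp, one_pow]
  have h := congrArg σ hr
  rw [map_pow, e4, ← pow_mul, mul_comm, pow_mul, hr, ew] at h
  have hm := pow_eq_pow_iff_modEq.1 h
  rw [orderOf_eq_prime hwp (H.w_ne hs hs'), ← ZMod.natCast_eq_natCast_iff] at hm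
  push_cast at hm
  by_cases hb0 : (b : ZMod p) = 0
  · exfalso
    obtain ⟨d, rfl⟩ := (ZMod.natCast_eq_zero_iff b p).1 hb0
    rw [show p * d * (p * d * a) = p * (d * (p * d * a)) by ring, pow_mul, hwp, one_pow, ← map_one σ] at ew
    exact H.w_ne hs hs' (σ.injective ew)
  · refine mul_left_cancel₀ hb0 (mul_right_cancel₀ ha ?_)
    linear_combination -hm

end Gen

end Max5

end Cfsg.Lib.Fusion.OrderPFive
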