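import Cfsg.Agent.Fusion.OrderPFive.MaxExtend
import Cfsg.Agent.Fusion.Pearl
import Cfsg.Agent.Fusion.RankTwo.Diag

/-!
The torus of an abelian pearl extends to the whole group; outside `p = 3, 7` there is no such pearl.
-/

set_option autoImplicit false
set_option linter.style.haveILetI false
set_option linter.unusedSectionVars false
set_option linter.unusedVariables false

namespace Cfsg.Lib.Fusion.OrderPFive

open Subgroup Cfsg Cfsg.FusionSystem Cfsg.Lib.Fusion
open Cfsg.Lib.PGroups.MaxClassRank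
open scoped commutatorElement

universe u

variable {Ω : Type u} [Group Ω] {S : Subgroup Ω} {F : FusionSystem S} {p : ℕ} [Finite S] [hp : Fact p.Prime]
  [Group.IsNilpotent S]

/-- An abelian pearl gives maximal class. -/
theorem max5_of_pearl (hS : IsPGroup p S) (hF : F.IsSaturated p) (T : Five p S) (hp2 : p ≠ 2) {E : Subgroup Ω}
    (hE : F.IsEssential p E) (hc : Nat.card E = p ^ 2) :
    (∃ x : S, Max5 p S x) ∧ (∀ a ∈ E, ∀ b ∈ E, a * b = b * a) ∧ ∀ a ∈ E, a ^ p = 1 := by
  haveI : IsMulCommutative E := IsPGroup.isMulCommutative_of_card_eq_prime_sq (p := p) hc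
  have hab : ∀ a ∈ E, ∀ b ∈ E, a * b = b * a := fun a ha b hb =>
    congrArg Subtype.val (IsMulCommutative.is_comm.comm (⟨a, ha⟩ : E) ⟨b, hb⟩)
  have hexp := exp_of_essential hS hF hE hab (Or.inl hc)
  obtain ⟨x, D⟩ := Pearl.exists_data hS hF hp2 hE
    (Or.inl ⟨hc, fun x hx => ⟨hexp x hx, inferInstance⟩⟩) T.card
  exact ⟨⟨x, T, D⟩, hab, hexp⟩

namespace Max5

variable {e : S} (H : Max5 p S e)
include H

/-- The normalizer of `L 3 ⊔ ⟨e⟩` is `L 2 ⊔ ⟨e⟩`. -/
theorem mem_normalizer_pearl (g : S) :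
    g ∈ L S 2 ⊔ zpowers e ↔ ∀ k ∈ L S 3 ⊔ zpowers e, g * k * g⁻¹ ∈ L S 3 ⊔ zpowers e := by
  set E := L S 3 ⊔ zpowers e
  have he : e ∈ E := mem_sup_right (mem_zpowers e)
  have hcen : ∀ l ∈ L S 3, ∀ v, Commute l v := fun l hl v => (mem_center_iff.1 (H.center_eq.ge hl) v).symm
  constructor
  · intro hg k hk
    obtain ⟨m, hm, i, rfl⟩ := exists_mul_pow hg
    obtain ⟨l, hl, j, rfl⟩ := exists_mul_pow hk
    have h1 : m * e * m⁻¹ ∈ E := by
      have := E.mul_mem (mem_sup_left (comm_mem_succ hm e)) he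
      rwa [commutatorElement_def, inv_mul_cancel_right] at this
    have h2 : m * (e ^ j * l) * m⁻¹ ∈ E := by
      have := E.mul_mem (E.pow_mem h1 j) (mem_sup_left hl : l ∈ E)
      rw [conj_pow] at this
      convert this using 1
      rw [mul_assoc m, mul_assoc (e ^ j), (hcen l hl m⁻¹).eq]
      group
    have h3 := E.mul_mem (E.mul_mem (E.pow_mem he i) h2) (E.inv_mem (E.pow_mem he i))
    convert h3 using 1
    group
  · intro hg
    let P : Subgroup S :=
      { carrier := {v | ⁅v, e⁆ ∈ L S 3}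
        one_mem' := by simp
        mul_mem' := fun {a b} ha hb => by
          show ⁅a * b, e⁆ ∈ L S 3
          rw [Cfsg.Lib.PGroups.mul_left_commutator]
          exact mul_mem ((inferInstance : (L S 3).Normal).conj_mem _ hb a) ha
        inv_mem' := fun {a} ha => by
          show ⁅a⁻¹, e⁆ ∈ L S 3
          rw [show ⁅a⁻¹, e⁆ = a⁻¹ * ⁅a, e⁆⁻¹ * a⁻¹⁻¹ by simp only [commutatorElement_def]; group]
          exact (inferInstance : (L S 3).Normal).conj_mem _ (inv_mem ha) _ }
    let f : P →* L S 3 := MonoidHom.mk' (fun v => ⟨⁅(v : S), e⁆, v.2⟩) fun a b => Subtype.ext (by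
      show ⁅(a : S) * b, e⁆ = ⁅(a : S), e⁆ * ⁅(b : S), e⁆
      rw [Cfsg.Lib.PGroups.mul_left_commutator, ← (hcen _ b.2 a).eq, mul_inv_cancel_right,
        (hcen _ b.2 ⁅(a : S), e⁆).eq])
    have hle : L S 2 ⊔ zpowers e ≤ P :=
      sup_le (fun m hm => comm_mem_succ hm e) (zpowers_le.2 (show ⁅e, e⁆ ∈ L S 3 by simp))
    have hcard : Nat.card P ≤ p ^ 3 := by
      have h := f.ker.card_mul_index
      rw [index_ker] at h
      have h1 : Nat.card f.range ≤ p := H.card3 ▸ card_le_card_group f.range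
      have h2 : Nat.card f.ker ≤ p ^ 2 := by
        rw [← H.data.cent]
        exact Nat.card_le_card_of_injective
          (fun v : f.ker => (⟨((v : P) : S), mem_centralizer_singleton_iff.2
            (commutatorElement_eq_one_iff_mul_comm.1 (congrArg Subtype.val (MonoidHom.mem_ker.1 v.2)))⟩ :
              centralizer ({e} : Set S)))
          fun a b h => Subtype.ext (Subtype.ext (congrArg Subtype.val h :))
      rw [← h, pow_succ]
      exact Nat.mul_le_mul h2 h1
    rw [eq_of_le_of_card_ge hle (hcard.trans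
      ((H.card_sup e H.e_not_gam).2 (by rw [H.data.ord]; exact one_mem _)).ge)]
    show ⁅g, e⁆ ∈ L S 3
    have h1 : ⁅g, e⁆ ∈ E := E.mul_mem (hg e he) (E.inv_mem he)
    obtain ⟨l, hl, j, hj⟩ := exists_mul_pow h1
    have h2 : e ^ j ∈ L S 1 := by
      rw [show e ^ j = ⁅g, e⁆ * l⁻¹ by rw [hj, mul_inv_cancel_right]]
      exact mul_mem (H.comm_top g e) (inv_mem (L_le (show 1 ≤ 3 by norm_num) hl))
    have h3 := cast_eq_of_pow (K := L S 1) (g := e) (fun h => H.e_not_gam (H.L1_le_gam h))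
      (by rw [H.data.ord]; exact one_mem _) (i := j) (j := 0)
      (by rw [pow_zero]; exact (QuotientGroup.eq_one_iff _).2 h2)
    rw [Nat.cast_zero] at h3
    obtain ⟨d, rfl⟩ := (ZMod.natCast_eq_zero_iff j p).1 h3
    rw [hj, pow_mul, H.data.ord, one_pow, one_mul]
    exact hl

theorem normalizerIn_pearl {E : Subgroup Ω} (hES : E ≤ S) (hE : E.subgroupOf S = L S 3 ⊔ zpowers e) :
    normalizerIn S E = (L S 2 ⊔ zpowers e).map S.subtype := by
  rw [show E = (L S 3 ⊔ zpowers e).map S.subtype by rw [← hE, subgroupOf_map_subtype, inf_eq_left.2 hES]]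
  exact normalizerIn_map H.mem_normalizer_pearl

/-- An automorphism fixing the centre line of a pearl extends to the whole group. -/
theorem extend_pearl (hS : IsPGroup p S) (hF : F.IsSaturated p) {E : Subgroup Ω} (hE : F.IsEssential p E)
    (hEe : E.subgroupOf S = L S 3 ⊔ zpowers e) {g : MulAut E} (hg : g ∈ F.autGroup E)
    (h3 : ∀ v : E.subgroupOf S, (v : S) ∈ L S 3 → actHom hE.1.1 g v ∈ L S 3) :
    ∃ σ ∈ F.autGroup S, ∀ x ∈ E, autFun σ x = autFun g x := by
  have hES := hE.1.1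
  set NΩ := (L S 2 ⊔ zpowers e).map S.subtype
  have hNS : NΩ ≤ S := map_subtype_le _
  have hNe : NΩ.subgroupOf S = L S 2 ⊔ zpowers e := subgroupOf_map_subtype' _
  have hEe' : L S 3 ≤ E.subgroupOf S := le_sup_left.trans hEe.ge
  have hep : e ^ p ∈ L S 2 := by rw [H.data.ord]; exact one_mem _
  have hfl : SFlag p E (ofList [⊥, L S 3, E.subgroupOf S]) 2 :=
    { bot := rfl
      top := rfl
      normal := fun i hi => by
        interval_cases i <;> simp only [ofList, List.getD_cons_zero, List.getD_cons_succ] <;> infer_instance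
      mono := fun i hi => by
        interval_cases i
        · exact bot_le
        · exact hEe'
      card := fun i hi => by
        interval_cases i <;> simp only [ofList, List.getD_cons_zero, List.getD_cons_succ, Nat.reduceAdd]
        · rw [H.card3, card_bot, mul_one]
        · rw [hEe, card_sup_zpowers (fun h => H.e_not_gam (H.L1_le_gam (L_le (by norm_num) h)))
            (by rw [H.data.ord]; exact one_mem _), H.card3] }
  obtain ⟨β, hβ, hag⟩ := hfl.extend hS hF hE.2.1 hg (fun i hi v hv => by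
    interval_cases i
    · simp only [ofList, List.getD_cons_zero, mem_bot] at hv ⊢
      rw [show v = 1 from Subtype.ext hv, map_one]
    · exact h3 v hv) (H.normalizerIn_pearl hES hEe)
  have hNn : F.IsFullyNormalized NΩ := by
    refine ⟨hNS, fun R hR => ?_⟩
    have hN4 : normalizerIn S NΩ = (L S 1 ⊔ zpowers e).map S.subtype :=
      normalizerIn_map (H.mem_normalizer_small H.e_not_gam hep)
    rw [hN4, card_map_of_injective S.subtype_injective, (H.card_sup e H.e_not_gam).1]
    by_contra hlt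
    obtain ⟨f, hf, rfl⟩ := isConj_iff.1 hR
    obtain ⟨k, hk⟩ := exists_pow hS ((normalizerIn S (img NΩ f)).subgroupOf S)
    rw [card_normalizerIn_eq] at hk
    have hk5 : p ^ k ≤ p ^ 5 := by
      rw [← hk, ← H.card]
      exact card_le_of_le inf_le_left
    rw [hk, Nat.pow_le_pow_iff_right hp.out.one_lt] at hlt
    rw [Nat.pow_le_pow_iff_right hp.out.one_lt] at hk5
    have hkS : normalizerIn S (img NΩ f) = S := eq_of_le_of_card_ge inf_le_left (by
      rw [hk, H.card]; exact Nat.pow_le_pow_right hp.out.pos (by omega))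
    haveI : ((img NΩ f).subgroupOf S).Normal := ⟨fun a ha v =>
      (conj_mem_of_mem_normalizer (hkS.ge v.2).2 (show (a : Ω) ∈ img NΩ f from ha) :)⟩
    have hR1 : (img NΩ f).subgroupOf S = L S 1 := H.eq_L1_of_normal (by
      rw [card_subgroupOf_eq hf.img_le, hf.card_img, card_map_of_injective S.subtype_injective,
        (H.card_sup e H.e_not_gam).2 hep])
    obtain ⟨m, hm, hm3⟩ := SetLike.exists_of_lt (H.data.L_lt (show 2 < 5 - 1 by norm_num))
    have he : (e : Ω) ∈ NΩ := ⟨e, mem_sup_right (mem_zpowers e), rfl⟩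
    have hm' : (m : Ω) ∈ NΩ := ⟨m, mem_sup_left hm, rfl⟩
    have h1 : (⟨f e, hf.mem_S he⟩ : S) ∈ L S 1 := hR1.le (IsMap.apply_mem_img he : f e ∈ img NΩ f)
    have h2 : (⟨f m, hf.mem_S hm'⟩ : S) ∈ L S 1 := hR1.le (IsMap.apply_mem_img hm' : f m ∈ img NΩ f)
    refine H.not_commute H.e_not_gam hm hm3 (Subtype.ext ?_)
    show (e : Ω) * m = m * e
    refine hf.injOn (mul_mem he hm') (mul_mem hm' he) ?_
    rw [hf.map_mul he hm', hf.map_mul hm' he]
    exact congrArg Subtype.val (H.commL1 h1 h2).eq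
  -- the extension keeps `L 2`
  have hβ2 : ∀ v : NΩ.subgroupOf S, (v : S) ∈ L S 2 → actHom hNS β v ∈ L S 2 := by
    intro v hv
    by_contra hk
    obtain ⟨w, hw, i, hiw⟩ := exists_mul_pow (hNe.le (actHom_mem hNS β v))
    have hi : (i : ZMod p) ≠ 0 := fun h0 => by
      obtain ⟨d, rfl⟩ := (ZMod.natCast_eq_zero_iff _ _).1 h0
      rw [pow_mul, H.data.ord, one_pow, one_mul] at hiw
      exact hk (hiw ▸ hw)
    set n := ((i : ZMod p)⁻¹).val
    set π := QuotientGroup.mk' (L S 3)
    have hin : e ^ (i * n) = e := by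
      conv_rhs => rw [← pow_one e]
      refine pow_eq_pow_iff_modEq.2 ?_
      rw [orderOf_eq_prime H.data.ord H.data.x_ne_one, ← ZMod.natCast_eq_natCast_iff]
      push_cast
      rw [ZMod.natCast_zmod_val, mul_inv_cancel₀ hi]
    have hcw : ∀ m ∈ L S 2, ∀ q, Commute (π m) (π q) := fun m hm q =>
      commutatorElement_eq_one_iff_mul_comm.1 (by
        rw [← map_commutatorElement]; exact (QuotientGroup.eq_one_iff _).2 (comm_mem_succ hm q))
    obtain ⟨s, hs, hs'⟩ := H.exists_gen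
    set t := ⁅s, e⁆
    have ht : t ∈ L S 1 := H.comm_top s e
    obtain ⟨l, hl, j, hj⟩ := exists_mul_pow ((sup_eq_of_between H.five.isP (L_le (by norm_num))
      (by rw [H.card2, H.card3]; ring_nf; rfl) (comm_mem_succ ht e) (H.s3_not hs hs') :
        L S 3 ⊔ zpowers ⁅t, e⁆ = L S 2).ge (pow_mem hw n))
    have h1 := commutator_pow_mk (K := L S 3) (a := t) (b := e) (u := 1) (v := 1)
      (fun q => comm_mem_succ (comm_mem_succ ht e) q) (by simp) (by simp) (by simp) j 1
    rw [pow_one, mul_one, mul_one, mul_one] at h1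
    have hconjE : π (t ^ j * e * (t ^ j)⁻¹) = π (actHom hNS β (v ^ n)) := by
      have h2 : π (t ^ j * e * (t ^ j)⁻¹) = π ⁅t ^ j, e⁆ * π e := by
        rw [← map_mul, commutatorElement_def]
        group
      rw [h2, h1, map_pow (actHom hNS β), hiw, map_pow π, map_mul π, ((hcw w hw _).symm).mul_pow,
        map_pow π e i, ← pow_mul, ← map_pow π e (i * n), hin, ← map_pow π w, hj, map_mul, show π l = 1 from (QuotientGroup.eq_one_iff _).2 hl,
        mul_one, map_pow]
      exact ((hcw _ (comm_mem_succ ht e) e).pow_left j).eq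
    set MΩ := (L S 2).map S.subtype
    have hMN : MΩ ≤ NΩ := Subgroup.map_mono le_sup_left
    have hfm := ((isMap_autFun (F := F) hNS).mpr hβ).mono hMN
    set K := (img MΩ (autFun β)).subgroupOf S
    have hKmem : ∀ u : NΩ.subgroupOf S, (u : S) ∈ L S 2 → actHom hNS β u ∈ K := fun u hu => by
      show ((actHom hNS β u : S) : Ω) ∈ img MΩ (autFun β)
      rw [coe_actHom]
      exact IsMap.apply_mem_img ⟨_, hu, rfl⟩
    have hK3 : L S 3 ≤ K := by
      have hsub : ∀ u : E.subgroupOf S, (u : S) ∈ L S 3 → actHom hES g u ∈ K := fun u hu => by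
        show ((actHom hES g u : S) : Ω) ∈ img MΩ (autFun β)
        rw [coe_actHom, ← hag _ (show ((u : S) : Ω) ∈ E from u.2)]
        exact IsMap.apply_mem_img ⟨_, L_le (show 2 ≤ 3 by norm_num) hu, rfl⟩
      have hle : (((L S 3).subgroupOf (E.subgroupOf S)).map (actHom hES g)) ≤ K := by
        rintro _ ⟨u, hu, rfl⟩
        exact hsub u hu
      refine le_trans ?_ hle
      refine (eq_of_le_of_card_ge ?_ ?_).ge
      · rintro _ ⟨u, hu, rfl⟩
        exact h3 u hu
      · rw [card_map_of_injective (actHom_injective hES g),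
          Nat.card_congr (subgroupOfEquivOfLe hEe').toEquiv]
    have hKe : t ^ j * e * (t ^ j)⁻¹ ∈ K := by
      have h2 := K.mul_mem (hKmem (v ^ n) (by rw [SubgroupClass.coe_pow]; exact pow_mem hv n))
        (hK3 (QuotientGroup.eq.1 hconjE.symm))
      rwa [mul_inv_cancel_left] at h2
    have hconj := isMap_conj (F := F) hES (t ^ j : S).2
    have hsub : img E (fun z => ((t ^ j : S) : Ω) * z * ((t ^ j : S) : Ω)⁻¹) ≤ img MΩ (autFun β) := by
      refine IsMap.img_le_iff.2 fun z hz => ?_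
      obtain ⟨b, hb, k, e1⟩ := exists_mul_pow (hEe.le (show (⟨z, hES hz⟩ : S) ∈ E.subgroupOf S from hz))
      have h2 := K.mul_mem (K.pow_mem hKe k) (hK3 ((inferInstance : (L S 3).Normal).conj_mem b hb (t ^ j)))
      rw [conj_pow] at h2
      have h4 : (t ^ j * ⟨z, hES hz⟩ * (t ^ j)⁻¹ : S) ∈ K := by
        rw [e1]
        convert h2 using 1
        group
      exact h4
    haveI := finite_of_le hfm.img_le
    have heq := eq_of_le_of_card_ge hsub (by
      rw [hfm.card_img, hconj.card_img, card_map_of_injective S.subtype_injective, H.card2,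
        ← card_subgroupOf_eq hES, hEe, card_sup_zpowers (fun h => H.e_not_gam (H.L1_le_gam (L_le (by norm_num) h)))
          (by rw [H.data.ord]; exact one_mem _), H.card3, pow_two])
    have hcj : F.IsConj E MΩ := isConj_trans (isConj_iff.2 ⟨_, hconj, heq⟩)
      (isConj_symm (isConj_iff.2 ⟨_, hfm, rfl⟩))
    obtain ⟨u, hu, hu2⟩ := SetLike.exists_of_lt (H.data.L_lt (show 1 < 5 - 1 by norm_num))
    obtain ⟨u', hu', e'⟩ := hE.1.2 MΩ hcj (mem_centralizerIn.2 ⟨u.2, by
      rintro _ ⟨m, hm, rfl⟩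
      have h5 := congrArg Subtype.val (H.comm12 hu hm).eq
      simp only [coe_mul] at h5
      show (u : Ω) * m * (u : Ω)⁻¹ = m
      rw [h5, mul_inv_cancel_right]⟩ : (u : Ω) ∈ centralizerIn S MΩ)
    exact hu2 (Subtype.ext e' ▸ hu')
  obtain ⟨σ, hσ, hag'⟩ := H.extend_small hS hF H.e_not_gam hep hNn hNe hβ hβ2
  refine ⟨σ, hσ, fun x hx => ?_⟩
  rw [hag' x ?_, hag x hx]
  exact (H.normalizerIn_pearl hES hEe).le (le_normalizerIn hES hx)

end Max5

/-- The torus of a pearl: weight `2⁻¹` on the top and `2` on the centre. -/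
theorem exists_torus_pearl (hS : IsPGroup p S) (hF : F.IsSaturated p) (T : Five p S) (hp2 : p ≠ 2)
    {E : Subgroup Ω} (hE : F.IsEssential p E) (hc : Nat.card E = p ^ 2) :
    ∃ (e : S) (σ : MulAut S) (a : ℕ), σ ∈ F.autGroup S ∧ Max5 p S e ∧ e ∈ E.subgroupOf S ∧
      σ e = e ^ a ∧ (2 : ZMod p) * a = 1 ∧ ∀ z ∈ center S, σ z = z ^ 2 := by
  obtain ⟨⟨x, H0⟩, hab, hexp⟩ := max5_of_pearl hS hF T hp2 hE hc
  have hES := hE.1.1
  haveI := finite_of_le hES
  have hE' : Nat.card (E.subgroupOf S) = p ^ 2 := (card_subgroupOf_eq hES).trans hc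
  have hZE := center_le_of_centric hE.1
  have hZc : Nat.card (center S) = p := by rw [H0.center_eq, H0.card3]
  obtain ⟨z, hz, hz1⟩ := SetLike.exists_of_lt (show (⊥ : Subgroup S) < center S from bot_lt_iff_ne_bot.2 fun e => by
    rw [e, card_bot] at hZc; exact hp.out.one_lt.ne hZc)
  rw [mem_bot] at hz1
  set e0 : E := ⟨(z : Ω), hZE hz⟩
  have he0 : e0 ≠ 1 := fun h => hz1 (Subtype.ext (congrArg Subtype.val h :))
  have hzgen : zpowers e0 = pull E (center S) := eq_of_le_of_card_ge (zpowers_le.2 ((mem_pull hES).2 hz)) (by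
    rw [card_pull hES hZE, hZc, Nat.card_zpowers, orderOf_eq_prime (Subtype.ext (hexp _ (hZE hz))) he0])
  obtain ⟨β, hβ, hmove⟩ : ∃ β ∈ F.autGroup E, β e0 ∉ zpowers e0 := by
    by_contra h
    push Not at h
    refine false_of_flag hS hF hE (C := ofList [⊥, zpowers e0, ⊤]) (n := 2) ⟨rfl, rfl, fun i hi => ?_⟩
      (fun i hi => ⟨fun j _ v hv => ?_, ?_⟩) fun α hα i hi => ?_
    · interval_cases i <;> simp [ofList]
    · rwa [show j * v * j⁻¹ = v from Subtype.ext (by
        show (j : Ω) * v * (j : Ω)⁻¹ = v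
        rw [hab _ j.2 _ v.2, mul_inv_cancel_right])]
    · interval_cases i <;> simp only [ofList, List.getD_cons_zero, List.getD_cons_succ, card_bot, card_top,
        Nat.reduceAdd]
      · rw [hzgen, card_pull hES hZE, hZc, mul_one]
      · rw [hzgen, card_pull hES hZE, hZc, hc, pow_two]
    · interval_cases i
      · simp [ofList]
      · rintro v ⟨k, rfl⟩
        show α (e0 ^ k) ∈ zpowers e0
        rw [map_zpow]
        exact zpow_mem (h α hα) k
      · simp [ofList]
  obtain ⟨w, hw, hwE⟩ := SetLike.exists_of_lt (lt_normalizerIn hS (EssentialGen.lt_of_essential hS hF hE))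
  obtain ⟨g, hg, e1, he1, hg0, hg1⟩ := RankTwo.exists_diag (fun a b : E => Subtype.ext (hab a a.2 b b.2))
    (fun a => Subtype.ext (hexp a a.2)) hc (A := F.autGroup E) (a := conjAut E w hw.2)
    (autInducedBy_le hES (conjAut_mem_autInducedBy hw.2 hw.1)) hβ he0
    (Subtype.ext (by
      rw [conjAut_apply]
      show w * (z : Ω) * w⁻¹ = z
      rw [show w * (z : Ω) = z * w from congrArg Subtype.val (mem_center_iff.1 hz ⟨w, hw.1⟩), mul_inv_cancel_right]))
    (fun h => hwE (hE.1.2 E (isConj_refl hES) (mem_centralizerIn.mpr ⟨hw.1, fun v hv => by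
      rw [← conjAut_apply hw.2 ⟨v, hv⟩, h]; rfl⟩)))
    hmove (pow_eq_one_of_mem_autS hS (conjAut_mem_autInducedBy hw.2 hw.1)) (μ := 2)
    (fun h => hp2 ((Nat.prime_dvd_prime_iff_eq hp.out Nat.prime_two).1 h))
  set e : S := ⟨(e1 : Ω), hES e1.2⟩
  have heE : e ∈ E.subgroupOf S := e1.2
  have hez : e ∉ center S := fun h => he1 (hzgen.ge ((mem_pull hES).2 h))
  have hEe : center S ⊔ zpowers e = E.subgroupOf S :=
    sup_eq_of_between hS hZE (by rw [hE', hZc, pow_two]) heE hez
  have hcent : centralizer ({e} : Set S) = E.subgroupOf S := by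
    refine le_antisymm (fun v hv => self_of_centric hE.1 fun a ha => ?_) fun v hv =>
      mem_centralizer_singleton_iff.2 (Subtype.ext (hab _ hv _ heE))
    obtain ⟨u, hu, k, rfl⟩ := exists_mul_pow (hEe.ge ha)
    exact ((show Commute v e from (mem_centralizer_singleton_iff.1 hv)).pow_right k).mul_right
      (mem_center_iff.1 hu v)
  have hep : e ^ p = 1 := Subtype.ext (hexp _ e1.2)
  have H : Max5 p S e := ⟨T, ⟨H0.data.odd, H0.data.three, H0.data.card, H0.data.cls, hep, by rw [hcent, hE']⟩⟩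
  have h2 : (2 : ZMod p) ≠ 0 := fun h => hp2 ((Nat.prime_dvd_prime_iff_eq hp.out Nat.prime_two).1
    ((ZMod.natCast_eq_zero_iff 2 p).1 (by exact_mod_cast h)))
  obtain ⟨σ, hσ, hag⟩ := H.extend_pearl hS hF hE (by rw [← H.center_eq, hEe]) hg fun v hv => by
    rw [← H.center_eq] at hv ⊢
    have : (⟨((v : S) : Ω), v.2⟩ : E) ∈ zpowers e0 := hzgen.ge ((mem_pull hES).2 hv)
    obtain ⟨k, hk⟩ := this
    have h4 : g (⟨((v : S) : Ω), v.2⟩ : E) ∈ pull E (center S) := by
      rw [← hzgen, ← hk]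
      show g (e0 ^ k) ∈ zpowers e0
      rw [map_zpow, hg0]
      exact zpow_mem (pow_mem (mem_zpowers _) _) k
    exact (mem_pull hES).1 h4
  set a := ((2 : ZMod p)⁻¹).val
  have ha : (2 : ZMod p) * a = 1 := by rw [ZMod.natCast_zmod_val, mul_inv_cancel₀ h2]
  refine ⟨e, σ, a, hσ, H, heE, Subtype.ext ?_, ha, fun v hv => ?_⟩
  · rw [← autFun_apply σ, hag _ e1.2, autFun_apply, coe_pow]
    show ((g e1 : E) : Ω) = ((e1 : E) : Ω) ^ a
    rw [← coe_pow]
    refine congrArg Subtype.val ?_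
    conv_rhs => rw [← hg1, ← pow_mul]
    conv_lhs => rw [← pow_one (g e1)]
    refine pow_eq_pow_iff_modEq.2 (Nat.ModEq.of_dvd (orderOf_dvd_of_pow_eq_one (Subtype.ext (hexp _ (g e1).2))) ?_)
    rw [← ZMod.natCast_eq_natCast_iff]
    push_cast
    exact ha.symm
  · obtain ⟨k, hk⟩ : ∃ k : ℤ, e0 ^ k = (⟨(v : Ω), hZE hv⟩ : E) :=
      hzgen.ge ((mem_pull hES).2 hv)
    refine Subtype.ext ?_
    rw [← autFun_apply σ, hag (v : Ω) (hZE hv), autFun_apply_mem g (show (v : Ω) ∈ E from hZE hv), ← hk, map_zpow, hg0, coe_pow]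
    show (((e0 ^ 2) ^ k : E) : Ω) = (v : Ω) ^ 2
    rw [← zpow_natCast, ← zpow_mul, mul_comm, zpow_mul, hk, zpow_natCast]
    rfl

/-- Outside `p = 3, 7` there is no abelian pearl. -/
theorem three_of_pearl (hS : IsPGroup p S) (hF : F.IsSaturated p) (T : Five p S) (hp2 : p ≠ 2) (hp7 : p ≠ 7)
    {E : Subgroup Ω} (hE : F.IsEssential p E) (hc : Nat.card E = p ^ 2) : p = 3 := by
  obtain ⟨e, σ, a, -, H, -, hσe, ha, hσz⟩ := exists_torus_pearl hS hF T hp2 hE hc
  obtain ⟨s, hs, hs'⟩ := H.exists_gen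
  have ha0 : (a : ZMod p) ≠ 0 := fun h => by rw [h, mul_zero] at ha; exact zero_ne_one ha
  obtain ⟨b, hb, -, hz⟩ := H.weights hs hs' σ (γ := 1) (one_mem _) (by rw [hσe, mul_one]) ha0
  set z := ⁅⁅⁅s, e⁆, e⁆, e⁆
  have hzZ : z ∈ center S := H.step3 (comm_mem_succ (H.comm_top s e) e) e
  rw [hσz z hzZ] at hz
  have hzp : z ^ p = 1 := by
    have h := pow_card_eq_one' (x := (⟨z, hzZ⟩ : center S))
    rw [show Nat.card (center S) = p by rw [H.center_eq, H.card3]] at h
    exact congrArg Subtype.val h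
  have hm := pow_eq_pow_iff_modEq.1 hz
  rw [orderOf_eq_prime hzp (H.z_ne hs hs'), ← ZMod.natCast_eq_natCast_iff] at hm
  push_cast [hb] at hm
  have h63 : ((63 : ℕ) : ZMod p) = 0 := by
    push_cast
    linear_combination (32 : ZMod p) * hm + (16 * (a : ZMod p) ^ 4 + 8 * (a : ZMod p) ^ 3 + 4 * (a : ZMod p) ^ 2
      + 2 * (a : ZMod p) + 1) * ha
  obtain h | h := hp.out.dvd_mul.1 ((ZMod.natCast_eq_zero_iff (3 * 3 * 7) p).1 h63)
  · obtain h | h := hp.out.dvd_mul.1 h <;> exact (Nat.prime_dvd_prime_iff_eq hp.out Nat.prime_three).1 h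
  · exact absurd ((Nat.prime_dvd_prime_iff_eq hp.out (by norm_num)).1 h) hp7

end Cfsg.Lib.Fusion.OrderPFive
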