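import Cfsg.Agent.Fusion.OrderPFive.Bridge

/-!
Flags of subgroups of `S` normal in `S` inside a subgroup, and the extensions they give.
-/

set_option autoImplicit false
set_option linter.style.haveILetI false
set_option linter.unusedSectionVars false
set_option linter.unusedVariables false

namespace Cfsg.Lib.Fusion.OrderPFive

open Subgroup Cfsg Cfsg.FusionSystem Cfsg.Lib.Fusion
open scoped commutatorElement

universe u

variable {Ω : Type u} [Group Ω] {S : Subgroup Ω} {F : FusionSystem S} {p : ℕ}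

/-- A flag of normal subgroups of `S` ending in `Q`. -/
structure SFlag (p : ℕ) (Q : Subgroup Ω) (K : ℕ → Subgroup S) (n : ℕ) : Prop where
  bot : K 0 = ⊥
  top : K n = Q.subgroupOf S
  normal : ∀ i < n, (K i).Normal
  mono : ∀ i < n, K i ≤ K (i + 1)
  card : ∀ i < n, Nat.card (K (i + 1)) = p * Nat.card (K i)

/-- `α` maps every member below `Q` into itself. -/
def SKeep {Q : Subgroup Ω} (hQ : Q ≤ S) (K : ℕ → Subgroup S) (n : ℕ) (α : MulAut Q) : Prop :=
  ∀ i < n, ∀ g : Q.subgroupOf S, (g : S) ∈ K i → actHom hQ α g ∈ K i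

variable [Finite S] [hp : Fact p.Prime] {Q : Subgroup Ω} {K : ℕ → Subgroup S} {n : ℕ}

theorem SFlag.le_top (hK : SFlag p Q K n) : ∀ i ≤ n, K i ≤ Q.subgroupOf S := by
  suffices h : ∀ d i, i + d = n → K i ≤ Q.subgroupOf S from fun i hi => h (n - i) i (by omega)
  intro d
  induction d with
  | zero => intro i hi; rw [show i = n from hi]; exact hK.top.le
  | succ d ih => intro i hi; exact (hK.mono i (by omega)).trans (ih (i + 1) (by omega))

theorem SFlag.chain (hQ : Q ≤ S) (hK : SFlag p Q K n) : IsChain (fun i => pull Q (K i)) n :=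
  ⟨by rw [hK.bot]; exact pull_bot, by rw [hK.top]; exact pull_eq_top hQ, fun i hi => pull_mono (hK.mono i hi)⟩

theorem SFlag.flag (hQ : Q ≤ S) (hK : SFlag p Q K n) : IsFlag p (fun i => pull Q (K i)) n := fun i hi => by
  refine ⟨fun j _ v hv => (mem_pull hQ).2 ((hK.normal i hi).conj_mem _ ((mem_pull hQ).1 hv) ⟨(j : Ω), hQ j.2⟩), ?_⟩
  rw [card_pull hQ (hK.le_top _ hi), card_pull hQ (hK.le_top _ hi.le), hK.card i hi]

theorem SFlag.keep (hQ : Q ≤ S) (hK : SFlag p Q K n) {α : MulAut Q} (h : SKeep hQ K n α) :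
    Keep (fun i => pull Q (K i)) n α := fun i hi => by
  rcases hi.eq_or_lt with rfl | hlt
  · intro q _
    show α q ∈ pull Q (K i)
    rw [hK.top, pull_eq_top hQ]
    exact mem_top _
  · exact keep_pull hQ (h i hlt)

theorem SFlag.triv_autS (hS : IsPGroup p S) (hQ : Q ≤ S) (hK : SFlag p Q K n) {β : MulAut Q}
    (hβ : β ∈ autInducedBy S Q) : Triv (fun i => pull Q (K i)) n β := by
  refine triv_of_flag hS hQ (hK.chain hQ) (hK.flag hQ) hβ fun i hi => ?_
  rcases hi.eq_or_lt with rfl | hlt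
  · intro q _
    show β q ∈ pull Q (K i)
    rw [hK.top, pull_eq_top hQ]
    exact mem_top _
  · haveI := hK.normal i hlt
    exact keep_pull_autS' hQ hβ
where
  keep_pull_autS' {Q : Subgroup Ω} (hQ : Q ≤ S) {K : Subgroup S} [K.Normal] {β : MulAut Q}
      (hβ : β ∈ autInducedBy S Q) : ∀ q ∈ pull Q K, β q ∈ pull Q K := by
    obtain ⟨g, hg, eg⟩ := mem_autInducedBy.mp hβ
    intro q hq
    refine (mem_pull hQ).2 ?_
    have h := ‹K.Normal›.conj_mem _ ((mem_pull hQ).1 hq) ⟨g, hg⟩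
    rwa [show (⟨((β q : Q) : Ω), hQ (β q).2⟩ : S) = ⟨g, hg⟩ * ⟨(q : Ω), hQ q.2⟩ * (⟨g, hg⟩ : S)⁻¹ from
      Subtype.ext (eg q)]

/-- An automorphism keeping a flag normalizes the induced group. -/
theorem SFlag.normalize (hS : IsPGroup p S) (hfa : F.IsFullyAutomized p Q) (hK : SFlag p Q K n)
    {α : MulAut Q} (hα : α ∈ F.autGroup Q) (h : SKeep hfa.1 K n α) :
    ∀ β ∈ autInducedBy S Q, α * β * α⁻¹ ∈ autInducedBy S Q :=
  normalize_of_keep hS hfa (hK.chain hfa.1) (fun β hβ => hK.triv_autS hS hfa.1 hβ) hα (hK.keep hfa.1 h)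

theorem aut_transfer {P R : Subgroup Ω} {Q : Subgroup Ω} {α : MulAut Q} (h : P = R)
    (hex : ∃ β ∈ F.autGroup P, ∀ x ∈ Q, autFun β x = autFun α x) :
    ∃ β ∈ F.autGroup R, ∀ x ∈ Q, autFun β x = autFun α x := by
  subst h; exact hex

/-- An automorphism keeping a flag extends to the normalizer. -/
theorem SFlag.extend (hS : IsPGroup p S) (hF : F.IsSaturated p) (hQn : F.IsFullyNormalized Q)
    (hK : SFlag p Q K n) {α : MulAut Q} (hα : α ∈ F.autGroup Q) (h : SKeep hQn.1 K n α) {R : Subgroup Ω}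
    (hR : normalizerIn S Q = R) : ∃ β ∈ F.autGroup R, ∀ x ∈ Q, autFun β x = autFun α x :=
  aut_transfer hR (extend_of_normalize hS hF hQn hα
    (hK.normalize hS (fullyNormalized_props hS hF hQn).2.1 hα h))

theorem normalizerIn_map {K N : Subgroup S}
    (h : ∀ g : S, g ∈ N ↔ ∀ k ∈ K, g * k * g⁻¹ ∈ K) : normalizerIn S (K.map S.subtype) = N.map S.subtype := by
  haveI : Finite (K.map S.subtype) := finite_of_le (map_subtype_le K)
  refine le_antisymm ?_ ?_
  · intro g hg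
    refine ⟨⟨g, hg.1⟩, (h _).2 fun k hk => ?_, rfl⟩
    obtain ⟨k', hk', e⟩ := conj_mem_of_mem_normalizer hg.2 (show (k : Ω) ∈ K.map S.subtype from ⟨k, hk, rfl⟩)
    rwa [show (⟨g, hg.1⟩ : S) * k * (⟨g, hg.1⟩ : S)⁻¹ = k' from Subtype.ext e.symm]
  · rintro _ ⟨g, hg, rfl⟩
    refine ⟨g.2, mem_normalizer_of_maps_finite ?_⟩
    rintro _ ⟨k, hk, rfl⟩
    exact ⟨_, (h g).1 hg k hk, rfl⟩

theorem subgroupOf_map_subtype' (K : Subgroup S) : (K.map S.subtype).subgroupOf S = K :=
  comap_map_eq_self_of_injective S.subtype_injective K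

end Cfsg.Lib.Fusion.OrderPFive
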