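import Cfsg.Agent.Fusion.OrderPFive.Bridge

/-!
An inversion of a plane made from two transvections, commutators of chain-keeping maps, and the criterion
against `F` being its own residual.
-/

set_option autoImplicit false
set_option linter.style.haveILetI false
set_option linter.unusedSectionVars false
set_option linter.unusedVariables false

namespace Cfsg.Lib.Fusion.OrderPFive

open Subgroup Cfsg Cfsg.FusionSystem Cfsg.Lib.Fusion
open scoped commutatorElement

universe u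

section Group

variable {Q : Type u} [Group Q] {Z : Subgroup Q} [Z.Normal]

theorem commute_mk (hab : ∀ a b : Q, ⁅a, b⁆ ∈ Z) (a b : Q) :
    Commute (QuotientGroup.mk' Z a) (QuotientGroup.mk' Z b) :=
  commutatorElement_eq_one_iff_mul_comm.1 (by
    rw [← map_commutatorElement]; exact (QuotientGroup.eq_one_iff _).2 (hab a b))

theorem mk_apply_congr {β : MulAut Q} (hβ : ∀ z ∈ Z, β z ∈ Z) {a b : Q}
    (h : QuotientGroup.mk' Z a = QuotientGroup.mk' Z b) :
    QuotientGroup.mk' Z (β a) = QuotientGroup.mk' Z (β b) := by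
  refine QuotientGroup.eq.2 ?_
  have := hβ _ (QuotientGroup.eq.1 h)
  rwa [map_mul, map_inv] at this

/-- Two transvections of a plane over the field of three elements generate its inversion. -/
theorem exists_tau (hab : ∀ a b : Q, ⁅a, b⁆ ∈ Z) (h3 : ∀ q : Q, q ^ 3 ∈ Z) {H : Subgroup (MulAut Q)}
    (hkeep : ∀ β ∈ H, ∀ z ∈ Z, β z ∈ Z) {t t1 : MulAut Q} (ht : t ∈ H) (ht1 : t1 ∈ H) {m k : Q}
    (hgen : ∀ q, ∃ i j : ℕ, q * (m ^ i * k ^ j)⁻¹ ∈ Z) (htm : t m * m⁻¹ ∈ Z) (htk : t k * (k * m)⁻¹ ∈ Z)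
    (ht1k : t1 k * k⁻¹ ∈ Z) {w : ℕ} (hw : ¬ 3 ∣ w) (ht1m : t1 m * (m * k ^ w)⁻¹ ∈ Z) :
    ∃ τ ∈ H, ∀ q, τ q * q ∈ Z := by
  set π := QuotientGroup.mk' Z
  have hπ : ∀ {a b : Q}, a * b⁻¹ ∈ Z → π a = π b := fun {a b} h => by
    have h1 : π (a * b⁻¹) = 1 := (QuotientGroup.eq_one_iff _).2 h
    rw [map_mul, map_inv] at h1
    exact mul_inv_eq_one.1 h1
  have hC := commute_mk hab
  have hk3 : π k ^ 3 = 1 := by rw [← map_pow]; exact (QuotientGroup.eq_one_iff _).2 (h3 k)
  have em := hπ htm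
  have ek := hπ htk
  have e1k := hπ ht1k
  have e1m := hπ ht1m
  rw [map_mul] at ek
  rw [map_mul, map_pow] at e1m
  -- evaluation of a map modulo `Z`
  have hev : ∀ (β : MulAut Q), (∀ z ∈ Z, β z ∈ Z) → ∀ (a : Q) (i j : ℕ), π a = π m ^ i * π k ^ j →
      π (β a) = π (β m) ^ i * π (β k) ^ j := fun β hβ a i j h => by
    rw [← map_pow, ← map_pow, ← map_mul] at h
    rw [mk_apply_congr hβ h, map_mul, map_mul, map_pow, map_pow, map_pow, map_pow]
  -- the second transvection normalized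
  obtain ⟨s, hs, esk, esm⟩ : ∃ s ∈ H, π (s k) = π k ∧ π (s m) = π m * π k ^ 2 := by
    rcases (show w % 3 = 1 ∨ w % 3 = 2 by omega) with h | h
    · have hw' : π k ^ w = π k := by
        rw [← Nat.div_add_mod w 3, pow_add, pow_mul, hk3, one_pow, one_mul, h, pow_one]
      rw [hw'] at e1m
      refine ⟨t1 * t1, mul_mem ht1 ht1, ?_, ?_⟩
      · show π (t1 (t1 k)) = _
        rw [mk_apply_congr (hkeep _ ht1) e1k, e1k]
      · show π (t1 (t1 m)) = _
        rw [hev t1 (hkeep _ ht1) (t1 m) 1 1 (by rw [e1m, pow_one, pow_one]), pow_one, pow_one, e1m, e1k, mul_assoc,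
          pow_two]
    · have hw' : π k ^ w = π k ^ 2 := by
        rw [← Nat.div_add_mod w 3, pow_add, pow_mul, hk3, one_pow, one_mul, h]
      rw [hw'] at e1m
      exact ⟨t1, ht1, e1k, e1m⟩
  set r := t * (s * t)
  have hr : r ∈ H := mul_mem ht (mul_mem hs ht)
  have hc : Commute (π k) (π m) := hC k m
  have erm : π (r m) = π k ^ 2 := by
    show π (t (s (t m))) = _
    have h1 : π (s (t m)) = π m ^ 1 * π k ^ 2 := by
      rw [mk_apply_congr (hkeep _ hs) em, esm, pow_one]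
    rw [hev t (hkeep _ ht) _ 1 2 h1, pow_one, em, ek, hc.mul_pow, ← mul_assoc, (hc.pow_left 2).symm.eq, mul_assoc,
      ← pow_succ', show π m ^ (2 + 1) = 1 by rw [← map_pow]; exact (QuotientGroup.eq_one_iff _).2 (h3 m), mul_one]
  have erk : π (r k) = π m := by
    show π (t (s (t k))) = _
    have h0 : π (t k) = π m ^ 1 * π k ^ 1 := by rw [ek, pow_one, pow_one, hc.eq]
    have h1 : π (s (t k)) = π m ^ 1 * π k ^ 3 := by
      rw [hev s (hkeep _ hs) _ 1 1 h0, esm, esk, pow_one, pow_one, pow_one, mul_assoc, ← pow_succ]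
    rw [hk3, mul_one, pow_one] at h1
    rw [mk_apply_congr (hkeep _ ht) h1, em]
  refine ⟨r * r, mul_mem hr hr, fun q => ?_⟩
  have e2m : π (r (r m)) = π m ^ 2 := by
    rw [hev r (hkeep _ hr) (r m) 0 2 (by rw [erm, pow_zero, one_mul]), erk, pow_zero, one_mul]
  have e2k : π (r (r k)) = π k ^ 2 := by rw [mk_apply_congr (hkeep _ hr) erk, erm]
  obtain ⟨i, j, hq⟩ := hgen q
  have hq' : π q = π m ^ i * π k ^ j := by rw [hπ hq, map_mul, map_pow, map_pow]
  refine (QuotientGroup.eq_one_iff _).1 ?_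
  show π ((r * r) q * q) = 1
  rw [map_mul, hev (r * r) (hkeep _ (mul_mem hr hr)) q i j hq', show (r * r) m = r (r m) from rfl,
    show (r * r) k = r (r k) from rfl, e2m, e2k, hq', ← pow_mul, ← pow_mul,
    ((hc.pow_pow (2 * j) i).mul_mul_mul_comm _ _), ← pow_add, ← pow_add,
    show 2 * i + i = 3 * i by ring, show 2 * j + j = 3 * j by ring, pow_mul, pow_mul,
    show π m ^ 3 = 1 by rw [← map_pow]; exact (QuotientGroup.eq_one_iff _).2 (h3 m), hk3, one_pow, one_pow, mul_one]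

/-- Commutators of maps keeping a chain with steps of index `p` are trivial on every factor. -/
theorem triv_commutator [Finite Q] {p : ℕ} [hp : Fact p.Prime] {C : ℕ → Subgroup Q} {n : ℕ}
    (hC : IsChain C n) (hn : ∀ i < n, (C i).Normal) (hP : IsPGroup p Q)
    (hc : ∀ i < n, Nat.card (C (i + 1)) = p * Nat.card (C i)) {α β : MulAut Q} (hα : Keep C n α)
    (hβ : Keep C n β) : Triv C n (α * β * α⁻¹ * β⁻¹) := by
  intro i hi x hx
  haveI := hn i hi
  set π := QuotientGroup.mk' (C i)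
  obtain ⟨g, hg, hgi⟩ := SetLike.exists_of_lt (show C i < C (i + 1) from lt_of_le_of_ne (hC.mono i hi) fun e => by
    have := hc i hi
    rw [← e] at this
    nlinarith [Nat.card_pos (α := C i), hp.out.two_le])
  have hsup : C i ⊔ zpowers g = C (i + 1) := by
    refine eq_of_le_of_card_ge (sup_le (hC.mono i hi) (zpowers_le.2 hg)) ?_
    have hlt : C i < C i ⊔ zpowers g := lt_of_le_of_ne le_sup_left fun e =>
      hgi (e ▸ mem_sup_right (mem_zpowers g))
    obtain ⟨a, ha⟩ := IsPGroup.iff_card.mp (hP.to_subgroup (C i))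
    obtain ⟨b, hb⟩ := IsPGroup.iff_card.mp (hP.to_subgroup (C i ⊔ zpowers g))
    have h : Nat.card (C i) < Nat.card (C i ⊔ zpowers g : Subgroup Q) := lt_of_le_of_ne (card_le_of_le hlt.le)
      fun e => hlt.ne (eq_of_le_of_card_ge hlt.le e.ge)
    rw [ha, hb, Nat.pow_lt_pow_iff_right hp.out.one_lt] at h
    rw [hc i hi, ha, hb, ← pow_succ']
    exact Nat.pow_le_pow_right hp.out.pos h
  have hrep : ∀ v ∈ C (i + 1), ∃ j : ℕ, π v = π g ^ j := fun v hv => by
    rw [← hsup] at hv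
    obtain ⟨k, hk, h, hh, e⟩ :=
      (Cfsg.Lib.Coprime.mem_sup_of_le_normalizer' (Subgroup.le_normalizer_of_normal)).1 hv
    obtain ⟨j, rfl⟩ := mem_powers_iff_mem_zpowers.2 hk
    refine ⟨j, ?_⟩
    rw [← e, map_mul, show π h = 1 from (QuotientGroup.eq_one_iff _).2 hh, mul_one, map_pow]
  have hev : ∀ (γ : MulAut Q), Keep C n γ → ∀ v ∈ C (i + 1), ∀ (j : ℕ), π v = π g ^ j →
      π (γ v) = π (γ g) ^ j := fun γ hγ v hv j h => by
    rw [← map_pow] at h
    rw [← map_pow, ← map_pow]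
    exact mk_apply_congr (hγ i hi.le) h
  obtain ⟨a, ha⟩ := hrep _ (hα (i + 1) hi g hg)
  obtain ⟨b, hb⟩ := hrep _ (hβ (i + 1) hi g hg)
  set v := α⁻¹ (β⁻¹ x)
  have hv : v ∈ C (i + 1) := hα.inv (i + 1) hi _ (hβ.inv (i + 1) hi _ hx)
  obtain ⟨c, hcv⟩ := hrep v hv
  have hx' : β (α v) = x := by simp [v]
  have h1 : π (α (β v)) = π (β (α v)) := by
    rw [hev α hα _ (hβ (i + 1) hi v hv) (b * c) (by rw [hev β hβ v hv c hcv, hb, ← pow_mul]),
      hev β hβ _ (hα (i + 1) hi v hv) (a * c) (by rw [hev α hα v hv c hcv, ha, ← pow_mul]), ha, hb,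
      ← pow_mul, ← pow_mul]
    ring_nf
  rw [hx'] at h1
  have h2 : π ((α * β * α⁻¹ * β⁻¹) x * x⁻¹) = 1 := by
    rw [map_mul, map_inv, mul_inv_eq_one, ← h1]
    rfl
  exact (QuotientGroup.eq_one_iff _).1 h2

/-- A nonabelian group with a centre of index `9` has cubes in the centre. -/
theorem cube_mem_center [Finite Q] (hnc : ∃ a b : Q, a * b ≠ b * a) (h : (center Q).index = 9) :
    (∀ q : Q, q ^ 3 ∈ center Q) ∧ ∀ a b : Q, ⁅a, b⁆ ∈ center Q := by
  haveI : Fact (Nat.Prime 3) := ⟨Nat.prime_three⟩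
  have hq : Nat.card (Q ⧸ center Q) = 3 ^ 2 := by rw [← index_eq_card, h]; norm_num
  haveI : IsMulCommutative (Q ⧸ center Q) := IsPGroup.isMulCommutative_of_card_eq_prime_sq (p := 3) hq
  refine ⟨fun q => ?_, fun a b => (QuotientGroup.eq_one_iff _).1 ?_⟩
  · by_contra hq3
    have hd : orderOf (QuotientGroup.mk' (center Q) q) ∣ 3 ^ 2 := hq ▸ orderOf_dvd_natCard _
    obtain ⟨j, hj, hje⟩ := (Nat.dvd_prime_pow Nat.prime_three).1 hd
    have hj2 : j = 2 := by
      by_contra hj2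
      refine hq3 ((QuotientGroup.eq_one_iff _).1 ?_)
      show QuotientGroup.mk' (center Q) (q ^ 3) = 1
      rw [map_pow]
      exact orderOf_dvd_iff_pow_eq_one.1 (hje ▸ (pow_dvd_pow 3 (show j ≤ 1 by omega)).trans (pow_one 3).dvd)
    haveI : IsCyclic (Q ⧸ center Q) :=
      isCyclic_of_orderOf_eq_card (QuotientGroup.mk' (center Q) q) (by rw [hq, hje, hj2])
    obtain ⟨a, b, hne⟩ := hnc
    exact hne (commutative_of_cyclic_center_quotient (QuotientGroup.mk' (center Q))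
      (le_of_eq (QuotientGroup.ker_mk' _)) a b)
  · show QuotientGroup.mk' (center Q) ⁅a, b⁆ = 1
    rw [map_commutatorElement, commutatorElement_eq_one_iff_mul_comm]
    exact mul_comm' _ _

end Group

variable {Ω : Type u} [Group Ω] {S : Subgroup Ω} {F : FusionSystem S} {p : ℕ} [Finite S] [hp : Fact p.Prime]

/-- Maps moving points inside a proper subgroup over the commutators contradict `hyp = S`. -/
theorem false_of_sites (hS : IsPGroup p S) (hF : F.IsSaturated p) (hhyp : F.hyperfocalSubgroup p = S)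
    (Y : Subgroup S) (hY : ∀ a b : S, ⁅a, b⁆ ∈ Y) (hne : Y ≠ ⊤)
    (htop : ∀ σ ∈ F.autGroup S, ∀ g : S, σ g * g⁻¹ ∈ Y)
    (hsite : ∀ Q : Subgroup Ω, ∀ (hQ : F.IsEssential p Q), ¬ Q.subgroupOf S ≤ Y →
      ∀ α ∈ F.autGroup Q, ∀ g ∈ normalizerIn S Q, ∀ q ∈ Q,
        autFun α (g * q * g⁻¹ * q⁻¹) ∈ Y.map S.subtype) : False := by
  set YΩ := Y.map S.subtype
  have hYc : ∀ a ∈ S, ∀ b ∈ S, ⁅a, b⁆ ∈ YΩ := fun a ha b hb =>
    ⟨⁅(⟨a, ha⟩ : S), ⟨b, hb⟩⁆, hY _ _, map_commutatorElement S.subtype _ _⟩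
  have hall : ∀ (P : Subgroup Ω) (f : Ω → Ω), IsMap F P f → Moves YΩ P f := fun P f hf =>
    alperin_induction hS hF (isMapClass_moves hYc)
      (fun g hg x hx => by
        obtain ⟨σ, hσ, e⟩ := hg.exists_aut (eq_of_le_of_card_ge hg.img_le hg.card_img.ge)
        rw [← e x hx, autFun_apply_mem σ hx]
        exact ⟨_, htop σ hσ ⟨x, hx⟩, rfl⟩)
      (fun Q hQS hQn hQc hIH α hα => by
        by_contra hbad
        have hess := essential_of_bad hS hF (isMapClass_moves hYc) hQS hQn hQc hIH hα hbad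
        refine hbad (moves_of_commutators hYc hS hF hQS hQn hQc hIH (fun α hα g hg q hq => ?_) α hα)
        by_cases hle : Q.subgroupOf S ≤ Y
        · have hm : autFun α (g * q * g⁻¹ * q⁻¹) ∈ Q :=
            autFun_mem α (Q.mul_mem (conj_mem_of_mem_normalizer hg.2 hq) (Q.inv_mem hq))
          exact ⟨⟨_, hQS.le hm⟩, hle hm, rfl⟩
        · exact hsite Q hess hle α hα g hg q hq)
      hf
  refine hne (eq_top_iff.2 fun g _ => ?_)
  have h : (g : Ω) ∈ YΩ := hyperfocal_le_of_moves hYc (fun y hy => map_subtype_le Y hy) hall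
    (hhyp.ge g.2)
  obtain ⟨y, hy, e⟩ := h
  rwa [show g = y from Subtype.ext e.symm]

end Cfsg.Lib.Fusion.OrderPFive
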