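import Cfsg.Agent.Fusion.OrderPFive.PearlTorus
import Cfsg.Agent.Fusion.OrderPFive.ThreeTau

/-!
An abelian pearl in a group of order `3 ^ 5` without another abelian essential subgroup keeps a maximal
subgroup over the derived subgroup.
-/

set_option autoImplicit false
set_option linter.style.haveILetI false
set_option linter.unusedSectionVars false
set_option linter.unusedVariables false
set_option maxHeartbeats 800000

namespace Cfsg.Lib.Fusion.OrderPFive

open Subgroup Cfsg Cfsg.FusionSystem Cfsg.Lib.Fusion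
open Cfsg.Lib.PGroups.MaxClassRank
open scoped commutatorElement

universe u

variable {Ω : Type u} [Group Ω] {S : Subgroup Ω} {F : FusionSystem S} {p : ℕ} [Finite S] [hp : Fact p.Prime]

theorem sq_eq_one_three : ∀ x : ZMod 3, x ≠ 0 → x ^ 2 = 1 := by decide

/-- A central subgroup of index `p ^ 2` in a nonabelian group is the centre. -/
theorem center_eq_of_nonab {Q : Type u} [Group Q] [Finite Q] (hQ : IsPGroup p Q)
    (hnc : ∃ a b : Q, a * b ≠ b * a) {K : Subgroup Q} (hK : ∀ v ∈ K, ∀ g, Commute v g)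
    (hi : Nat.card Q = p ^ 2 * Nat.card K) : center Q = K := by
  have hle : K ≤ center Q := fun v hv => mem_center_iff.2 fun g => (hK v hv g).symm
  by_contra hne
  have hlt : K < center Q := lt_of_le_of_ne hle fun e => hne e.symm
  have h1 := pow_le_of_lt hQ hlt
  obtain ⟨i, hi'⟩ := IsPGroup.iff_card.mp (hQ.to_quotient (center Q))
  have h2 := card_eq_card_quotient_mul_card_subgroup (center Q)
  rw [hi, hi'] at h2
  have hile : i ≤ 1 := by
    by_contra h
    have h3 : p ^ 2 * (p * Nat.card K) ≤ p ^ i * Nat.card (center Q) :=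
      Nat.mul_le_mul (Nat.pow_le_pow_right hp.out.pos (by omega)) h1
    rw [← h2] at h3
    have h4 := Nat.le_of_mul_le_mul_left h3 (pow_pos hp.out.pos 2)
    nlinarith [Nat.card_pos (α := K), hp.out.two_le]
  obtain ⟨a, b, hab⟩ := hnc
  exact hab (Cfsg.Lib.MaxClass.comm_of_quotient_center_small (p := p) hile hi' a b)

/-- The centre of `S` is kept at nonabelian centric subgroups of order `p ^ 3` and `p ^ 4`. -/
theorem center_keep (T : Five p S) {Q : Subgroup Ω} (hQc : F.IsCentric Q)
    (hnc : ∃ a ∈ Q, ∃ b ∈ Q, a * b ≠ b * a) (hc : Nat.card Q = p ^ 3 ∨ Nat.card Q = p ^ 4) (α : MulAut Q)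
    (v : Q.subgroupOf S) (hv : (v : S) ∈ center S) : actHom hQc.1 α v ∈ center S := by
  have hQS := hQc.1
  exact T.center_invariant
    (by
      obtain ⟨a, ha, b, hb, hne⟩ := hnc
      exact ⟨⟨a, hQS ha⟩, ha, ⟨b, hQS hb⟩, hb, fun h => hne (congrArg Subtype.val h)⟩)
    (center_le_of_centric hQc) (by rwa [card_subgroupOf_eq hQS])
    (((subgroupOfEquivOfLe hQS).trans α).trans (subgroupOfEquivOfLe hQS).symm) v hv

variable [Group.IsNilpotent S]

namespace Max5

variable {e : S} (H : Max5 p S e)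
include H

/-- In characteristic three every automorphism fixes the top of `gam` over `L 1`. -/
theorem top_three (h3 : p = 3) (τ : MulAut S) {s : S} (hs : s ∈ gam S) (hs' : s ∉ L S 1) :
    τ s * s⁻¹ ∈ L S 1 := by
  haveI := H.normal_gam
  have hne : τ e ∉ gam S := fun h => H.e_not_gam (by
    have h2 := H.gam_apply τ⁻¹ h
    rwa [MulAut.inv_apply_self] at h2)
  obtain ⟨i, hi, γ, hγ, he⟩ := H.exists_coord hne
  obtain ⟨b, hb, ⟨u, hu, hbu⟩, -⟩ := H.weights hs hs' τ hγ he hi
  set π := QuotientGroup.mk' (L S 1)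
  refine (QuotientGroup.eq_one_iff _).1 ?_
  show π (τ s * s⁻¹) = 1
  have hb1 : (b : ZMod p) = 1 := by
    subst h3
    rw [hb]
    exact sq_eq_one_three _ hi
  have hm : b % p = 1 := by
    rw [← Nat.cast_one, ZMod.natCast_eq_natCast_iff'] at hb1
    rw [hb1, Nat.mod_eq_of_lt hp.out.one_lt]
  have hsp : π s ^ p = 1 := by rw [← map_pow]; exact (QuotientGroup.eq_one_iff _).2 (H.pow_mem_L1 s)
  rw [hbu, map_mul, map_mul, map_inv, show π u = 1 from (QuotientGroup.eq_one_iff _).2 hu, mul_one, map_pow,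
    ← Nat.div_add_mod b p, pow_add, pow_mul, hsp, one_pow, one_mul, hm, pow_one, mul_inv_cancel]

end Max5

/-- No residual-free system with an abelian pearl and `p = 3`. -/
theorem false_of_pearl_three (hS : IsPGroup p S) (hF : F.IsSaturated p) (h3 : p = 3)
    (hhyp : F.hyperfocalSubgroup p = S) (T : Five p S)
    (hno : ∀ Q : Subgroup Ω, F.IsEssential p Q → Nat.card Q = p ^ 3 → ∃ a ∈ Q, ∃ b ∈ Q, a * b ≠ b * a)
    {E : Subgroup Ω} (hE : F.IsEssential p E) (hc : Nat.card E = p ^ 2) : False := by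
  have hp2 : p ≠ 2 := by omega
  obtain ⟨e, σ, a, hσ, H, -, hσe, ha, -⟩ := exists_torus_pearl hS hF T hp2 hE hc
  obtain ⟨s, hs, hs'⟩ := H.exists_gen
  haveI := H.normal_gam
  set π := QuotientGroup.mk' (L S 1)
  have hC : ∀ u v : S, Commute (π u) (π v) := commute_mk H.comm_top
  have hpow : ∀ g : S, π g ^ p = 1 := fun g => by
    rw [← map_pow]; exact (QuotientGroup.eq_one_iff _).2 (H.pow_mem_L1 g)
  have hcoord : ∀ g : S, ∃ i j : ℕ, π g = π e ^ i * π s ^ j := fun g => by
    obtain ⟨γ, hγ, i, rfl⟩ := exists_mul_pow (H.top_eq.ge (mem_top g))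
    obtain ⟨l, hl, j, rfl⟩ := exists_mul_pow ((H.gam_eq hs hs').ge hγ)
    exact ⟨i, j, by
      rw [map_mul, map_mul, map_pow, map_pow, show π l = 1 from (QuotientGroup.eq_one_iff _).2 hl, mul_one]⟩
  have hind : ∀ i j : ℕ, π e ^ i * π s ^ j = 1 → (i : ZMod p) = 0 ∧ (j : ZMod p) = 0 := by
    intro i j h
    have h1 : e ^ i * s ^ j ∈ L S 1 := (QuotientGroup.eq_one_iff _).1 (by
      show π _ = 1
      rw [map_mul, map_pow, map_pow, h])
    have hi : (i : ZMod p) = 0 := by
      have h2 : e ^ i ∈ gam S := by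
        have := mul_mem (H.L1_le_gam h1) (inv_mem (pow_mem hs j))
        rwa [mul_inv_cancel_right] at this
      simpa using cast_eq_of_pow (K := gam S) (g := e) (i := i) (j := 0) H.e_not_gam
        (by rw [H.data.ord]; exact one_mem _)
        (by rw [← map_pow, pow_zero]; exact (QuotientGroup.eq_one_iff _).2 h2)
    refine ⟨hi, ?_⟩
    obtain ⟨d, rfl⟩ := (ZMod.natCast_eq_zero_iff i p).1 hi
    rw [pow_mul, hpow, one_pow, one_mul] at h
    simpa using cast_eq_of_pow (K := L S 1) (g := s) (i := j) (j := 0) hs' (H.pow_mem_L1 s) (by rw [pow_zero]; exact h)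
  have hcast : ∀ (g : S) (i j : ℕ), (i : ZMod p) = j → π g ^ i = π g ^ j := fun g i j h => by
    rw [ZMod.natCast_eq_natCast_iff'] at h
    rw [← Nat.div_add_mod i p, ← Nat.div_add_mod j p, pow_add, pow_add, pow_mul, pow_mul, hpow, one_pow, one_pow, h]
  have hts : ∀ τ : MulAut S, π (τ s) = π s := fun τ => by
    have h : π (τ s * s⁻¹) = 1 := (QuotientGroup.eq_one_iff _).2 (H.top_three h3 τ hs hs')
    rwa [map_mul, map_inv, mul_inv_eq_one] at h
  have hkL : ∀ (τ : MulAut S), ∀ v ∈ L S 1, τ v ∈ L S 1 := fun τ v hv => H.L_apply τ 1 hv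
  have hev : ∀ (τ : MulAut S) (g : S) (i j : ℕ), π g = π e ^ i * π s ^ j →
      π (τ g) = π (τ e) ^ i * π s ^ j := fun τ g i j h => by
    rw [← map_pow, ← map_pow, ← map_mul] at h
    rw [mk_apply_congr (hkL τ) h, map_mul, map_mul, map_pow, map_pow, map_pow, map_pow, hts]
  set Y := L S 1 ⊔ zpowers e
  haveI hYn : Y.Normal := H.normal_big e
  have hmemY : ∀ g i, π g = π e ^ i → g ∈ Y := fun g i h => by
    rw [← map_pow] at h
    have h1 : (e ^ i)⁻¹ * g ∈ L S 1 := QuotientGroup.eq.1 h.symm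
    have := Y.mul_mem (pow_mem (mem_sup_right (mem_zpowers e)) i) (mem_sup_left h1 : (e ^ i)⁻¹ * g ∈ Y)
    rwa [mul_inv_cancel_left] at this
  -- the top: all automorphisms keep `Y`
  have hS5 : IsChain (ofList [⊥, L S 3, L S 2, L S 1, gam S, ⊤]) 5 := ⟨rfl, rfl, fun i hi => by
    interval_cases i
    · exact bot_le
    · exact L_le (by norm_num)
    · exact L_le (by norm_num)
    · exact H.L1_le_gam
    · exact le_top⟩
  have hkeep : ∀ τ : MulAut S, Keep (ofList [⊥, L S 3, L S 2, L S 1, gam S, ⊤]) 5 τ := fun τ i hi => by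
    interval_cases i <;> intro v hv <;> simp only [ofList, List.getD_cons_zero, List.getD_cons_succ] at hv ⊢
    · rw [mem_bot] at hv ⊢; rw [hv, map_one]
    · exact H.L_apply τ 3 hv
    · exact H.L_apply τ 2 hv
    · exact H.L_apply τ 1 hv
    · exact H.gam_apply τ hv
    · exact mem_top _
  haveI : (S.subgroupOf S).Normal := by rw [subgroupOf_self]; infer_instance
  have hfaS := (fullyNormalized_props hS hF (fullyNormalized_of_normal (F := F) (le_refl S))).2.1
  have hcomm : ∀ τ ∈ F.autGroup S, ∀ v, π (σ (τ v)) = π (τ (σ v)) := by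
    intro τ hτ v
    have htriv := triv_commutator hS5 (fun i hi => by
      interval_cases i <;> simp only [ofList, List.getD_cons_zero, List.getD_cons_succ] <;> infer_instance) hS
      (p := p) (fun i hi => by
        interval_cases i <;> simp only [ofList, List.getD_cons_zero, List.getD_cons_succ, Nat.reduceAdd]
        · rw [H.card3, card_bot, mul_one]
        · rw [H.card2, H.card3, pow_two]
        · rw [H.card1, H.card2]; ring
        · rw [H.card_gam, H.card1]; ring
        · rw [card_top, H.card, H.card_gam]; ring) (hkeep σ) (hkeep τ)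
    obtain ⟨g, hg, eg⟩ := mem_autInducedBy.mp (mem_autS_of_triv_invariant hS hfaS hS5 (fun τ _ => hkeep τ)
      (mul_mem (mul_mem (mul_mem hσ hτ) (inv_mem hσ)) (inv_mem hτ)) htriv)
    have h1 : π ((σ * τ * σ⁻¹ * τ⁻¹) (τ (σ v))) = π (τ (σ v)) := by
      rw [show (σ * τ * σ⁻¹ * τ⁻¹) (τ (σ v)) = ⟨g, hg⟩ * τ (σ v) * (⟨g, hg⟩ : S)⁻¹ from Subtype.ext (eg _),
        map_mul, map_mul, map_inv, (hC _ _).eq, mul_inv_cancel_right]
    rw [← h1]
    simp
  have htop : ∀ τ ∈ F.autGroup S, ∃ i, π (τ e) = π e ^ i := fun τ hτ => by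
    obtain ⟨i, j, hij⟩ := hcoord (τ e)
    refine ⟨i, ?_⟩
    have h1 := hcomm τ hτ e
    rw [hev σ (τ e) i j hij, hσe, map_pow τ, map_pow π (τ e), hij, map_pow π, (hC e s).pow_pow i j |>.mul_pow,
      ← pow_mul, ← pow_mul, ← pow_mul, mul_comm a i] at h1
    have h2 : π s ^ j = π s ^ (j * a) := mul_left_cancel h1
    have h4 : (j : ZMod p) = (j * a : ℕ) := cast_eq_of_pow hs' (H.pow_mem_L1 s) h2
    push_cast at h4
    have h30 : (3 : ZMod p) = 0 := by subst h3; rfl
    have hj0 : (j : ZMod p) = 0 := by linear_combination (2 : ZMod p) * h4 + (j : ZMod p) * ha + (0 : ZMod p) * h30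
    rw [hij, hcast s j 0 (by rw [hj0, Nat.cast_zero]), pow_zero, mul_one]
  -- points inverted modulo `L 1`
  have hinv : ∀ τ ∈ F.autGroup S, ∀ g, τ g * g ∈ L S 1 → g ∈ Y := fun τ hτ g hg => by
    obtain ⟨i, j, hij⟩ := hcoord g
    obtain ⟨i', hi'⟩ := htop τ hτ
    have h1 : π (τ g * g) = 1 := (QuotientGroup.eq_one_iff _).2 hg
    rw [map_mul, hev τ g i j hij, hij, hi', ← pow_mul, ((hC s e).pow_pow j i).mul_mul_mul_comm, ← pow_add, ← pow_add]
      at h1
    have h2 := (hind _ _ h1).2
    push_cast at h2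
    have h30 : (3 : ZMod p) = 0 := by subst h3; rfl
    have hj0 : (j : ZMod p) = 0 := by linear_combination (2 : ZMod p) * h2 - (j : ZMod p) * h30
    exact hmemY g i (by rw [hij, hcast s j 0 (by rw [hj0, Nat.cast_zero]), pow_zero, mul_one])
  refine false_of_sites hS hF hhyp Y (fun u v => mem_sup_left (H.comm_top u v)) (fun e' => ?_)
    (fun τ hτ g => ?_) (fun Q hQ hQY => ?_)
  · have h4 : Nat.card Y = p ^ 4 := (H.card_sup e H.e_not_gam).1
    rw [e', card_top, H.card] at h4
    exact absurd (Nat.pow_right_injective hp.out.two_le h4) (by norm_num)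
  · obtain ⟨i, j, hij⟩ := hcoord g
    obtain ⟨i', hi'⟩ := htop τ hτ
    obtain ⟨k, hk⟩ : ∃ k, k + i ≡ 0 [MOD p] := ⟨(p - 1) * i, by
      rw [Nat.modEq_zero_iff_dvd]
      exact ⟨i, by rw [← Nat.succ_mul, Nat.succ_eq_add_one, Nat.sub_add_cancel hp.out.one_le]⟩⟩
    refine hmemY _ (i' * i + k) ?_
    rw [map_mul, map_inv, hev τ g i j hij, hij, hi', ← pow_mul, mul_inv_rev, mul_assoc, ← mul_assoc (π s ^ j),
      mul_inv_cancel, one_mul, pow_add]
    congr 1
    refine inv_eq_of_mul_eq_one_right ?_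
    rw [← pow_add, hcast e (i + k) 0 (by
      rw [ZMod.natCast_eq_natCast_iff, add_comm]; exact hk), pow_zero]
  exfalso
  -- the sites
  have hQS := hQ.1.1
  haveI := finite_of_le hQS
  set Q' := Q.subgroupOf S with hQ'
  have hQlt : Q' ≠ ⊤ := fun e' => (EssentialGen.lt_of_essential hS hF hQ).not_ge fun v hv =>
    (e'.ge (mem_top (⟨v, hv⟩ : S)) : (⟨v, hv⟩ : S) ∈ Q')
  obtain ⟨k, hk⟩ := exists_pow hS Q'
  have hk4 : k ≤ 4 := by
    have h1 := card_le_card_group Q'
    rw [hk, H.card, Nat.pow_le_pow_iff_right hp.out.one_lt] at h1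
    by_contra h
    exact hQlt (eq_top_of_card_eq _ (by rw [hk, H.card, show k = 5 by omega]))
  have hk2 : 2 ≤ k := by
    by_contra h
    have hZQ : center S = Q' := eq_of_le_of_card_ge (center_le_of_centric hQ.1) (by
      rw [hk, H.center_eq, H.card3]
      exact (Nat.pow_le_pow_right hp.out.pos (show k ≤ 1 by omega)).trans (pow_one p).le)
    exact hQlt (eq_top_iff.2 fun v _ => self_of_centric hQ.1 fun b hb => mem_center_iff.1 (hZQ.ge hb) v)
  have hcQ : Nat.card Q = p ^ k := (card_subgroupOf_eq hQS).symm.trans hk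
  rcases (show k = 2 ∨ k = 3 ∨ k = 4 by omega) with rfl | rfl | rfl
  · -- pearls
    obtain ⟨e', σ', a', hσ', H', he', hσe', ha', -⟩ := exists_torus_pearl hS hF T hp2 hQ hcQ
    refine hQY ?_
    rw [show Q' = center S ⊔ zpowers e' from (sup_eq_of_between hS (center_le_of_centric hQ.1)
      (by rw [hk, H.center_eq, H.card3, pow_two]) he'
      (fun h => H'.e_not_gam (H'.L1_le_gam (L_le (show 1 ≤ 3 by norm_num) (H'.center_eq.le h))))).symm]
    refine sup_le (fun v hv => mem_sup_left (L_le (show 1 ≤ 3 by norm_num) (H.center_eq.le hv)))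
      (zpowers_le.2 (hinv σ' hσ' e' ?_))
    rw [hσe', ← pow_succ]
    obtain ⟨d, hd⟩ : p ∣ a' + 1 := (ZMod.natCast_eq_zero_iff _ _).1 (by
      have h30 : (3 : ZMod p) = 0 := by subst h3; rfl
      push_cast
      linear_combination (2 : ZMod p) * ha' + (1 - (a' : ZMod p)) * h30)
    rw [hd, pow_mul, H'.data.ord, one_pow]
    exact one_mem _
  · -- order `27`
    have hnc := hno Q hQ hcQ
    obtain ⟨a0, ha0, b0, hb0, hne⟩ := hnc
    have hkc := fun α v hv => center_keep T hQ.1 ⟨a0, ha0, b0, hb0, hne⟩ (Or.inl hcQ) α v hv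
    have hL2Q : L S 2 ≤ Q' := fun v hv => by
      refine (le_of_central_step hS hQ (R := (L S 2).map S.subtype) (Z := (center S).map S.subtype)
        (map_subtype_le _) (fun g hg => ?_) ?_ (fun α hα z hz => ?_) ?_ ⟨v, hv, rfl⟩ : (v : Ω) ∈ Q)
      · haveI : Finite ((L S 2).map S.subtype) := finite_of_le (map_subtype_le _)
        refine mem_normalizer_of_maps_finite ?_
        rintro _ ⟨w, hw, rfl⟩
        exact ⟨_, (inferInstance : (L S 2).Normal).conj_mem w hw ⟨g, hg⟩, rfl⟩
      · rintro _ ⟨z, hz, rfl⟩ g hg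
        exact congrArg Subtype.val (mem_center_iff.1 hz ⟨g, hg⟩)
      · obtain ⟨w, hw, ew⟩ := hz
        exact ⟨_, hkc α ⟨w, (show (w : Ω) ∈ Q by rw [show (w : Ω) = z from ew]; exact z.2)⟩ hw, by
          show ((actHom hQS α _ : S) : Ω) = _
          rw [coe_actHom, ← autFun_apply α z]
          exact congrArg (autFun α) ew⟩
      · rintro _ ⟨w, hw, rfl⟩ g hg
        refine ⟨(⟨g, hg⟩ : S)⁻¹ * (w * ⟨g, hg⟩ * w⁻¹), ?_, by simp⟩
        show (⟨g, hg⟩ : S)⁻¹ * (w * ⟨g, hg⟩ * w⁻¹) ∈ center S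
        have h1 := (inferInstance : (center S).Normal).conj_mem _ (H.step3 hw ⟨g, hg⟩) (⟨g, hg⟩ : S)⁻¹
        rw [commutatorElement_def] at h1
        convert h1 using 1
        group
    obtain ⟨g, hgQ, hg2⟩ := SetLike.exists_of_lt (lt_of_le_of_ne hL2Q fun e' => by
      rw [← e', H.card2] at hk
      exact absurd (Nat.pow_right_injective hp.out.two_le hk) (by norm_num))
    have hQe : Q' = L S 2 ⊔ zpowers g :=
      (sup_eq_of_between hS hL2Q (by rw [hk, H.card2]; ring_nf; rfl) hgQ hg2).symm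
    have hgp : g ^ p ∈ L S 2 := pow_mem_of_card hL2Q (by rw [hk, H.card2]; ring) hgQ
    have hg : g ∉ gam S := fun hgg => hne (by
      have hcom : ∀ u ∈ Q', ∀ v ∈ Q', Commute u v := fun u hu v hv => by
        obtain ⟨l, hl, i, rfl⟩ := exists_mul_pow (hQe.le hu)
        obtain ⟨l', hl', j, rfl⟩ := exists_mul_pow (hQe.le hv)
        have c1 : ∀ l ∈ L S 2, Commute g l := fun l hl => (mem_centralizer_iff.1 hgg l hl).symm
        exact ((Commute.pow_pow_self g i j).mul_left ((c1 l hl).symm.pow_right j)).mul_right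
          (((c1 l' hl').pow_left i).mul_left (H.comm12 (L_le (by norm_num) hl) hl'))
      exact congrArg Subtype.val (hcom ⟨a0, hQS ha0⟩ ha0 ⟨b0, hQS hb0⟩ hb0).eq)
    by_cases hinv2 : ∀ α ∈ F.autGroup Q, ∀ v : Q', (v : S) ∈ L S 2 → actHom hQS α v ∈ L S 2
    · have hfl := H.sflag_small hg hgp hQe
      exact false_of_flag hS hF hQ (hfl.chain hQS) (hfl.flag hQS) fun α hα => hfl.keep hQS fun i hi v hv => by
        interval_cases i
        · simp only [ofList, List.getD_cons_zero, mem_bot] at hv ⊢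
          rw [show v = 1 from Subtype.ext hv, map_one]
        · exact H.keep3_small hg hQS hQe α v hv
        · exact hinv2 α hα v hv
    push Not at hinv2
    obtain ⟨α, hα, v, hv, hk'⟩ := hinv2
    have hout : ∀ w ∈ Q', w ∉ L S 2 → w ∉ gam S := fun w hw hw2 hwg => by
      obtain ⟨l, hl, i, rfl⟩ := exists_mul_pow (hQe.le hw)
      have hgi : g ^ i ∈ gam S := by
        have := mul_mem hwg (inv_mem (H.L1_le_gam (L_le (show 1 ≤ 2 by norm_num) hl)))
        rwa [mul_inv_cancel_right] at this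
      have h1 := cast_eq_of_pow (K := gam S) hg
        (H.L1_le_gam (L_le (show 1 ≤ 2 by norm_num) hgp)) (i := i) (j := 0)
        (by rw [← map_pow, pow_zero]; exact (QuotientGroup.eq_one_iff _).2 hgi)
      rw [Nat.cast_zero] at h1
      obtain ⟨d, rfl⟩ := (ZMod.natCast_eq_zero_iff i p).1 h1
      exact hw2 (mul_mem (by rw [pow_mul]; exact pow_mem hgp d) hl)
    set kS := actHom hQS α v
    have hkQ : kS ∈ Q' := actHom_mem hQS α v
    have hkg : kS ∉ gam S := hout _ hkQ hk'
    obtain ⟨u, hu, hu2⟩ := SetLike.exists_of_lt (H.data.L_lt (show 1 < 5 - 1 by norm_num))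
    have hun : (u : Ω) ∈ Subgroup.normalizer (Q : Set Ω) := mem_normalizer_of_maps_finite fun x hx => by
      have h1 := (H.mem_normalizer_small hg hgp u).1 (mem_sup_left hu) _
        (hQe.le (show (⟨x, hQS hx⟩ : S) ∈ Q' from hx))
      exact (hQe.ge h1 :)
    set mS := ⁅u, kS⁆
    have hm : mS ∈ L S 2 := comm_mem_succ hu kS
    have hm3 : mS ∉ L S 3 := H.s3_moved hkg hu hu2
    have hv3 : (v : S) ∉ L S 3 := fun h => hk' (L_le (show 2 ≤ 3 by norm_num) (H.keep3_small hg hQS hQe α v h))
    -- the data in `Q`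
    let ι : ∀ w : S, w ∈ Q' → Q := fun w hw => ⟨(w : Ω), hw⟩
    have hnQ : ∃ a b : Q, a * b ≠ b * a := ⟨⟨a0, ha0⟩, ⟨b0, hb0⟩, fun h => hne (congrArg Subtype.val h)⟩
    have hL3Q : L S 3 ≤ Q' := (L_le (by norm_num)).trans hL2Q
    have hcen : center Q = pull Q (L S 3) := center_eq_of_nonab (p := p) (hS.to_le hQS) hnQ
      (fun w hw q => Subtype.ext (congrArg Subtype.val
        (mem_center_iff.1 (H.center_eq.ge ((mem_pull hQS).1 hw)) ⟨q, hQS q.2⟩).symm :))
      (by rw [card_pull hQS hL3Q, H.card3, hcQ, ← pow_succ])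
    obtain ⟨h3Q, habQ⟩ := cube_mem_center hnQ (by
      have h1 := (center Q).card_mul_index
      rw [hcQ, hcen, card_pull hQS hL3Q, H.card3] at h1
      rw [hcen]
      exact Nat.eq_of_mul_eq_mul_left hp.out.pos (h1.trans (by subst h3; norm_num)))
    have h3' : ∀ q : Q, (⟨(q : Ω), hQS q.2⟩ : S) ∈ L S 3 → q ∈ center Q := fun q hq =>
      hcen.ge ((mem_pull hQS).2 hq)
    set πQ := QuotientGroup.mk' (center Q)
    have hCQ := commute_mk habQ
    set t := conjAut Q (u : Ω) hun
    have ht : t ∈ F.autGroup Q := autInducedBy_le hQS (conjAut_mem_autInducedBy hun u.2)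
    set kQ : Q := ι kS hkQ
    set mQ : Q := ι mS (hL2Q hm)
    set vQ : Q := ⟨((v : S) : Ω), v.2⟩
    have hαv : α vQ = kQ := Subtype.ext (by
      rw [← autFun_apply α]; exact (coe_actHom hQS α v).symm)
    have htv : t vQ = vQ := Subtype.ext (by
      rw [conjAut_apply]
      show ((u * v * u⁻¹ : S) : Ω) = _
      rw [(H.comm12 hu hv).eq, mul_inv_cancel_right])
    set xQ : Q := α⁻¹ mQ
    set xS : S := ⟨(xQ : Ω), hQS xQ.2⟩
    have hx2 : xS ∉ L S 2 := fun hx => by
      have h1 : Commute xQ vQ := Subtype.ext (congrArg Subtype.val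
        (H.comm12 (L_le (show 1 ≤ 2 by norm_num) hx) hv).eq :)
      have h2 := h1.map α
      rw [MulAut.apply_inv_self, hαv] at h2
      exact H.not_commute hkg hm hm3 (Subtype.ext (congrArg Subtype.val h2.eq :) : Commute mS kS).symm
    have hxQ' : xS ∈ Q' := xQ.2
    obtain ⟨z, hz, w, hw⟩ := exists_mul_pow ((sup_eq_of_between H.five.isP (L_le (by norm_num))
      (by rw [H.card2, H.card3]; ring_nf; rfl) hv hv3 : L S 3 ⊔ zpowers (v : S) = L S 2).ge
        (comm_mem_succ hu xS))
    have hw0 : ¬ 3 ∣ w := fun ⟨d, hd⟩ => H.s3_moved (hout _ hxQ' hx2) hu hu2 (by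
      rw [hw, hd, pow_mul, show (v : S) ^ 3 = (v : S) ^ p by rw [h3]]
      exact mul_mem (pow_mem (pow_mem_of_card (L_le (show 2 ≤ 3 by norm_num))
        (by rw [H.card2, H.card3]; ring) hv) d) hz)
    set zQ : Q := ι z (hL3Q hz)
    have htx : t xQ = vQ ^ w * zQ * xQ := Subtype.ext (by
      rw [conjAut_apply]
      have h1 : (u * xS * u⁻¹ : S) = (v : S) ^ w * z * xS := by
        rw [← hw, commutatorElement_def, inv_mul_cancel_right]
      exact (congrArg Subtype.val h1 :))
    obtain ⟨τ, hτ, hτinv⟩ := exists_tau habQ h3Q (H := F.autGroup Q)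
      (fun β _ z hz => mem_center_iff.2 fun q => by
        have h := congrArg β (mem_center_iff.1 hz (β.symm q))
        simpa using h)
      ht (mul_mem (mul_mem hα ht) (inv_mem hα)) (m := mQ) (k := kQ) (t1 := α * t * α⁻¹)
      (fun q => by
        have hkL : L S 2 ⊔ zpowers kS = Q' :=
          sup_eq_of_between hS hL2Q (by rw [hk, H.card2]; ring_nf; rfl) hkQ hk'
        obtain ⟨l, hl, j, hq⟩ := exists_mul_pow (hkL.ge (show (⟨(q : Ω), hQS q.2⟩ : S) ∈ Q' from q.2))
        obtain ⟨z', hz', i, hl'⟩ := exists_mul_pow ((sup_eq_of_between H.five.isP (L_le (by norm_num))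
          (by rw [H.card2, H.card3]; ring_nf; rfl) hm hm3 : L S 3 ⊔ zpowers mS = L S 2).ge hl)
        refine ⟨i, j, (QuotientGroup.eq_one_iff _).1 ?_⟩
        show πQ _ = 1
        have hq' : q = kQ ^ j * (mQ ^ i * ι z' (hL3Q hz')) := Subtype.ext (by
          rw [hl'] at hq
          exact (congrArg Subtype.val hq :))
        rw [hq', map_mul, map_inv, map_mul, map_mul, map_mul,
          show πQ (ι z' (hL3Q hz')) = 1 from (QuotientGroup.eq_one_iff _).2 (h3' _ hz'), mul_one, mul_inv_eq_one]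
        exact (hCQ _ _).eq)
      (h3' _ (by
        have : (u * mS * u⁻¹ * mS⁻¹ : S) ∈ L S 3 := by
          rw [(H.comm12 hu hm).eq]; simp
        exact this))
      (by
        have h1 : t kQ = mQ * kQ := Subtype.ext (by
          rw [conjAut_apply]
          exact (congrArg Subtype.val
            (show u * kS * u⁻¹ = mS * kS by simp only [mS, commutatorElement_def]; group) :))
        rw [h1, show mQ * kQ * (kQ * mQ)⁻¹ = ⁅mQ, kQ⁆ by rw [commutatorElement_def]; group]
        exact habQ _ _)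
      (by
        show α (t (α⁻¹ kQ)) * kQ⁻¹ ∈ _
        rw [show α⁻¹ kQ = vQ by rw [← hαv, MulAut.inv_apply_self], htv, hαv, mul_inv_cancel]
        exact one_mem _)
      hw0
      (by
        show α (t xQ) * _ ∈ _
        rw [htx, map_mul, map_mul, map_pow, hαv, MulAut.apply_inv_self]
        refine (QuotientGroup.eq_one_iff _).1 ?_
        show πQ _ = 1
        rw [map_mul, map_inv, map_mul, map_mul, map_mul, show πQ (α zQ) = 1 from (QuotientGroup.eq_one_iff _).2
          (mem_center_iff.2 fun q => by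
            have h := congrArg α (mem_center_iff.1 (h3' zQ hz) (α.symm q))
            simpa using h), mul_one, mul_inv_eq_one]
        exact (hCQ _ _).eq)
    obtain ⟨σ', hσ', hag⟩ := H.extend_small hS hF hg hgp hQ.2.1 hQe hτ (fun w hw => by
      have h1 := (mem_pull hQS).1 (hcen.le (hτinv ⟨((w : S) : Ω), w.2⟩))
      have h2 : actHom hQS τ w * (w : S) ∈ L S 3 := by
        convert h1 using 1
        exact Subtype.ext rfl
      have := mul_mem (L_le (show 2 ≤ 3 by norm_num) h2) (inv_mem hw)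
      rwa [mul_inv_cancel_right] at this)
    refine hQY ?_
    rw [hQe]
    refine sup_le (fun l hl => mem_sup_left (L_le (show 1 ≤ 2 by norm_num) hl))
      (zpowers_le.2 (hinv σ' hσ' g ?_))
    have h1 := (mem_pull hQS).1 (hcen.le (hτinv ⟨(g : Ω), hgQ⟩))
    refine L_le (show 1 ≤ 3 by norm_num) ?_
    convert h1 using 1
    refine Subtype.ext ?_
    show ((σ' g : S) : Ω) * g = (τ _ : Ω) * g
    rw [← autFun_apply σ', hag (g : Ω) hgQ, ← autFun_apply τ]
  · -- order `81`
    have hL1Q : L S 1 ≤ Q' := by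
      haveI : Q'.Normal := normal_of_index_eq_minFac_card (by
        have h := Q'.card_mul_index
        rw [hk, H.card, pow_succ p 4] at h
        rw [Nat.eq_of_mul_eq_mul_left (pow_pos hp.out.pos 4) h, H.card, Nat.pow_minFac (by norm_num),
          hp.out.minFac_eq])
      rw [show L S 1 = ⁅(⊤ : Subgroup S), ⊤⁆ from (top_lowerCentralSeries_one (G := S)).trans (commutator_def S)]
      exact commutator_le.2 fun a' _ b' _ =>
        comm_mem_of_step hS le_top (by rw [card_top, H.card, hk]; ring) a' (mem_top b')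
    obtain ⟨g, hgQ, hg1⟩ := SetLike.exists_of_lt (lt_of_le_of_ne hL1Q fun e' => by
      rw [← e', H.card1] at hk
      exact absurd (Nat.pow_right_injective hp.out.two_le hk) (by norm_num))
    have hQe : Q' = L S 1 ⊔ zpowers g :=
      (sup_eq_of_between hS hL1Q (by rw [hk, H.card1]; ring_nf; rfl) hgQ hg1).symm
    by_cases hg : g ∈ gam S
    swap
    · have hfl := H.sflag_big hg hQe
      exact false_of_flag hS hF hQ (hfl.chain hQS) (hfl.flag hQS) fun α hα => hfl.keep hQS fun i hi v hv => by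
        interval_cases i
        · simp only [ofList, List.getD_cons_zero, mem_bot] at hv ⊢
          rw [show v = 1 from Subtype.ext hv, map_one]
        · exact (H.skeep_big hg hQS hQe α v).2.2 hv
        · exact (H.skeep_big hg hQS hQe α v).2.1 hv
        · exact (H.skeep_big hg hQS hQe α v).1 hv
    have hQgam : Q' = gam S := by rw [hQe, H.gam_eq hg hg1]
    haveI : Q'.Normal := hQgam ▸ H.normal_gam
    obtain ⟨a0, ha0, b0, hb0, hne⟩ := H.five.not_comm hk
    have hnQ : ∃ a b : Q, a * b ≠ b * a :=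
      ⟨⟨(a0 : Ω), ha0⟩, ⟨(b0 : Ω), hb0⟩, fun h => hne (Subtype.ext (congrArg Subtype.val h :))⟩
    have hkc := fun α v hv => center_keep T hQ.1
      ⟨(a0 : Ω), ha0, (b0 : Ω), hb0, fun h => hne (Subtype.ext h)⟩ (Or.inr hcQ) α v hv
    have hL2Q : L S 2 ≤ Q' := (L_le (by norm_num)).trans hL1Q
    have hcen : center Q = pull Q (L S 2) := center_eq_of_nonab (p := p) (hS.to_le hQS) hnQ
      (fun w hw q => Subtype.ext (congrArg Subtype.val
        (mem_centralizer_iff.1 (hQgam.le (show (⟨q, hQS q.2⟩ : S) ∈ Q' from q.2)) _ ((mem_pull hQS).1 hw)) :))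
      (by rw [card_pull hQS hL2Q, H.card2, hcQ, ← pow_add])
    obtain ⟨h3Q, habQ⟩ := cube_mem_center hnQ (by
      have h1 := (center Q).card_mul_index
      rw [hcQ, hcen, card_pull hQS hL2Q, H.card2] at h1
      rw [hcen]
      exact Nat.eq_of_mul_eq_mul_left (pow_pos hp.out.pos 2) (h1.trans (by subst h3; norm_num)))
    have hk2 : ∀ (α : MulAut Q) (v : Q'), (v : S) ∈ L S 2 → actHom hQS α v ∈ L S 2 := fun α v hv => by
      have h1 : α ⟨((v : S) : Ω), v.2⟩ ∈ center Q := mem_center_iff.2 fun q => by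
        have h := congrArg α (mem_center_iff.1 (hcen.ge ((mem_pull hQS).2 hv) :
          (⟨((v : S) : Ω), v.2⟩ : Q) ∈ center Q) (α.symm q))
        simpa using h
      exact ((mem_pull hQS).1 (hcen.le h1) :)
    have hfl : SFlag p Q (ofList [⊥, L S 3, L S 2, L S 1, Q']) 4 :=
      { bot := rfl
        top := rfl
        normal := fun i hi => by
          interval_cases i <;> simp only [ofList, List.getD_cons_zero, List.getD_cons_succ] <;> infer_instance
        mono := fun i hi => by
          interval_cases i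
          · exact bot_le
          · exact L_le (by norm_num)
          · exact L_le (by norm_num)
          · exact hL1Q
        card := fun i hi => by
          interval_cases i <;> simp only [ofList, List.getD_cons_zero, List.getD_cons_succ, Nat.reduceAdd]
          · rw [H.card3, card_bot, mul_one]
          · rw [H.card2, H.card3, pow_two]
          · rw [H.card1, H.card2]; ring
          · rw [hk, H.card1]; ring }
    have hskeep : ∀ α : MulAut Q, (∀ v : Q', (v : S) ∈ L S 1 → actHom hQS α v ∈ L S 1) →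
        SKeep hQS (ofList [⊥, L S 3, L S 2, L S 1, Q']) 4 α := fun α hα1 i hi v hv => by
      interval_cases i
      · simp only [ofList, List.getD_cons_zero, mem_bot] at hv ⊢
        rw [show v = 1 from Subtype.ext hv, map_one]
      · exact H.center_eq.le (hkc α v (H.center_eq.ge hv))
      · exact hk2 α v hv
      · exact hα1 v hv
    by_cases hinv1 : ∀ α ∈ F.autGroup Q, ∀ v : Q', (v : S) ∈ L S 1 → actHom hQS α v ∈ L S 1
    · exact false_of_flag hS hF hQ (hfl.chain hQS) (hfl.flag hQS) fun α hα =>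
        hfl.keep hQS (hskeep α (hinv1 α hα))
    push Not at hinv1
    obtain ⟨α, hα, v, hv, hk'⟩ := hinv1
    set kS := actHom hQS α v
    have hkQ : kS ∈ Q' := actHom_mem hQS α v
    have hkg : kS ∈ gam S := hQgam.le hkQ
    set mS := ⁅e, kS⁆
    have hm : mS ∈ L S 1 := H.comm_top e kS
    have hm2 : mS ∉ L S 2 := fun h => H.s2_not hkg hk' (by rw [← commutatorElement_inv]; exact inv_mem h)
    have hv2 : (v : S) ∉ L S 2 := fun h => hk' (L_le (show 1 ≤ 2 by norm_num) (hk2 α v h))
    have hen : (e : Ω) ∈ Subgroup.normalizer (Q : Set Ω) :=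
      (mem_normalizerIn_of_normal hQS e.2).2
    set πQ := QuotientGroup.mk' (center Q)
    have hCQ := commute_mk habQ
    let ι : ∀ w : S, w ∈ Q' → Q := fun w hw => ⟨(w : Ω), hw⟩
    have h2' : ∀ q : Q, (⟨(q : Ω), hQS q.2⟩ : S) ∈ L S 2 → q ∈ center Q := fun q hq =>
      hcen.ge ((mem_pull hQS).2 hq)
    set t := conjAut Q (e : Ω) hen
    have ht : t ∈ F.autGroup Q := autInducedBy_le hQS (conjAut_mem_autInducedBy hen e.2)
    have hkeepc : ∀ β : MulAut Q, ∀ z ∈ center Q, β z ∈ center Q := fun β z hz => mem_center_iff.2 fun q => by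
      have h := congrArg β (mem_center_iff.1 hz (β.symm q))
      simpa using h
    set kQ : Q := ι kS hkQ
    set mQ : Q := ι mS (hL1Q hm)
    set vQ : Q := ⟨((v : S) : Ω), v.2⟩
    have hαv : α vQ = kQ := Subtype.ext (by
      rw [← autFun_apply α]; exact (coe_actHom hQS α v).symm)
    have htv : t vQ * vQ⁻¹ ∈ center Q := h2' _ (by
      have h1 : e * (v : S) * e⁻¹ * (v : S)⁻¹ ∈ L S 2 := disp_succ hv e
      exact h1)
    set xQ : Q := α⁻¹ mQ
    set xS : S := ⟨(xQ : Ω), hQS xQ.2⟩
    have hxg : xS ∈ gam S := hQgam.le (show xS ∈ Q' from xQ.2)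
    have hx1 : xS ∉ L S 1 := fun hx => by
      have h1 : Commute xQ vQ := Subtype.ext (congrArg Subtype.val (H.commL1 hx hv).eq :)
      have h2 := h1.map α
      rw [MulAut.apply_inv_self, hαv] at h2
      have h3' : Commute mS kS := Subtype.ext (congrArg Subtype.val h2.eq :)
      refine H.w_ne hkg hk' (commutatorElement_eq_one_iff_mul_comm.2 ?_)
      rw [← commutatorElement_inv]
      exact (h3'.inv_left).symm.eq
    obtain ⟨z, hz, w, hw⟩ := exists_mul_pow ((sup_eq_of_between H.five.isP (L_le (by norm_num))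
      (by rw [H.card1, H.card2]; ring_nf; rfl) hv hv2 : L S 2 ⊔ zpowers (v : S) = L S 1).ge
        (H.comm_top e xS))
    have hw0 : ¬ 3 ∣ w := fun ⟨d, hd⟩ => H.s2_not hxg hx1 (by
      rw [← commutatorElement_inv]
      refine inv_mem ?_
      rw [hw, hd, pow_mul, show (v : S) ^ 3 = (v : S) ^ p by rw [h3]]
      exact mul_mem (pow_mem (pow_mem_of_card (L_le (show 1 ≤ 2 by norm_num))
        (by rw [H.card1, H.card2]; ring) hv) d) hz)
    set zQ : Q := ι z (hL2Q hz)
    have htx : t xQ = vQ ^ w * zQ * xQ := Subtype.ext (by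
      rw [conjAut_apply]
      have h1 : (e * xS * e⁻¹ : S) = (v : S) ^ w * z * xS := by
        rw [← hw, commutatorElement_def, inv_mul_cancel_right]
      exact (congrArg Subtype.val h1 :))
    obtain ⟨τ, hτ, hτinv⟩ := exists_tau habQ h3Q (H := F.autGroup Q) (fun β _ => hkeepc β)
      ht (mul_mem (mul_mem hα ht) (inv_mem hα)) (m := mQ) (k := kQ) (t1 := α * t * α⁻¹)
      (fun q => by
        have hkL : L S 1 ⊔ zpowers kS = Q' :=
          sup_eq_of_between hS hL1Q (by rw [hk, H.card1]; ring_nf; rfl) hkQ hk'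
        obtain ⟨l, hl, j, hq⟩ := exists_mul_pow (hkL.ge (show (⟨(q : Ω), hQS q.2⟩ : S) ∈ Q' from q.2))
        obtain ⟨z', hz', i, hl'⟩ := exists_mul_pow ((sup_eq_of_between H.five.isP (L_le (by norm_num))
          (by rw [H.card1, H.card2]; ring_nf; rfl) hm hm2 : L S 2 ⊔ zpowers mS = L S 1).ge hl)
        refine ⟨i, j, (QuotientGroup.eq_one_iff _).1 ?_⟩
        show πQ _ = 1
        have hq' : q = kQ ^ j * (mQ ^ i * ι z' (hL2Q hz')) := Subtype.ext (by
          rw [hl'] at hq
          exact (congrArg Subtype.val hq :))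
        rw [hq', map_mul, map_inv, map_mul, map_mul, map_mul,
          show πQ (ι z' (hL2Q hz')) = 1 from (QuotientGroup.eq_one_iff _).2 (h2' _ hz'), mul_one, mul_inv_eq_one]
        exact (hCQ _ _).eq)
      (h2' _ (by
        have : (e * mS * e⁻¹ * mS⁻¹ : S) ∈ L S 2 := disp_succ hm e
        exact this))
      (by
        have h1 : t kQ = mQ * kQ := Subtype.ext (by
          rw [conjAut_apply]
          exact (congrArg Subtype.val
            (show e * kS * e⁻¹ = mS * kS by simp only [mS, commutatorElement_def]; group) :))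
        rw [h1, show mQ * kQ * (kQ * mQ)⁻¹ = ⁅mQ, kQ⁆ by rw [commutatorElement_def]; group]
        exact habQ _ _)
      (by
        show α (t (α⁻¹ kQ)) * kQ⁻¹ ∈ _
        rw [show α⁻¹ kQ = vQ by rw [← hαv, MulAut.inv_apply_self], ← hαv, ← map_inv, ← map_mul]
        exact hkeepc α _ htv)
      hw0
      (by
        show α (t xQ) * _ ∈ _
        rw [htx, map_mul, map_mul, map_pow, hαv, MulAut.apply_inv_self]
        refine (QuotientGroup.eq_one_iff _).1 ?_
        show πQ _ = 1
        rw [map_mul, map_inv, map_mul, map_mul, map_mul, show πQ (α zQ) = 1 from (QuotientGroup.eq_one_iff _).2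
          (hkeepc α _ (h2' zQ hz)), mul_one, mul_inv_eq_one]
        exact (hCQ _ _).eq)
    have hact : ∀ w : Q', actHom hQS τ w * (w : S) ∈ L S 2 := fun w => by
      have h1 := (mem_pull hQS).1 (hcen.le (hτinv ⟨((w : S) : Ω), w.2⟩))
      convert h1 using 1
      exact Subtype.ext rfl
    obtain ⟨σ', hσ', hag⟩ := hfl.extend hS hF hQ.2.1 hτ (hskeep τ fun w hw => by
      have := mul_mem (L_le (show 1 ≤ 2 by norm_num) (hact w)) (inv_mem hw)
      rwa [mul_inv_cancel_right] at this) (normalizerIn_eq_of_normal hQS)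
    have h1 : σ' kS * kS ∈ L S 1 := by
      have e' : σ' kS = actHom hQS τ ⟨kS, hkQ⟩ := Subtype.ext (by
        rw [← autFun_apply σ', coe_actHom hQS τ, hag (kS : Ω) hkQ])
      rw [e']
      exact L_le (show 1 ≤ 2 by norm_num) (hact ⟨kS, hkQ⟩)
    have h2 : π (σ' kS) = π kS := by
      have h : π (σ' kS * kS⁻¹) = 1 := (QuotientGroup.eq_one_iff _).2 (H.top_three h3 σ' hkg hk')
      rwa [map_mul, map_inv, mul_inv_eq_one] at h
    have h1' : π (σ' kS * kS) = 1 := (QuotientGroup.eq_one_iff _).2 h1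
    rw [map_mul, h2, ← pow_two] at h1'
    refine hk' ((QuotientGroup.eq_one_iff _).1 (?_ : π kS = 1))
    have h4 : π kS ^ 3 = 1 := h3 ▸ hpow kS
    rwa [pow_succ, h1', one_mul] at h4

end Cfsg.Lib.Fusion.OrderPFive
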