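import Cfsg.Agent.Fusion.OrderPFive.AbelianFalse
import Cfsg.Agent.Fusion.OrderPFive.ThreePearl

/-!
An abelian essential subgroup of order `27` in a group of order `3 ^ 5` keeps a maximal subgroup over the
derived subgroup.
-/

set_option autoImplicit false
set_option linter.style.haveILetI false
set_option linter.unusedSectionVars false
set_option linter.unusedVariables false
set_option maxHeartbeats 800000

namespace Cfsg.Lib.Fusion.OrderPFive

open Subgroup Cfsg Cfsg.FusionSystem Cfsg.Lib.Fusion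
open Cfsg.Lib.PGroups.MaxClassRank
open scoped commutatorElement

universe u

theorem neg_one_three : ((-1 : ZMod 3) ≠ 0 ∧ (-1 : ZMod 3) ^ 3 = -1) ∧
    ((-1 : ZMod 3) ^ 2 * -1 ≠ 1 ∧ (-1 : ZMod 3) * -1 = 1) ∧
    (∀ j : ZMod 3, -1 * j = j → j = 0) ∧
    ∀ a r k v : ZMod 3, a ≠ 0 → r ≠ 0 → k ≠ 0 → a * r * a * k = k * (v * r) → v = 1 :=
  ⟨⟨by decide, by decide⟩, ⟨by decide, by decide⟩, by decide, by decide⟩

/-- In characteristic three the square of a map keeping a chain is trivial on every factor. -/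
theorem triv_sq {Q : Type u} [Group Q] [Finite Q] [Fact (Nat.Prime 3)] {C : ℕ → Subgroup Q} {n : ℕ}
    (hC : IsChain C n) (hn : ∀ i < n, (C i).Normal) (hP : IsPGroup 3 Q)
    (hc : ∀ i < n, Nat.card (C (i + 1)) = 3 * Nat.card (C i)) {α : MulAut Q} (hα : Keep C n α) :
    Triv C n (α * α) := by
  intro i hi x hx
  haveI := hn i hi
  set π := QuotientGroup.mk' (C i)
  obtain ⟨g, hg, hgi⟩ := SetLike.exists_of_lt (show C i < C (i + 1) from lt_of_le_of_ne (hC.mono i hi) fun e => by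
    have := hc i hi
    rw [← e] at this
    nlinarith [Nat.card_pos (α := C i)])
  have hsup : C i ⊔ zpowers g = C (i + 1) := sup_eq_of_between hP (hC.mono i hi) (hc i hi).le hg hgi
  have hrep : ∀ v ∈ C (i + 1), ∃ j : ℕ, π v = π g ^ j := fun v hv => by
    obtain ⟨h, hh, j, rfl⟩ := exists_mul_pow (hsup.ge hv)
    exact ⟨j, by rw [map_mul, show π h = 1 from (QuotientGroup.eq_one_iff _).2 hh, mul_one, map_pow]⟩
  have hev : ∀ v ∈ C (i + 1), ∀ (j : ℕ), π v = π g ^ j → π (α v) = π (α g) ^ j := fun v hv j h => by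
    rw [← map_pow] at h
    rw [← map_pow, ← map_pow]
    exact mk_apply_congr (hα i hi.le) h
  obtain ⟨a, ha⟩ := hrep _ (hα (i + 1) hi g hg)
  have hgp : g ^ 3 ∈ C i := pow_mem_of_card (hC.mono i hi) (hc i hi) hg
  have hg3 : π g ^ 3 = 1 := by rw [← map_pow]; exact (QuotientGroup.eq_one_iff _).2 hgp
  have ha0 : a % 3 ≠ 0 := fun h => hgi (by
    rw [← Nat.div_add_mod a 3, h, add_zero, pow_mul, hg3, one_pow] at ha
    have := hα.inv i hi.le _ ((QuotientGroup.eq_one_iff _).1 ha)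
    rwa [MulAut.inv_apply_self] at this)
  obtain ⟨c, hcv⟩ := hrep x hx
  refine (QuotientGroup.eq_one_iff _).1 ?_
  show π (α (α x) * x⁻¹) = 1
  rw [map_mul, map_inv, mul_inv_eq_one, hev _ (hα (i + 1) hi x hx) (a * c) (by rw [hev x hx c hcv, ha, ← pow_mul]),
    ha, ← pow_mul, hcv, ← Nat.div_add_mod (a * (a * c)) 3, ← Nat.div_add_mod c 3, pow_add, pow_add, pow_mul,
    pow_mul, hg3, one_pow, one_pow]
  congr 2
  rw [Nat.div_add_mod c 3, Nat.mul_mod, Nat.mul_mod a c]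
  rcases (show a % 3 = 1 ∨ a % 3 = 2 by omega) with h | h <;> rw [h] <;> omega

variable {Ω : Type u} [Group Ω] {S : Subgroup Ω} {F : FusionSystem S} {p : ℕ} [Finite S] [hp : Fact p.Prime]
  [Group.IsNilpotent S]

/-- No residual-free system with an abelian essential subgroup of order `27`. -/
theorem false_of_abelian_three (hS : IsPGroup p S) (hF : F.IsSaturated p) (h3 : p = 3)
    (hhyp : F.hyperfocalSubgroup p = S) (T : Five p S) {E : Subgroup Ω} (hE : F.IsEssential p E)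
    (hab : ∀ a ∈ E, ∀ b ∈ E, a * b = b * a) (hc : Nat.card E = p ^ 3) : False := by
  subst h3
  have hp2 : (3 : ℕ) ≠ 2 := by norm_num
  obtain ⟨A, M, e, x, R⟩ := exists_tri hS hF T hE hab hc
  have hZ := (three_of_abelian hS hF T hp2 hE hab hc R).2
  have hμ : (-1 : ZMod 3) ≠ 0 := neg_one_three.1.1
  obtain ⟨σ, hσ, l, i, ν, m, W, hm, -⟩ := exists_torus_abelian hS hF T hE hab hc R hμ
  have hi : (i : ZMod 3) = -1 ∧ (ν : ZMod 3) = -1 := by
    obtain ⟨h1, h2⟩ := tri_eq_i hμ R T W hm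
    exact ⟨by rw [h1, inv_neg, inv_one], by rw [h2]; exact neg_one_three.1.2⟩
  haveI := R.normalA; haveI := R.normalM; haveI := R.normalN; haveI := R.normalC T
  set N := (normalizerIn S E).subgroupOf S
  set y := ⁅e, x⁆
  set c := ⁅y, e⁆
  set C := zpowers c
  have hyM : y ∈ M := R.y_mem_M T
  have hCZ : C = center S := eq_of_le_of_card_ge
    (zpowers_le.2 (mem_center_iff.2 fun g => (R.c_central T g).symm.eq)) (by rw [hZ, R.cardC T])
  have hgenS : ∀ P : Subgroup S, M ≤ P → e ∈ P → x ∈ P → P = ⊤ := fun P h1 h2 h3 =>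
    eq_top_iff.2 ((R.top_eq T).ge.trans (sup_le ((R.N_eq T).ge.trans (sup_le h1 (zpowers_le.2 h2))) (zpowers_le.2 h3)))
  set π0 := QuotientGroup.mk' C
  have hcomm0 : ∀ {u v : S}, ⁅u, v⁆ ∈ C → Commute (π0 u) (π0 v) := fun {u v} h =>
    commutatorElement_eq_one_iff_mul_comm.1 (by
      rw [← map_commutatorElement]; exact (QuotientGroup.eq_one_iff _).2 h)
  have hcomm0' : ∀ {u v : S}, Commute (π0 u) (π0 v) → ⁅u, v⁆ ∈ C := fun {u v} h =>
    (QuotientGroup.eq_one_iff _).1 (by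
      show π0 ⁅u, v⁆ = 1
      rw [map_commutatorElement, commutatorElement_eq_one_iff_mul_comm]; exact h.eq)
  have hgen0 : ∀ u : S, (∀ v ∈ M, Commute (π0 u) (π0 v)) → Commute (π0 u) (π0 e) → Commute (π0 u) (π0 x) →
      ∀ v, Commute (π0 u) (π0 v) := fun u h1 h2 h3 v => by
    have h := hgenS ((centralizer ({π0 u} : Set (S ⧸ C))).comap π0)
      (fun w hw => mem_comap.2 (mem_centralizer_singleton_iff.2 (h1 w hw).symm.eq))
      (mem_comap.2 (mem_centralizer_singleton_iff.2 h2.symm.eq))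
      (mem_comap.2 (mem_centralizer_singleton_iff.2 h3.symm.eq))
    exact (mem_centralizer_singleton_iff.1 (mem_comap.1 (h.ge (mem_top v)))).symm
  -- `M` is the second centre
  have hyx : ⁅y, x⁆ ∈ C := by
    by_contra h
    have h1 := R.eq_mν T W h
    push_cast [hm, hi.2] at h1
    exact neg_one_three.2.1.1 h1
  have hy0 : ∀ g, Commute (π0 y) (π0 g) := hgen0 y
    (fun v hv => (R.commM T hyM hv).map π0) (hcomm0 (mem_zpowers c)) (hcomm0 hyx)
  have hM0 : ∀ u ∈ M, ∀ g, ⁅u, g⁆ ∈ C := fun u hu g => by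
    obtain ⟨b, hb, j, rfl⟩ := exists_mul_pow ((R.M_eq T).ge hu)
    refine hcomm0' ?_
    rw [map_mul, map_pow]
    exact ((hy0 g).pow_left j).mul_left (hcomm0 (R.A_step T hb g))
  have hyC : y ∉ C := fun h => R.y_not_A T (R.C_le_A T h)
  have hlM : l ∈ M := R.A_le_M W.lA
  have hZ2 : ∀ g, (∀ v, Commute (π0 g) (π0 v)) → g ∈ M := by
    intro g hg
    by_contra hgM
    refine hyC ?_
    by_cases hgN : g ∈ N
    · have hMg : M ⊔ zpowers g = N :=
        sup_eq_of_between hS R.M_le_N (by rw [R.cardN, R.cardM]; ring_nf; rfl) hgN hgM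
      obtain ⟨u, hu, j, hj⟩ := exists_mul_pow (hMg.ge (R.e_mem_N T))
      refine hcomm0' (u := e) (v := x) ?_
      rw [hj, map_mul, map_pow]
      exact ((hg x).pow_left j).mul_left (hcomm0 (hM0 u hu x))
    · have hNg : N ⊔ zpowers g = ⊤ :=
        sup_eq_of_between hS le_top (by rw [card_top, T.card, R.cardN]; ring_nf; rfl) (mem_top g) hgN
      obtain ⟨n, hn, j, hj⟩ := exists_mul_pow (hNg.ge (mem_top x))
      obtain ⟨u, hu, k, rfl⟩ := exists_mul_pow ((R.N_eq T).ge hn)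
      refine hcomm0' (u := e) (v := x) ?_
      rw [hj, map_mul, map_pow, map_mul, map_pow]
      exact ((hg e).symm.pow_right j).mul_right (((Commute.refl _).pow_right k).mul_right (hcomm0 (hM0 u hu e)).symm)
  -- the derived subgroup
  have hyp : y ^ 3 ∈ C := hCZ.ge (mem_center_iff.2 fun g => by
    have hcg : ∀ v, Commute ⁅y, g⁆ v := fun v => (mem_center_iff.1 (hCZ.le (hM0 y hyM g)) v).symm
    have h1 : ⁅y ^ 3, g⁆ = 1 := by
      rw [Cfsg.Lib.PGroups.commutator_pow_left_of_commute (hcg y)]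
      obtain ⟨k, hk⟩ := hM0 y hyM g
      rw [← hk, ← zpow_natCast, ← zpow_mul, mul_comm, zpow_mul, zpow_natCast, R.c_pow T, one_zpow]
    exact (commutatorElement_eq_one_iff_mul_comm.1 h1).symm)
  set D := C ⊔ zpowers y
  have hDM : D ≤ M := sup_le ((R.C_le_A T).trans R.A_le_M) (zpowers_le.2 hyM)
  haveI hDn : D.Normal := ⟨fun w hw g => by
    have h := D.mul_mem (mem_sup_left (inv_mem (hM0 w (hDM hw) g)) : ⁅w, g⁆⁻¹ ∈ D) hw
    rwa [commutatorElement_inv, commutatorElement_def, inv_mul_cancel_right] at h⟩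
  have hDc : Nat.card D = 3 ^ 2 := by
    rw [card_sup_zpowers hyC hyp, R.cardC T, pow_two]
  set π := QuotientGroup.mk' D
  have hC : ∀ u v : S, Commute (π u) (π v) := by
    have hMc : ∀ u ∈ M, ∀ v, Commute (π u) (π v) := fun u hu v => commutatorElement_eq_one_iff_mul_comm.1 (by
      rw [← map_commutatorElement]; exact (QuotientGroup.eq_one_iff _).2 (mem_sup_left (hM0 u hu v)))
    have hexc : Commute (π e) (π x) := commutatorElement_eq_one_iff_mul_comm.1 (by
      rw [← map_commutatorElement]; exact (QuotientGroup.eq_one_iff _).2 (mem_sup_right (mem_zpowers y)))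
    intro u v
    have h1 : ∀ w, (∀ v ∈ M, Commute (π w) (π v)) → Commute (π w) (π e) → Commute (π w) (π x) →
        Commute (π w) (π v) := fun w a b c' => by
      have h := hgenS ((centralizer ({π w} : Set (S ⧸ D))).comap π)
        (fun z hz => mem_comap.2 (mem_centralizer_singleton_iff.2 (a z hz).symm.eq))
        (mem_comap.2 (mem_centralizer_singleton_iff.2 b.symm.eq))
        (mem_comap.2 (mem_centralizer_singleton_iff.2 c'.symm.eq))
      exact (mem_centralizer_singleton_iff.1 (mem_comap.1 (h.ge (mem_top v)))).symm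
    have he := h1 e (fun w hw => (hMc w hw e).symm) (Commute.refl _) hexc
    have hx := h1 x (fun w hw => (hMc w hw x).symm) hexc.symm (Commute.refl _)
    have h := hgenS ((centralizer ({π v} : Set (S ⧸ D))).comap π)
      (fun z hz => mem_comap.2 (mem_centralizer_singleton_iff.2 (hMc z hz v).eq))
      (mem_comap.2 (mem_centralizer_singleton_iff.2 he.eq))
      (mem_comap.2 (mem_centralizer_singleton_iff.2 hx.eq))
    exact mem_centralizer_singleton_iff.1 (mem_comap.1 (h.ge (mem_top u)))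
  have hcomD : ∀ u v : S, ⁅u, v⁆ ∈ D := fun u v => (QuotientGroup.eq_one_iff _).1 (by
    show π ⁅u, v⁆ = 1
    rw [map_commutatorElement, commutatorElement_eq_one_iff_mul_comm]; exact (hC u v).eq)
  have hCk : ∀ τ : MulAut S, ∀ v ∈ C, τ v ∈ C := fun τ v hv => hCZ.ge (mem_center_iff.2 fun g => by
    have h := congrArg τ (mem_center_iff.1 (hCZ.le hv) (τ.symm g))
    simpa using h)
  have hDk : ∀ τ : MulAut S, ∀ v ∈ D, τ v ∈ D := fun τ v hv => by
    obtain ⟨z, hz, j, rfl⟩ := exists_mul_pow hv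
    rw [map_mul, map_pow, map_commutatorElement]
    exact mul_mem (pow_mem (hcomD _ _) j) (mem_sup_left (hCk τ z hz))
  have hMk : ∀ τ : MulAut S, ∀ v ∈ M, τ v ∈ M := fun τ v hv => hZ2 _ fun g => hcomm0 (by
    have h := hCk τ _ (hM0 v hv (τ.symm g))
    rwa [map_commutatorElement, MulEquiv.apply_symm_apply] at h)
  -- the centralizer of the derived subgroup
  let f : S →* center S := MonoidHom.mk' (fun g => ⟨⁅y, g⁆, hCZ.le (hM0 y hyM g)⟩) fun g h => Subtype.ext (by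
    show ⁅y, g * h⁆ = ⁅y, g⁆ * ⁅y, h⁆
    rw [Cfsg.Lib.PGroups.mul_right_commutator, mem_center_iff.1 (hCZ.le (hM0 y hyM h)) g, mul_inv_cancel_right])
  set Cd := f.ker
  have hCdmem : ∀ {g}, g ∈ Cd ↔ Commute y g := fun {g} =>
    ⟨fun h => commutatorElement_eq_one_iff_mul_comm.1 (congrArg Subtype.val (MonoidHom.mem_ker.1 h)),
      fun h => MonoidHom.mem_ker.2 (Subtype.ext (commutatorElement_eq_one_iff_mul_comm.2 h.eq))⟩
  have heCd : e ∉ Cd := fun h => R.c_ne T (commutatorElement_eq_one_iff_mul_comm.2 (hCdmem.1 h).eq)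
  have hMCd : M ≤ Cd := fun v hv => hCdmem.2 (R.commM T hyM hv)
  have hCdc : Nat.card Cd = 3 ^ 4 := by
    have hr : Nat.card f.range = 3 := by
      have hle : f.range ≤ ⊤ := le_top
      refine le_antisymm ((card_le_card_group f.range).trans hZ.le) ?_
      obtain ⟨r, hr⟩ := exists_pow (hS.to_subgroup (center S)) f.range
      rcases r with _ | r
      · exfalso
        rw [pow_zero] at hr
        refine heCd (MonoidHom.mem_ker.2 ?_)
        exact mem_bot.1 ((card_eq_one.1 hr : f.range = ⊥) ▸ ⟨e, rfl⟩)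
      · rw [hr]
        exact Nat.le_self_pow (Nat.succ_ne_zero r) 3
    have h := f.ker.card_mul_index
    rw [index_ker, hr, T.card] at h
    show Nat.card f.ker = 3 ^ 4
    norm_num at h ⊢
    omega
  have hDCd : ∀ d ∈ D, ∀ g ∈ Cd, Commute d g := fun d hd g hg => by
    obtain ⟨z, hz, j, rfl⟩ := exists_mul_pow hd
    exact ((hCdmem.1 hg).pow_left j).mul_left (mem_center_iff.1 (hCZ.le hz) g).symm
  have hCdk : ∀ τ : MulAut S, ∀ v ∈ Cd, τ v ∈ Cd := fun τ v hv => hCdmem.2 (by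
    have hτy : τ y ∉ C := fun h => hyC (by
      have := hCk τ⁻¹ _ h
      rwa [MulAut.inv_apply_self] at this)
    obtain ⟨z, hz, j, hj⟩ := exists_mul_pow ((sup_eq_of_between hS (le_sup_left : C ≤ D)
      (by rw [hDc, R.cardC T]; norm_num) (hDk τ y (mem_sup_right (mem_zpowers y))) hτy).ge
        (mem_sup_right (mem_zpowers y) : y ∈ D))
    rw [hj]
    exact (((hCdmem.1 hv).map τ).pow_left j).mul_left (mem_center_iff.1 (hCZ.le hz) _).symm)
  -- the flag and the consequences in `F`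
  set K := ofList [⊥, C, D, M, Cd, ⊤]
  have hK : IsChain K 5 := ⟨rfl, rfl, fun i hi => by
    interval_cases i
    · exact bot_le
    · exact le_sup_left
    · exact hDM
    · exact hMCd
    · exact le_top⟩
  have hKn : ∀ i < 5, (K i).Normal := fun i hi => by
    interval_cases i <;> simp only [K, ofList, List.getD_cons_zero, List.getD_cons_succ] <;> infer_instance
  have hKc : ∀ i < 5, Nat.card (K (i + 1)) = 3 * Nat.card (K i) := fun i hi => by
    interval_cases i <;> simp only [K, ofList, List.getD_cons_zero, List.getD_cons_succ, Nat.reduceAdd]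
    · rw [R.cardC T, card_bot]
    · rw [hDc, R.cardC T]; norm_num
    · rw [R.cardM, hDc]; norm_num
    · rw [hCdc, R.cardM]; norm_num
    · rw [card_top, T.card, hCdc]; norm_num
  have hkeep : ∀ τ : MulAut S, Keep K 5 τ := fun τ i hi => by
    interval_cases i <;> intro v hv <;> simp only [K, ofList, List.getD_cons_zero, List.getD_cons_succ] at hv ⊢
    · rw [mem_bot] at hv ⊢; rw [hv, map_one]
    · exact hCk τ v hv
    · exact hDk τ v hv
    · exact hMk τ v hv
    · exact hCdk τ v hv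
    · exact mem_top _
  haveI : (S.subgroupOf S).Normal := by rw [subgroupOf_self]; infer_instance
  have hfaS := (fullyNormalized_props hS hF (fullyNormalized_of_normal (F := F) (le_refl S))).2.1
  have hinner : ∀ ρ ∈ F.autGroup S, Triv K 5 ρ → ∀ v, π (ρ v) = π v := fun ρ hρ htriv v => by
    obtain ⟨g, hg, eg⟩ := mem_autInducedBy.mp (mem_autS_of_triv_invariant hS hfaS hK (fun τ _ => hkeep τ) hρ htriv)
    rw [show ρ v = ⟨g, hg⟩ * v * (⟨g, hg⟩ : S)⁻¹ from Subtype.ext (eg v), map_mul, map_mul, map_inv,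
      (hC _ _).eq, mul_inv_cancel_right]
  have hcomm : ∀ τ ∈ F.autGroup S, ∀ v, π (σ (τ v)) = π (τ (σ v)) := fun τ hτ v => by
    have h1 := hinner _ (mul_mem (mul_mem (mul_mem hσ hτ) (inv_mem hσ)) (inv_mem hτ))
      (triv_commutator hK hKn hS hKc (hkeep σ) (hkeep τ)) (τ (σ v))
    rw [← h1]
    simp
  have hsq : ∀ v, π (σ (σ v)) = π v := fun v =>
    hinner _ (mul_mem hσ hσ) (triv_sq hK hKn hS hKc (hkeep σ)) v
  have hev : ∀ (τ : MulAut S) {u v : S}, π u = π v → π (τ u) = π (τ v) := fun τ u v h =>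
    mk_apply_congr (hDk τ) h
  -- every automorphism fixes `l`
  have hlD : l ∉ D := fun h => by
    have hle : M ≤ D := (R.M_eq T).ge.trans (sup_le ((sup_eq_of_between hS (R.C_le_A T)
      (by rw [R.cardA, R.cardC T]; norm_num) W.lA W.lc).ge.trans (sup_le le_sup_left (zpowers_le.2 h)))
        (zpowers_le.2 (mem_sup_right (mem_zpowers y))))
    have h1 := card_le_of_le hle
    rw [R.cardM, hDc] at h1
    norm_num at h1
  have hMD : D ⊔ zpowers l = M := sup_eq_of_between hS hDM (by rw [R.cardM, hDc]; norm_num) hlM hlD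
  have hlfix : ∀ τ : MulAut S, π (τ l) = π l := by
    intro τ
    obtain ⟨x', hx', hx'M⟩ := SetLike.exists_of_lt (lt_of_le_of_ne hMCd fun e' => by
      have h1 := R.cardM
      rw [e', hCdc] at h1
      norm_num at h1)
    have hCdM : M ⊔ zpowers x' = Cd := sup_eq_of_between hS hMCd (by rw [hCdc, R.cardM]; norm_num) hx' hx'M
    have htopC : Cd ⊔ zpowers e = ⊤ :=
      sup_eq_of_between hS le_top (by rw [card_top, T.card, hCdc]; norm_num) (mem_top e) heCd
    have hMc0 : ∀ u ∈ M, ∀ v, Commute (π0 u) (π0 v) := fun u hu v => hcomm0 (hM0 u hu v)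
    set y' := ⁅e, x'⁆
    have hy'C : y' ∉ C := fun h => hx'M (hZ2 x' fun v => by
      obtain ⟨w, hw, j, rfl⟩ := exists_mul_pow (htopC.ge (mem_top v))
      obtain ⟨u, hu, k, rfl⟩ := exists_mul_pow (hCdM.ge hw)
      rw [map_mul, map_mul, map_pow, map_pow]
      exact ((hcomm0 h).symm.pow_right j).mul_right (((Commute.refl _).pow_right k).mul_right (hMc0 u hu x').symm))
    have hy'D : y' ∈ D := hcomD e x'
    set c' := ⁅y', e⁆
    have hc'C : c' ∈ C := hM0 y' (hDM hy'D) e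
    have hc'z : ∀ g, Commute c' g := fun g => (mem_center_iff.1 (hCZ.le hc'C) g).symm
    have hc'1 : c' ≠ 1 := fun h => R.c_ne T (commutatorElement_eq_one_iff_mul_comm.2 (by
      obtain ⟨z, hz, j, hj⟩ := exists_mul_pow ((sup_eq_of_between hS (le_sup_left : C ≤ D)
        (by rw [hDc, R.cardC T]; norm_num) hy'D hy'C).ge (mem_sup_right (mem_zpowers y) : y ∈ D))
      suffices h' : Commute y e from h'.eq
      rw [hj]
      exact (((show Commute y' e from commutatorElement_eq_one_iff_mul_comm.1 h).pow_left j).mul_left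
        (mem_center_iff.1 (hCZ.le hz) e).symm).eq))
    have hc'p : c' ^ 3 = 1 := by
      obtain ⟨k, hk⟩ := hc'C
      rw [← hk, ← zpow_natCast, ← zpow_mul, mul_comm, zpow_mul, zpow_natCast, R.c_pow T, one_zpow]
    have hgenC : zpowers c' = C := eq_of_le_of_card_ge (zpowers_le.2 hc'C) (by
      rw [R.cardC T, Nat.card_zpowers, orderOf_eq_prime hc'p hc'1])
    obtain ⟨w, hw, a, hτe⟩ := exists_mul_pow (htopC.ge (mem_top (τ e)))
    obtain ⟨u, hu, r, hτx⟩ := exists_mul_pow (hCdM.ge (hCdk τ x' hx'))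
    obtain ⟨d, hd, v, hτl⟩ := exists_mul_pow (hMD.ge (hMk τ l hlM))
    have ha : (a : ZMod 3) ≠ 0 := fun h => heCd (by
      obtain ⟨b, rfl⟩ := (ZMod.natCast_eq_zero_iff a 3).1 h
      have he3 : e ^ 3 = 1 := R.exp e R.eE
      rw [pow_mul, he3, one_pow, one_mul] at hτe
      have := hCdk τ⁻¹ _ (hτe ▸ hw)
      rwa [MulAut.inv_apply_self] at this)
    have hr : (r : ZMod 3) ≠ 0 := fun h => hx'M (by
      obtain ⟨b, rfl⟩ := (ZMod.natCast_eq_zero_iff r 3).1 h
      have hp' : x' ^ 3 ∈ M := pow_mem_of_card hMCd (by rw [hCdc, R.cardM]; norm_num) hx'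
      have := hMk τ⁻¹ _ (show τ x' ∈ M by rw [hτx, pow_mul]; exact mul_mem (pow_mem hp' b) hu)
      rwa [MulAut.inv_apply_self] at this)
    have hwx : ⁅w, x'⁆ ∈ C := by
      obtain ⟨u1, hu1, k, rfl⟩ := exists_mul_pow (hCdM.ge hw)
      refine hcomm0' ?_
      rw [map_mul, map_pow]
      exact ((Commute.refl _).pow_left k).mul_left (hMc0 u1 hu1 x')
    have e1 : π0 (τ y') = π0 (y' ^ (a * r)) := by
      rw [map_commutatorElement τ, hτe, hτx, map_pow]
      exact commutator_pow_mk (fun g => hM0 y' (hDM hy'D) g) hwx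
        (hcomm0' (hMc0 u hu e).symm) (hcomm0' (hMc0 u hu w).symm) a r
    obtain ⟨z0, hz0, hy'τ⟩ : ∃ z0 ∈ C, τ y' = y' ^ (a * r) * z0 :=
      ⟨_, QuotientGroup.eq.1 e1.symm, (mul_inv_cancel_left _ _).symm⟩
    have hcz0 : ∀ g, Commute z0 g := fun g => (mem_center_iff.1 (hCZ.le hz0) g).symm
    have e2 : τ c' = c' ^ (a * r * a) := by
      rw [map_commutatorElement τ, hy'τ, hτe]
      exact commutator_pow_mul hc'z (hcz0 e) (hDCd y' hy'D w hw) (hcz0 w) _ _
    set q := ⁅l, x'⁆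
    have hqC : q ∈ C := hM0 l hlM x'
    have hq1 : q ≠ 1 := fun h => W.lc (hCZ.ge (mem_center_iff.2 fun g => by
      obtain ⟨w1, hw1, j, rfl⟩ := exists_mul_pow (htopC.ge (mem_top g))
      obtain ⟨u1, hu1, k, rfl⟩ := exists_mul_pow (hCdM.ge hw1)
      exact ((((R.centA l W.lA e (R.e_mem_N T)).pow_right j).mul_right
        (((show Commute l x' from commutatorElement_eq_one_iff_mul_comm.1 h).pow_right k).mul_right
          (R.commM T hlM hu1))).symm).eq))
    have e3 : τ q = q ^ (v * r) := by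
      rw [map_commutatorElement τ, hτl, hτx]
      exact commutator_pow_mul (fun g => (mem_center_iff.1 (hCZ.le hqC) g).symm) (hDCd d hd x' hx')
        (R.commM T hlM hu) (R.commM T (hDM hd) hu) _ _
    obtain ⟨k, hk⟩ := mem_powers_iff_mem_zpowers.2 (hgenC.ge hqC)
    change c' ^ k = q at hk
    have hk0 : (k : ZMod 3) ≠ 0 := fun h => hq1 (by
      obtain ⟨b, rfl⟩ := (ZMod.natCast_eq_zero_iff k 3).1 h
      rw [← hk, pow_mul, hc'p, one_pow])
    rw [← hk, map_pow, e2, ← pow_mul, ← pow_mul] at e3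
    have h1 := pow_eq_pow_iff_modEq.1 e3
    rw [orderOf_eq_prime hc'p hc'1, ← ZMod.natCast_eq_natCast_iff] at h1
    push_cast at h1
    have hv : (v : ZMod 3) = 1 := by
      exact neg_one_three.2.2.2 _ _ _ _ ha hr hk0 h1
    have hvm : v % 3 = 1 := by
      rw [← Nat.cast_one, ZMod.natCast_eq_natCast_iff'] at hv
      exact hv
    have hl3 : l ^ 3 = 1 := R.exp l (R.A_le_E W.lA)
    rw [hτl, map_mul, show π d = 1 from (QuotientGroup.eq_one_iff _).2 hd, mul_one, ← Nat.div_add_mod v 3,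
      pow_add, pow_mul, hl3, one_pow, one_mul, hvm, pow_one]
  -- the subgroup `Y`
  let φ : S →* S ⧸ D := MonoidHom.mk' (fun g => π (σ g) * π g) fun g h => by
    rw [map_mul σ, map_mul π, map_mul π]
    exact Commute.mul_mul_mul_comm (hC _ _) _ _
  set Y := φ.ker
  have hYmem : ∀ {g}, g ∈ Y ↔ σ g * g ∈ D := fun {g} => by
    rw [MonoidHom.mem_ker]
    show π (σ g) * π g = 1 ↔ _
    rw [← map_mul]
    exact QuotientGroup.eq_one_iff _
  have hDY : D ≤ Y := fun v hv => hYmem.2 (mul_mem (hDk σ v hv) hv)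
  have hlY : ∀ k : ℕ, l ^ k ∈ Y → l ^ k ∈ D := fun k h => by
    have h1 : π (σ (l ^ k)) * π (l ^ k) = 1 := MonoidHom.mem_ker.1 h
    rw [map_pow σ, map_pow π, map_pow π, hlfix σ] at h1
    refine (QuotientGroup.eq_one_iff _).1 (?_ : π (l ^ k) = 1)
    have h2 : (π l ^ k) ^ 3 = 1 := by
      rw [← pow_mul, mul_comm, pow_mul, ← map_pow π, R.exp l (R.A_le_E W.lA), map_one, one_pow]
    rw [pow_succ, pow_two, h1, one_mul] at h2
    rw [map_pow, h2]
  have hYl : Y ≠ ⊤ := fun h => hlD (by simpa using hlY 1 (h ▸ mem_top _))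
  have hx3 : x ^ 3 ∈ N := pow_mem_of_card le_top (by rw [card_top, T.card, R.cardN]; norm_num) (mem_top x)
  have hNk : ∀ n ∈ N, σ n ∈ N := fun n hn => by
    obtain ⟨u, hu, j, rfl⟩ := exists_mul_pow ((R.N_eq T).ge hn)
    obtain ⟨a, ha, he⟩ := W.we
    rw [map_mul, map_pow, he]
    exact mul_mem (pow_mem (mul_mem (pow_mem (R.e_mem_N T) i) (R.M_le_N (R.A_le_M ha))) j)
      (R.M_le_N (hMk σ u hu))
  have hσM : ∀ g, σ g * g ∈ M := by
    intro g
    set v := σ g * g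
    have hfix : π (σ v) = π v := by
      rw [map_mul σ, map_mul π, hsq, (hC _ _).eq, ← map_mul]
    have hDN : D ≤ N := hDM.trans R.M_le_N
    obtain ⟨n, hn, j, hj⟩ := exists_mul_pow ((R.top_eq T).ge (mem_top v))
    obtain ⟨n0, hn0, hσx⟩ := W.wx
    set πN := QuotientGroup.mk' N
    have h1 : πN (σ v) = πN v := QuotientGroup.eq.2 (hDN (QuotientGroup.eq.1 hfix))
    rw [hj, map_mul σ, map_pow σ, hσx, map_mul πN, map_mul πN, map_pow πN, map_mul πN,
      show πN n0 = 1 from (QuotientGroup.eq_one_iff _).2 hn0,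
      show πN (σ n) = 1 from (QuotientGroup.eq_one_iff _).2 (hNk n hn),
      show πN n = 1 from (QuotientGroup.eq_one_iff _).2 hn, mul_one, mul_one, mul_one, map_pow πN, map_pow πN,
      ← pow_mul] at h1
    have h2 := cast_eq_of_pow R.xN hx3 h1
    push_cast [hi.2] at h2
    have hj0 : (j : ZMod 3) = 0 := by
      exact neg_one_three.2.2.1 _ h2
    have hvN : v ∈ N := by
      obtain ⟨b, rfl⟩ := (ZMod.natCast_eq_zero_iff j 3).1 hj0
      rw [hj, pow_mul]
      exact mul_mem (pow_mem hx3 b) hn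
    obtain ⟨u, hu, k, hk⟩ := exists_mul_pow ((R.N_eq T).ge hvN)
    obtain ⟨a, ha, hσe⟩ := W.we
    set πM := QuotientGroup.mk' M
    have h3 : πM (σ v) = πM v := QuotientGroup.eq.2 (hDM (QuotientGroup.eq.1 hfix))
    rw [hk, map_mul σ, map_pow σ, hσe, map_mul πM, map_mul πM, map_pow πM, map_mul πM,
      show πM a = 1 from (QuotientGroup.eq_one_iff _).2 (R.A_le_M ha),
      show πM (σ u) = 1 from (QuotientGroup.eq_one_iff _).2 (hMk σ u hu),
      show πM u = 1 from (QuotientGroup.eq_one_iff _).2 hu, mul_one, mul_one, mul_one, map_pow πM, map_pow πM,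
      ← pow_mul] at h3
    have he3 : e ^ 3 = 1 := R.exp e R.eE
    have h4 := cast_eq_of_pow R.eM (by rw [he3]; exact one_mem _) h3
    push_cast [hi.1] at h4
    obtain ⟨b, rfl⟩ := (ZMod.natCast_eq_zero_iff k 3).1 (by
      exact neg_one_three.2.2.1 _ h4)
    rw [hk, pow_mul, he3, one_pow, one_mul]
    exact hu
  have hsplit : ∀ g : S, ∃ y0 ∈ Y, ∃ k : ℕ, g = l ^ k * y0 := fun g => by
    refine exists_mul_pow ?_
    have hu : g * (σ g)⁻¹ ∈ Y := MonoidHom.mem_ker.2 (by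
      show π (σ (g * (σ g)⁻¹)) * π (g * (σ g)⁻¹) = 1
      rw [map_mul σ, map_inv σ, map_mul π, map_inv π, hsq, map_mul π, map_inv π]
      group)
    have hMY : M ≤ Y ⊔ zpowers l := hMD.ge.trans (sup_le_sup_right hDY _)
    have h2 : g ^ 2 ∈ Y ⊔ zpowers l := by
      have h := (Y ⊔ zpowers l).mul_mem (mem_sup_left hu) (hMY (hσM g))
      rwa [← mul_assoc, inv_mul_cancel_right, ← pow_two] at h
    obtain ⟨k, hk⟩ := hS g
    have hodd : ∃ b, g = (g ^ 2) ^ b := by
      obtain ⟨b, hb⟩ : ∃ b, 3 ^ k + 1 = 2 * b := by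
        obtain ⟨b, hb⟩ : Odd (3 ^ k) := Odd.pow (by decide)
        exact ⟨b + 1, by omega⟩
      exact ⟨b, by rw [← pow_mul, ← hb, pow_succ, hk, one_mul]⟩
    obtain ⟨b, hb⟩ := hodd
    rw [hb]
    exact pow_mem h2 b
  have hYk : ∀ τ ∈ F.autGroup S, ∀ v ∈ Y, τ v ∈ Y := fun τ hτ v hv => MonoidHom.mem_ker.2 (by
    show π (σ (τ v)) * π (τ v) = 1
    rw [hcomm τ hτ v, ← map_mul, ← map_mul τ]
    exact (QuotientGroup.eq_one_iff _).2 (hDk τ _ (hYmem.1 hv)))
  set πY := QuotientGroup.mk' Y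
  have hlfixY : ∀ τ : MulAut S, πY (τ l) = πY l := fun τ => QuotientGroup.eq.2 (hDY (QuotientGroup.eq.1 (hlfix τ)))
  have hinv : ∀ τ ∈ F.autGroup S, ∀ g, τ g * g ∈ D → g ∈ Y := fun τ hτ g hg => by
    obtain ⟨y0, hy0, k, rfl⟩ := hsplit g
    have h1 : πY (τ (l ^ k * y0) * (l ^ k * y0)) = 1 := (QuotientGroup.eq_one_iff _).2 (hDY hg)
    rw [map_mul, map_mul τ, map_mul πY, map_mul πY, show πY (τ y0) = 1 from
      (QuotientGroup.eq_one_iff _).2 (hYk τ hτ y0 hy0), show πY y0 = 1 from (QuotientGroup.eq_one_iff _).2 hy0,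
      mul_one, mul_one, map_pow τ, map_pow πY, hlfixY, map_pow] at h1
    have h2 : (πY l ^ k) ^ 3 = 1 := by
      rw [← pow_mul, mul_comm, pow_mul, ← map_pow πY, R.exp l (R.A_le_E W.lA), map_one, one_pow]
    rw [pow_succ, pow_two, h1, one_mul] at h2
    exact Y.mul_mem ((QuotientGroup.eq_one_iff _).1 (by rw [← map_pow] at h2; exact h2)) hy0
  refine false_of_sites hS hF hhyp Y (fun u v => hDY (hcomD u v)) hYl (fun τ hτ g => ?_)
    (fun Q hQ hQY α hα g hg q hq => ?_)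
  · obtain ⟨y0, hy0, k, rfl⟩ := hsplit g
    refine (QuotientGroup.eq_one_iff _).1 (?_ : πY _ = 1)
    rw [map_mul, map_inv, map_mul τ, map_mul πY, map_mul πY, show πY (τ y0) = 1 from
      (QuotientGroup.eq_one_iff _).2 (hYk τ hτ y0 hy0), show πY y0 = 1 from (QuotientGroup.eq_one_iff _).2 hy0,
      mul_one, mul_one, map_pow τ, map_pow πY, hlfixY, map_pow, mul_inv_cancel]
  -- the sites
  have hQS := hQ.1.1
  haveI := finite_of_le hQS
  set Q' := Q.subgroupOf S with hQ'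
  have hQlt : Q' ≠ ⊤ := fun e' => (EssentialGen.lt_of_essential hS hF hQ).not_ge fun v hv =>
    (e'.ge (mem_top (⟨v, hv⟩ : S)) : (⟨v, hv⟩ : S) ∈ Q')
  obtain ⟨k, hk⟩ := exists_pow hS Q'
  have hk4 : k ≤ 4 := by
    have h1 := card_le_card_group Q'
    rw [hk, T.card, Nat.pow_le_pow_iff_right (by norm_num : 1 < 3)] at h1
    by_contra h
    exact hQlt (eq_top_of_card_eq _ (by rw [hk, T.card, show k = 5 by omega]))
  have hk2 : 2 ≤ k := by
    by_contra h
    have hZQ : center S = Q' := eq_of_le_of_card_ge (center_le_of_centric hQ.1) (by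
      rw [hk, hZ]
      exact (Nat.pow_le_pow_right (by norm_num) (show k ≤ 1 by omega)).trans (pow_one 3).le)
    exact hQlt (eq_top_iff.2 fun v _ => self_of_centric hQ.1 fun b hb => mem_center_iff.1 (hZQ.ge hb) v)
  have hcQ : Nat.card Q = 3 ^ k := (card_subgroupOf_eq hQS).symm.trans hk
  have hw : autFun α (g * q * g⁻¹ * q⁻¹) ∈ Q :=
    autFun_mem α (Q.mul_mem (conj_mem_of_mem_normalizer hg.2 hq) (Q.inv_mem hq))
  rcases (show k = 2 ∨ k = 3 ∨ k = 4 by omega) with rfl | rfl | rfl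
  · exfalso
    obtain ⟨⟨x0, H0⟩, -, -⟩ := max5_of_pearl hS hF T hp2 hQ hcQ
    have hle : L S 1 ≤ D := by
      rw [show L S 1 = ⁅(⊤ : Subgroup S), ⊤⁆ from (top_lowerCentralSeries_one (G := S)).trans (commutator_def S)]
      exact commutator_le.2 fun u _ v _ => hcomD u v
    have h1 := card_le_of_le hle
    rw [H0.card1, hDc] at h1
    norm_num at h1
  · by_cases habQ : ∀ a ∈ Q, ∀ b ∈ Q, a * b = b * a
    · obtain ⟨A2, M2, e2, x2, R2⟩ := exists_tri hS hF T hQ habQ hcQ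
      obtain ⟨σ2, hσ2, l2, i2, ν2, m2, -, -, hplane⟩ := exists_torus_abelian hS hF T hQ habQ hcQ R2 hμ
      set w : S := ⟨_, hQS hw⟩
      have h1 := hplane neg_one_three.2.1.2 α hα g hg q hq w rfl
      rw [show (-1 : ZMod 3).val = 2 from rfl] at h1
      refine ⟨w, hinv σ2 hσ2 w ?_, rfl⟩
      rw [h1, ← pow_succ, show w ^ (2 + 1) = 1 from Subtype.ext
        (exp_of_essential hS hF hQ habQ (Or.inr hcQ) _ hw)]
      exact one_mem _
    exfalso
    push Not at habQ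
    have hMQ : M ≤ Q' := fun v hv => by
      refine (le_of_central_step hS hQ (R := M.map S.subtype) (Z := (center S).map S.subtype)
        (map_subtype_le _) (fun g hg => ?_) ?_ (fun α hα z hz => ?_) ?_ ⟨v, hv, rfl⟩ : (v : Ω) ∈ Q)
      · haveI : Finite (M.map S.subtype) := finite_of_le (map_subtype_le _)
        refine mem_normalizer_of_maps_finite ?_
        rintro _ ⟨w, hw, rfl⟩
        exact ⟨_, R.normalM.conj_mem w hw ⟨g, hg⟩, rfl⟩
      · rintro _ ⟨z, hz, rfl⟩ g hg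
        exact congrArg Subtype.val (mem_center_iff.1 hz ⟨g, hg⟩)
      · obtain ⟨w, hw, ew⟩ := hz
        exact ⟨_, center_keep T hQ.1 habQ (Or.inl hcQ) α
          ⟨w, (show (w : Ω) ∈ Q by rw [show (w : Ω) = z from ew]; exact z.2)⟩ hw, by
          show ((actHom hQS α _ : S) : Ω) = _
          rw [coe_actHom, ← autFun_apply α z]
          exact congrArg (autFun α) ew⟩
      · rintro _ ⟨w, hw, rfl⟩ g hg
        refine ⟨(⟨g, hg⟩ : S)⁻¹ * (w * ⟨g, hg⟩ * w⁻¹), ?_, by simp⟩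
        show (⟨g, hg⟩ : S)⁻¹ * (w * ⟨g, hg⟩ * w⁻¹) ∈ center S
        have h1 := (inferInstance : (center S).Normal).conj_mem _ (hCZ.le (hM0 w hw ⟨g, hg⟩)) (⟨g, hg⟩ : S)⁻¹
        rw [commutatorElement_def] at h1
        convert h1 using 1
        group
    have hMeq : M = Q' := eq_of_le_of_card_ge hMQ (by rw [hk, R.cardM])
    obtain ⟨a, ha, b, hb, hne⟩ := habQ
    exact hne (congrArg Subtype.val (R.commM T (hMeq.ge (show (⟨a, hQS ha⟩ : S) ∈ Q' from ha))
      (hMeq.ge (show (⟨b, hQS hb⟩ : S) ∈ Q' from hb))).eq)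
  -- order `81`
  obtain ⟨a0, ha0, b0, hb0, hne⟩ := T.not_comm hk
  haveI hQn : Q'.Normal := normal_of_index_eq_minFac_card (by
    have h := Q'.card_mul_index
    rw [hk, T.card, pow_succ 3 4] at h
    rw [Nat.eq_of_mul_eq_mul_left (pow_pos (by norm_num) 4) h, T.card, Nat.pow_minFac (by norm_num),
      (Nat.prime_three).minFac_eq])
  have hkc := fun α v hv => center_keep T hQ.1
    ⟨(a0 : Ω), ha0, (b0 : Ω), hb0, fun h => hne (Subtype.ext h)⟩ (Or.inr hcQ) α v hv
  have hnQ : ∃ a b : Q, a * b ≠ b * a :=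
    ⟨⟨(a0 : Ω), ha0⟩, ⟨(b0 : Ω), hb0⟩, fun h => hne (Subtype.ext (congrArg Subtype.val h :))⟩
  have hDQ : D ≤ Q' := by
    refine sup_le (hCZ.le.trans (center_le_of_centric hQ.1)) (zpowers_le.2 ?_)
    exact comm_mem_of_step hS le_top (by rw [card_top, T.card, hk]; norm_num) e (mem_top x)
  have hMQ : M ≤ Q' := fun v hv => by
    refine (le_of_central_step hS hQ (R := M.map S.subtype) (Z := (center S).map S.subtype)
      (map_subtype_le _) (fun g hg => ?_) ?_ (fun α hα z hz => ?_) ?_ ⟨v, hv, rfl⟩ : (v : Ω) ∈ Q)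
    · haveI : Finite (M.map S.subtype) := finite_of_le (map_subtype_le _)
      refine mem_normalizer_of_maps_finite ?_
      rintro _ ⟨w, hw, rfl⟩
      exact ⟨_, R.normalM.conj_mem w hw ⟨g, hg⟩, rfl⟩
    · rintro _ ⟨z, hz, rfl⟩ g hg
      exact congrArg Subtype.val (mem_center_iff.1 hz ⟨g, hg⟩)
    · obtain ⟨w, hw, ew⟩ := hz
      exact ⟨_, hkc α ⟨w, (show (w : Ω) ∈ Q by rw [show (w : Ω) = z from ew]; exact z.2)⟩ hw, by
        show ((actHom hQS α _ : S) : Ω) = _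
        rw [coe_actHom, ← autFun_apply α z]
        exact congrArg (autFun α) ew⟩
    · rintro _ ⟨w, hw, rfl⟩ g hg
      refine ⟨(⟨g, hg⟩ : S)⁻¹ * (w * ⟨g, hg⟩ * w⁻¹), ?_, by simp⟩
      show (⟨g, hg⟩ : S)⁻¹ * (w * ⟨g, hg⟩ * w⁻¹) ∈ center S
      have h1 := (inferInstance : (center S).Normal).conj_mem _ (hCZ.le (hM0 w hw ⟨g, hg⟩)) (⟨g, hg⟩ : S)⁻¹
      rw [commutatorElement_def] at h1
      convert h1 using 1
      group
  let ι : ∀ w : S, w ∈ Q' → Q := fun w hw => ⟨(w : Ω), hw⟩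
  set gS : S := ⟨g, hg.1⟩
  set qS : S := ⟨q, hQS hq⟩
  have hqQ : qS ∈ Q' := hq
  set dQ : Q := ι ⁅gS, qS⁆ (hDQ (hcomD gS qS))
  have hdeq : autFun α (g * q * g⁻¹ * q⁻¹) = ((α dQ : Q) : Ω) := by
    rw [← autFun_apply α dQ]
    exact congrArg (autFun α) (map_commutatorElement S.subtype gS qS).symm
  rw [hdeq]
  have hkeepc : ∀ β : MulAut Q, ∀ z ∈ center Q, β z ∈ center Q := fun β z hz => mem_center_iff.2 fun w => by
    have h := congrArg β (mem_center_iff.1 hz (β.symm w))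
    simpa using h
  by_cases hQy : ∀ v ∈ Q', Commute y v
  · have hcen : center Q = pull Q D := center_eq_of_nonab (p := 3) (hS.to_le hQS) hnQ
      (fun w hw w' => Subtype.ext (congrArg Subtype.val
        (hDCd _ ((mem_pull hQS).1 hw) ⟨(w' : Ω), hQS w'.2⟩ (hCdmem.2 (hQy _ w'.2))).eq :))
      (by rw [card_pull hQS hDQ, hDc, hcQ, ← pow_add])
    have h1 : α dQ ∈ center Q := hkeepc α dQ (hcen.ge ((mem_pull hQS).2 (hcomD gS qS)))
    exact ⟨_, hDY ((mem_pull hQS).1 (hcen.le h1)), rfl⟩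
  push Not at hQy
  obtain ⟨g0, hg0Q, hg0⟩ := hQy
  have hg0M : g0 ∉ M := fun h => hg0 (R.commM T hyM h)
  have hQeq : M ⊔ zpowers g0 = Q' := sup_eq_of_between hS hMQ (by rw [hk, R.cardM]; norm_num) hg0Q hg0M
  set ZQ := M ⊓ centralizer ({g0} : Set S)
  have hZQM : ZQ ≤ M := inf_le_left
  have hCZQ : C ≤ ZQ := fun z hz => ⟨(R.C_le_A T).trans R.A_le_M hz, mem_centralizer_singleton_iff.2
    (mem_center_iff.1 (hCZ.le hz) g0).symm⟩
  haveI hZQn : ZQ.Normal := ⟨fun w hw v => by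
    have h := ZQ.mul_mem (inv_mem (hCZQ (hM0 w (hZQM hw) v)) : ⁅w, v⁆⁻¹ ∈ ZQ) hw
    rwa [commutatorElement_inv, commutatorElement_def, inv_mul_cancel_right] at h⟩
  have hyZQ : y ∉ ZQ := fun h => hg0 (mem_centralizer_singleton_iff.1 h.2)
  have hZQc : Nat.card ZQ = 3 ^ 2 := by
    let f0 : M →* center S := MonoidHom.mk' (fun v => ⟨⁅(v : S), g0⁆, hCZ.le (hM0 v v.2 g0)⟩) fun u v =>
      Subtype.ext (by
        show ⁅(u : S) * v, g0⁆ = ⁅(u : S), g0⁆ * ⁅(v : S), g0⁆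
        rw [Cfsg.Lib.PGroups.mul_left_commutator, mem_center_iff.1 (hCZ.le (hM0 v v.2 g0)) u,
          mul_inv_cancel_right, mem_center_iff.1 (hCZ.le (hM0 v v.2 g0)) ⁅(u : S), g0⁆])
    have hker : Nat.card f0.ker = Nat.card ZQ := Nat.card_congr
      { toFun := fun v => ⟨((v : M) : S), (v : M).2, mem_centralizer_singleton_iff.2
          (commutatorElement_eq_one_iff_mul_comm.1 (congrArg Subtype.val (MonoidHom.mem_ker.1 v.2)))⟩
        invFun := fun v => ⟨⟨(v : S), v.2.1⟩, MonoidHom.mem_ker.2 (Subtype.ext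
          (commutatorElement_eq_one_iff_mul_comm.2 (mem_centralizer_singleton_iff.1 v.2.2)))⟩
        left_inv := fun v => rfl
        right_inv := fun v => rfl }
    have h := f0.ker.card_mul_index
    rw [index_ker, hker, R.cardM] at h
    have h1 : Nat.card f0.range ≤ 3 := (card_le_card_group f0.range).trans hZ.le
    have h2 : Nat.card ZQ < 3 ^ 3 := by
      refine lt_of_le_of_ne (R.cardM ▸ card_le_of_le hZQM) fun e' => hyZQ ?_
      exact (eq_of_le_of_card_ge hZQM (by rw [e', R.cardM])).ge hyM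
    obtain ⟨r, hr⟩ := exists_pow hS ZQ
    rw [hr] at h h2 ⊢
    have hr3 : r < 3 := (Nat.pow_lt_pow_iff_right (by norm_num : 1 < 3)).1 h2
    interval_cases r <;> omega
  have hMZ : ZQ ⊔ zpowers y = M := sup_eq_of_between hS hZQM (by rw [R.cardM, hZQc]; norm_num) hyM hyZQ
  have hZQQ : ZQ ≤ Q' := hZQM.trans hMQ
  have hcen : center Q = pull Q ZQ := center_eq_of_nonab (p := 3) (hS.to_le hQS) hnQ
    (fun w hw w' => by
      refine Subtype.ext (congrArg Subtype.val (?_ : Commute (⟨(w : Ω), hQS w.2⟩ : S) ⟨(w' : Ω), hQS w'.2⟩).eq :)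
      obtain ⟨u, hu, j, hj⟩ := exists_mul_pow (hQeq.ge (show (⟨(w' : Ω), hQS w'.2⟩ : S) ∈ Q' from w'.2))
      rw [hj]
      have hw' := (mem_pull hQS).1 hw
      exact ((show Commute _ g0 from mem_centralizer_singleton_iff.1 hw'.2).pow_right j).mul_right
        (R.commM T hw'.1 hu))
    (by rw [card_pull hQS hZQQ, hZQc, hcQ, ← pow_add])
  obtain ⟨h3Q, habQ⟩ := cube_mem_center hnQ (by
    have h1 := (center Q).card_mul_index
    rw [hcQ, hcen, card_pull hQS hZQQ, hZQc] at h1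
    rw [hcen]
    omega)
  have hDZ : ∀ d ∈ D, d ∈ ZQ → d ∈ C := fun d hd hdz => by
    by_contra hdC
    exact hyZQ (((sup_eq_of_between hS (le_sup_left : C ≤ D) (by rw [hDc, R.cardC T]; norm_num) hd hdC).ge.trans
      (sup_le hCZQ (zpowers_le.2 hdz))) (mem_sup_right (mem_zpowers y)))
  set CQ := pull Q C
  have hCQc : CQ ≤ center Q := fun v hv => mem_center_iff.2 fun w => Subtype.ext
    (congrArg Subtype.val (mem_center_iff.1 (hCZ.le ((mem_pull hQS).1 hv)) ⟨(w : Ω), hQS w.2⟩) :)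
  haveI : CQ.Normal := ⟨fun v hv w => by
    rw [mem_center_iff.1 (hCQc hv) w, mul_inv_cancel_right]; exact hv⟩
  set πC := QuotientGroup.mk' CQ
  have hCk' : ∀ β : MulAut Q, ∀ z ∈ CQ, β z ∈ CQ := fun β z hz => (mem_pull hQS).2 (hCZ.ge
    (hkc β ⟨⟨(z : Ω), hQS z.2⟩, z.2⟩ (hCZ.le ((mem_pull hQS).1 hz)) :))
  have hCC : ∀ a b : Q, Commute (πC a) (πC b) := commute_mk fun a b => (mem_pull hQS).2 (by
    have h1 : (⟨((⁅a, b⁆ : Q) : Ω), hQS ⁅a, b⁆.2⟩ : S) = ⁅(⟨(a : Ω), hQS a.2⟩ : S), ⟨(b : Ω), hQS b.2⟩⁆ :=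
      Subtype.ext (by simp [commutatorElement_def])
    rw [h1]
    exact hDZ _ (hcomD _ _) (h1 ▸ (mem_pull hQS).1 (hcen.le (habQ a b))))
  have hcomQ : ∀ a b : Q ⧸ CQ, Commute a b := fun a b => by
    obtain ⟨a, rfl⟩ := QuotientGroup.mk'_surjective CQ a
    obtain ⟨b, rfl⟩ := QuotientGroup.mk'_surjective CQ b
    exact hCC a b
  -- cases on `M`
  by_cases hinvM : ∀ β ∈ F.autGroup Q, ∀ v : Q', (v : S) ∈ M → actHom hQS β v ∈ M
  · exfalso
    have hfl : SFlag 3 Q (ofList [⊥, C, ZQ, M, Q']) 4 :=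
      { bot := rfl
        top := rfl
        normal := fun i hi => by
          interval_cases i <;> simp only [ofList, List.getD_cons_zero, List.getD_cons_succ] <;> infer_instance
        mono := fun i hi => by
          interval_cases i
          · exact bot_le
          · exact hCZQ
          · exact hZQM
          · exact hMQ
        card := fun i hi => by
          interval_cases i <;> simp only [ofList, List.getD_cons_zero, List.getD_cons_succ, Nat.reduceAdd]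
          · rw [R.cardC T, card_bot]
          · rw [hZQc, R.cardC T]; norm_num
          · rw [R.cardM, hZQc]; norm_num
          · rw [hk, R.cardM]; norm_num }
    exact false_of_flag hS hF hQ (hfl.chain hQS) (hfl.flag hQS) fun β hβ => hfl.keep hQS fun i hi v hv => by
      interval_cases i
      · simp only [ofList, List.getD_cons_zero, mem_bot] at hv ⊢
        rw [show v = 1 from Subtype.ext hv, map_one]
      · exact hCZ.ge (hkc β v (hCZ.le hv))
      · exact ((mem_pull hQS).1 (hcen.le (hkeepc β (ι v v.2) (hcen.ge ((mem_pull hQS).2 hv)))) :)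
      · exact hinvM β hβ v hv
  push Not at hinvM
  obtain ⟨α1, hα1, v, hv, hk'⟩ := hinvM
  set kS := actHom hQS α1 v
  have hkQ : kS ∈ Q' := actHom_mem hQS α1 v
  have hmove : ∀ s : S, s ∉ Q' → ∀ w ∈ Q', w ∉ M → ⁅s, w⁆ ∉ ZQ := fun s hs w hwQ hwM hz => hwM (hZ2 w fun v => by
    have h1 : ⁅s, w⁆ ∈ C := hDZ _ (hcomD s w) hz
    have hQw : M ⊔ zpowers w = Q' := sup_eq_of_between hS hMQ (by rw [hk, R.cardM]; norm_num) hwQ hwM
    have htop : Q' ⊔ zpowers s = ⊤ :=
      sup_eq_of_between hS le_top (by rw [card_top, T.card, hk]; norm_num) (mem_top s) hs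
    obtain ⟨w1, hw1, j, rfl⟩ := exists_mul_pow (htop.ge (mem_top v))
    obtain ⟨u1, hu1, k1, rfl⟩ := exists_mul_pow (hQw.ge hw1)
    rw [map_mul, map_mul, map_pow, map_pow]
    exact ((hcomm0 h1).symm.pow_right j).mul_right
      (((Commute.refl _).pow_right k1).mul_right (hcomm0 (hM0 u1 hu1 w)).symm))
  obtain ⟨s, -, hs⟩ := SetLike.exists_of_lt (lt_top_iff_ne_top.2 hQlt)
  have hsn : (s : Ω) ∈ Subgroup.normalizer (Q : Set Ω) := (mem_normalizerIn_of_normal hQS s.2).2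
  set mS := ⁅s, kS⁆
  have hmD : mS ∈ D := hcomD s kS
  have hmM : mS ∈ M := hDM hmD
  have hmZ : mS ∉ ZQ := hmove s hs kS hkQ hk'
  have hvZ : (v : S) ∉ ZQ := fun h => hk' (hZQM
    ((mem_pull hQS).1 (hcen.le (hkeepc α1 (ι v v.2) (hcen.ge ((mem_pull hQS).2 h)))) :))
  set t := conjAut Q (s : Ω) hsn
  have ht : t ∈ F.autGroup Q := autInducedBy_le hQS (conjAut_mem_autInducedBy hsn s.2)
  have hcmem : ∀ q : Q, (⟨(q : Ω), hQS q.2⟩ : S) ∈ ZQ → q ∈ center Q := fun q hq => hcen.ge ((mem_pull hQS).2 hq)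
  -- the automorphisms fixing the centre over `C`
  let Hs : Subgroup (MulAut Q) :=
    { carrier := {β | β ∈ F.autGroup Q ∧ (∀ z ∈ center Q, β z * z⁻¹ ∈ CQ) ∧ ∀ z ∈ CQ, β z = z}
      one_mem' := ⟨one_mem _, fun z _ => by simp, fun z _ => rfl⟩
      mul_mem' := fun {β γ} hb hc => ⟨mul_mem hb.1 hc.1, fun z hz => by
        have h := CQ.mul_mem (hb.2.1 _ (hkeepc γ z hz)) (hc.2.1 z hz)
        rwa [mul_assoc, inv_mul_cancel_left] at h, fun z hz => by
        rw [MulAut.mul_apply, hc.2.2 z hz, hb.2.2 z hz]⟩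
      inv_mem' := fun {β} hb => ⟨inv_mem hb.1, fun z hz => by
        have h := CQ.inv_mem (hb.2.1 _ (hkeepc β⁻¹ z hz))
        rwa [MulAut.apply_inv_self, mul_inv_rev, inv_inv] at h, fun z hz => by
        conv_lhs => rw [← hb.2.2 z hz, MulAut.inv_apply_self]⟩ }
  have hHc : ∀ β ∈ Hs, ∀ γ ∈ F.autGroup Q, γ * β * γ⁻¹ ∈ Hs := fun β hb γ hγ =>
    ⟨mul_mem (mul_mem hγ hb.1) (inv_mem hγ), fun z hz => by
      have h := hCk' γ _ (hb.2.1 _ (hkeepc γ⁻¹ z hz))
      rwa [map_mul, map_inv, MulAut.apply_inv_self] at h, fun z hz => by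
      show γ (β (γ⁻¹ z)) = z
      rw [hb.2.2 _ (hCk' γ⁻¹ z hz), MulAut.apply_inv_self]⟩
  have htconj : ∀ (s : S) (hsn : (s : Ω) ∈ Subgroup.normalizer (Q : Set Ω)) (w : Q),
      (⟨((conjAut Q (s : Ω) hsn w * w⁻¹ : Q) : Ω), hQS (conjAut Q (s : Ω) hsn w * w⁻¹).2⟩ : S) =
        ⁅s, ⟨(w : Ω), hQS w.2⟩⁆ := fun s hsn w =>
    Subtype.ext (by simp [commutatorElement_def, conjAut_apply])
  have htH : t ∈ Hs := ⟨ht, fun z hz => (mem_pull hQS).2 (by
      rw [htconj s hsn z, ← commutatorElement_inv]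
      exact inv_mem (hM0 _ (hZQM ((mem_pull hQS).1 (hcen.le hz))) s)),
    fun z hz => Subtype.ext (by
      rw [conjAut_apply]
      show ((s * ⟨(z : Ω), hQS z.2⟩ * s⁻¹ : S) : Ω) = _
      rw [mem_center_iff.1 (hCZ.le ((mem_pull hQS).1 hz)) s, mul_inv_cancel_right])⟩
  set πQ := QuotientGroup.mk' (center Q)
  have hCQ := commute_mk habQ
  set kQ : Q := ι kS hkQ
  set mQ : Q := ι mS (hMQ hmM)
  set vQ : Q := ι v v.2
  have hαv : α1 vQ = kQ := Subtype.ext (by
    rw [← autFun_apply α1]; exact (coe_actHom hQS α1 v).symm)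
  have htv : t vQ * vQ⁻¹ ∈ center Q := hcmem _ (by
    rw [htconj s hsn vQ, ← commutatorElement_inv]
    exact inv_mem (hCZQ (hM0 _ hv s)))
  set xQ : Q := α1⁻¹ mQ
  set xS : S := ⟨(xQ : Ω), hQS xQ.2⟩
  have hxM : xS ∉ M := fun hx => by
    have h1 : Commute xQ vQ := Subtype.ext (congrArg Subtype.val (R.commM T hx hv).eq :)
    have h2 := h1.map α1
    rw [MulAut.apply_inv_self, hαv] at h2
    refine hmZ ⟨hmM, mem_centralizer_singleton_iff.2 ?_⟩
    have hk2 : M ⊔ zpowers kS = Q' := sup_eq_of_between hS hMQ (by rw [hk, R.cardM]; norm_num) hkQ hk'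
    obtain ⟨u1, hu1, j, hj⟩ := exists_mul_pow (hk2.ge hg0Q)
    rw [hj]
    exact (((show Commute mS kS from Subtype.ext (congrArg Subtype.val h2.eq :)).pow_right j).mul_right
      (R.commM T hmM hu1)).eq
  obtain ⟨z, hz, w, hw'⟩ := exists_mul_pow ((sup_eq_of_between hS hZQM (by rw [R.cardM, hZQc]; norm_num) hv hvZ :
    ZQ ⊔ zpowers (v : S) = M).ge (hDM (hcomD s xS)))
  have hw0 : ¬ 3 ∣ w := fun ⟨d, hd⟩ => hmove s hs xS xQ.2 hxM (by
    rw [hw', hd, pow_mul]
    exact mul_mem (pow_mem (pow_mem_of_card hZQM (by rw [R.cardM, hZQc]; norm_num) hv) d) hz)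
  set zQ : Q := ι z (hZQQ hz)
  have htx : t xQ = vQ ^ w * zQ * xQ := Subtype.ext (by
    rw [conjAut_apply]
    have h1 : (s * xS * s⁻¹ : S) = (v : S) ^ w * z * xS := by
      rw [← hw', commutatorElement_def, inv_mul_cancel_right]
    exact (congrArg Subtype.val h1 :))
  obtain ⟨τ, hτ, hτinv⟩ := exists_tau habQ h3Q (H := Hs) (fun β _ => hkeepc β)
    htH (hHc t htH α1 hα1) (m := mQ) (k := kQ) (t1 := α1 * t * α1⁻¹)
    (fun q => by
      have hkM : M ⊔ zpowers kS = Q' := sup_eq_of_between hS hMQ (by rw [hk, R.cardM]; norm_num) hkQ hk'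
      obtain ⟨u1, hu1, j, hq⟩ := exists_mul_pow (hkM.ge (show (⟨(q : Ω), hQS q.2⟩ : S) ∈ Q' from q.2))
      obtain ⟨z', hz', i', hu'⟩ := exists_mul_pow ((sup_eq_of_between hS hZQM (by rw [R.cardM, hZQc]; norm_num)
        hmM hmZ : ZQ ⊔ zpowers mS = M).ge hu1)
      refine ⟨i', j, (QuotientGroup.eq_one_iff _).1 ?_⟩
      show πQ _ = 1
      have hq' : q = kQ ^ j * (mQ ^ i' * ι z' (hZQQ hz')) := Subtype.ext (by
        rw [hu'] at hq
        exact (congrArg Subtype.val hq :))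
      rw [hq', map_mul, map_inv, map_mul, map_mul, map_mul,
        show πQ (ι z' (hZQQ hz')) = 1 from (QuotientGroup.eq_one_iff _).2 (hcmem _ hz'), mul_one, mul_inv_eq_one]
      exact (hCQ _ _).eq)
    (hcmem _ (by
      rw [htconj s hsn mQ, ← commutatorElement_inv]
      exact inv_mem (hCZQ (hM0 _ hmM s))))
    (by
      have h1 : t kQ = mQ * kQ := Subtype.ext (by
        rw [conjAut_apply]
        exact (congrArg Subtype.val
          (show s * kS * s⁻¹ = mS * kS by simp only [mS, commutatorElement_def]; group) :))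
      rw [h1, show mQ * kQ * (kQ * mQ)⁻¹ = ⁅mQ, kQ⁆ by rw [commutatorElement_def]; group]
      exact habQ _ _)
    (by
      show α1 (t (α1⁻¹ kQ)) * kQ⁻¹ ∈ _
      rw [show α1⁻¹ kQ = vQ by rw [← hαv, MulAut.inv_apply_self], ← hαv, ← map_inv, ← map_mul]
      exact hkeepc α1 _ htv)
    hw0
    (by
      show α1 (t xQ) * _ ∈ _
      rw [htx, map_mul, map_mul, map_pow, hαv, MulAut.apply_inv_self]
      refine (QuotientGroup.eq_one_iff _).1 ?_
      show πQ _ = 1
      rw [map_mul, map_inv, map_mul, map_mul, map_mul, show πQ (α1 zQ) = 1 from (QuotientGroup.eq_one_iff _).2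
        (hkeepc α1 _ (hcmem zQ hz)), mul_one, mul_inv_eq_one]
      exact (hCQ _ _).eq)
  -- the inversion commutes with the automizer over `C`
  have hπinv : ∀ u : Q, πQ (τ u) = (πQ u)⁻¹ := fun u => by
    have h : πQ (τ u * u) = 1 := (QuotientGroup.eq_one_iff _).2 (hτinv u)
    rw [map_mul] at h
    exact eq_inv_of_mul_eq_one_left h
  have hchain : IsChain (ofList [⊥, CQ, center Q, ⊤]) 3 := ⟨rfl, rfl, fun i hi => by
    interval_cases i
    · exact bot_le
    · exact hCQc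
    · exact le_top⟩
  have hkeepQ : ∀ β ∈ F.autGroup Q, Keep (ofList [⊥, CQ, center Q, ⊤]) 3 β := fun β _ i hi => by
    interval_cases i <;> intro w hw <;> simp only [ofList, List.getD_cons_zero, List.getD_cons_succ] at hw ⊢
    · rw [mem_bot] at hw ⊢; rw [hw, map_one]
    · exact hCk' β w hw
    · exact hkeepc β w hw
    · exact mem_top _
  obtain ⟨-, hfaQ, -⟩ := fullyNormalized_props hS hF hQ.2.1
  have hτc : ∀ β ∈ F.autGroup Q, ∀ u, πC (β (τ u)) = πC (τ (β u)) := by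
    intro β hβ u
    set ρ := β * τ * β⁻¹ * τ⁻¹
    have hρH : ρ ∈ Hs := mul_mem (hHc τ hτ β hβ) (inv_mem hτ)
    have htriv : Triv (ofList [⊥, CQ, center Q, ⊤]) 3 ρ := fun i hi w hw => by
      interval_cases i <;> simp only [ofList, List.getD_cons_zero, List.getD_cons_succ] at hw ⊢
      · rw [mem_bot, hρH.2.2 w hw, mul_inv_cancel]
      · exact hρH.2.1 w hw
      · refine (QuotientGroup.eq_one_iff _).1 ?_
        show πQ (β (τ (β⁻¹ (τ⁻¹ w))) * w⁻¹) = 1
        have h1 : πQ (β (τ (β⁻¹ (τ⁻¹ w)))) = πQ ((τ⁻¹ w)⁻¹) := by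
          rw [mk_apply_congr (hkeepc β) (show πQ (τ (β⁻¹ (τ⁻¹ w))) = πQ (β⁻¹ (τ⁻¹ w))⁻¹ by
            rw [hπinv, map_inv]), map_inv, MulAut.apply_inv_self]
        have h2 : πQ w = (πQ (τ⁻¹ w))⁻¹ := by rw [← hπinv, MulAut.apply_inv_self]
        rw [map_mul, h1, map_inv, map_inv, h2, inv_inv, inv_mul_cancel]
    obtain ⟨g', hg', eg⟩ := mem_autInducedBy.mp
      (mem_autS_of_triv_invariant hS hfaQ hchain hkeepQ hρH.1 htriv)
    have hgQ : (⟨g', hg'⟩ : S) ∈ Q' := by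
      by_contra hgn
      refine hmove _ hgn kS hkQ hk' ?_
      have h1 : ρ kQ * kQ⁻¹ ∈ center Q := htriv 2 (by norm_num) kQ (mem_top _)
      have h2 := (mem_pull hQS).1 (hcen.le h1)
      have h3 : ⁅(⟨g', hg'⟩ : S), kS⁆ = ⟨((ρ kQ * kQ⁻¹ : Q) : Ω), hQS (ρ kQ * kQ⁻¹).2⟩ := Subtype.ext (by
        show _ = ((ρ kQ : Q) : Ω) * (kS : Ω)⁻¹
        rw [eg kQ]
        simp [commutatorElement_def, kQ, ι])
      rwa [h3]
    have h1 : πC (ρ (τ (β u))) = πC (τ (β u)) := by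
      rw [show ρ (τ (β u)) = ⟨g', hgQ⟩ * τ (β u) * (⟨g', hgQ⟩ : Q)⁻¹ from Subtype.ext (eg _), map_mul, map_mul,
        map_inv, (hCC _ _).eq, mul_inv_cancel_right]
    rw [← h1]
    simp [ρ]
  -- the inverted part
  have hWd : ∀ (s1 : S), s1.1 ∈ Subgroup.normalizer (Q : Set Ω) → ∀ u : Q,
      ∀ hd : ⁅s1, (⟨(u : Ω), hQS u.2⟩ : S)⁆ ∈ Q', πC (τ (ι _ hd) * ι _ hd) = 1 := by
    intro s1 hs1 u hd
    set t1 := conjAut Q (s1 : Ω) hs1
    have e0 : ι _ hd = t1 u * u⁻¹ := Subtype.ext (congrArg Subtype.val (htconj s1 hs1 u).symm :)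
    have ht1 : t1 ∈ F.autGroup Q := autInducedBy_le hQS (conjAut_mem_autInducedBy hs1 s1.2)
    set z1 := τ u * u
    have hz1 : πC (t1 z1) = πC z1 := by
      have h2 := (mem_pull hQS).1 (hcen.le (hτinv u))
      have h : πC (t1 z1 * z1⁻¹) = 1 := (QuotientGroup.eq_one_iff _).2 ((mem_pull hQS).2 (by
        rw [htconj s1 hs1 z1, ← commutatorElement_inv]
        exact inv_mem (hM0 _ (hZQM h2) s1)))
      rwa [map_mul, map_inv, mul_inv_eq_one] at h
    rw [map_mul t1, map_mul πC, map_mul πC] at hz1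
    have key : ∀ P X Y U : Q ⧸ CQ, Commute X P → Commute U Y → P * X = Y * U → P * Y⁻¹ * (X * U⁻¹) = 1 :=
      fun P X Y U hPX hUY h => by
        have h1 : Y⁻¹ * X = U * P⁻¹ := by
          rw [inv_mul_eq_iff_eq_mul, ← mul_assoc, ← h, hPX.symm.eq, mul_inv_cancel_right]
        calc P * Y⁻¹ * (X * U⁻¹) = P * (Y⁻¹ * X) * U⁻¹ := by group
          _ = P * (P⁻¹ * U) * U⁻¹ := by
            rw [h1, show U * P⁻¹ = P⁻¹ * U from ((hcomQ U P).inv_right).eq]
          _ = 1 := by group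
    rw [e0, map_mul τ, map_inv τ, map_mul, map_mul πC, map_mul πC, map_inv, map_inv, ← hτc t1 ht1 u]
    exact key _ _ _ _ (hcomQ _ _) (hcomQ _ _) hz1
  have hWm : ∀ a b : Q, πC (τ a * a) = 1 → πC (τ b * b) = 1 → πC (τ (a * b) * (a * b)) = 1 := fun a b ha hb => by
    rw [map_mul τ, map_mul, map_mul, map_mul, Commute.mul_mul_mul_comm (hCC (τ b) a), ← map_mul, ← map_mul, ← map_mul,
      map_mul, ha, hb, one_mul]
  have hWk : ∀ β ∈ F.autGroup Q, ∀ a : Q, πC (τ a * a) = 1 → πC (τ (β a) * β a) = 1 := fun β hβ a ha => by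
    rw [map_mul, ← hτc β hβ a, ← map_mul, ← map_mul β]
    exact (QuotientGroup.eq_one_iff _).2 (hCk' β _ ((QuotientGroup.eq_one_iff _).1 ha))
  have hWC : ∀ a ∈ CQ, πC (τ a * a) = 1 := fun a ha =>
    (QuotientGroup.eq_one_iff _).2 (mul_mem (hCk' τ a ha) ha)
  have hWn : ∀ (a : Q) (n : ℕ), πC (τ a * a) = 1 → πC (τ (a ^ n) * a ^ n) = 1 := fun a n ha => by
    induction n with
    | zero => simp
    | succ n ih => rw [pow_succ]; exact hWm _ _ ih ha
  have hWM : ∀ (a : Q), (⟨(a : Ω), hQS a.2⟩ : S) ∈ M → πC (τ a * a) = 1 → (⟨(a : Ω), hQS a.2⟩ : S) ∈ D := by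
    intro a ha hWa
    obtain ⟨z1, hz1, j, hj⟩ := exists_mul_pow ((sup_eq_of_between hS hZQM (by rw [R.cardM, hZQc]; norm_num)
      hmM hmZ : ZQ ⊔ zpowers mS = M).ge ha)
    have hmW : πC (τ mQ * mQ) = 1 := hWd s hsn kQ (hMQ hmM)
    have ea : a = mQ ^ j * ι z1 (hZQQ hz1) := Subtype.ext (congrArg Subtype.val hj :)
    set zz := ι z1 (hZQQ hz1)
    have hWz : πC (τ zz * zz) = 1 := by
      have hminv : πC (τ (mQ ^ j)⁻¹ * (mQ ^ j)⁻¹) = 1 := by
        have h := hWn mQ j hmW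
        rw [map_mul] at h
        rw [map_inv τ, map_mul, map_inv, map_inv, ← mul_inv_rev, (hCC _ _).eq, h, inv_one]
      have := hWm _ _ hminv hWa
      rwa [ea, inv_mul_cancel_left] at this
    have hzc : πC (τ zz * zz⁻¹) = 1 :=
      (QuotientGroup.eq_one_iff _).2 ((hτ.2.1) zz (hcmem zz hz1))
    rw [map_mul, map_inv, mul_inv_eq_one] at hzc
    rw [map_mul, hzc, ← pow_two] at hWz
    have hz3 : πC zz ^ 3 = 1 := by
      rw [← map_pow]
      exact (QuotientGroup.eq_one_iff _).2 ((mem_pull hQS).2 (pow_mem_of_card hCZQ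
        (by rw [hZQc, R.cardC T]; norm_num) hz1))
    rw [pow_succ, hWz, one_mul] at hz3
    have hzC : z1 ∈ C := ((mem_pull hQS).1 ((QuotientGroup.eq_one_iff _).1 hz3) :)
    rw [hj]
    exact mul_mem (pow_mem hmD j) (mem_sup_left hzC)
  have hgn : (gS : Ω) ∈ Subgroup.normalizer (Q : Set Ω) := hg.2
  have hαd : πC (τ (α dQ) * α dQ) = 1 := hWk α hα dQ (hWd gS hgn ⟨q, hq⟩ _)
  -- `σ` on `Q`
  have hσQ : ∀ u ∈ Q', σ u ∈ Q' := fun u hu => by
    have h := Q'.mul_mem (hMQ (hσM u)) (Q'.inv_mem hu)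
    rwa [mul_inv_cancel_right] at h
  have hmσ : IsMap F Q (autFun σ) := ((isMap_autFun (le_refl S)).mpr hσ).mono hQS
  obtain ⟨σQ, hσQm, eσ⟩ := hmσ.exists_aut (eq_of_le_of_card_ge (IsMap.img_le_iff.2 fun u hu => by
    rw [autFun_apply_mem σ (hQS hu)]
    exact hσQ ⟨u, hQS hu⟩ hu) hmσ.card_img.ge)
  have e1 : ∀ u : Q, (⟨((σQ u : Q) : Ω), hQS (σQ u).2⟩ : S) = σ ⟨(u : Ω), hQS u.2⟩ := fun u => Subtype.ext (by
    show ((σQ u : Q) : Ω) = _
    rw [← autFun_apply σQ, eσ _ u.2, autFun_apply_mem σ (hQS u.2)])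
  set wQ := α dQ
  have h4 : πC (τ (σQ wQ * wQ) * (σQ wQ * wQ)) = 1 := hWm _ _ (hWk σQ hσQm wQ hαd) hαd
  have h5 : (⟨((σQ wQ * wQ : Q) : Ω), hQS (σQ wQ * wQ).2⟩ : S) = σ ⟨(wQ : Ω), hQS wQ.2⟩ * ⟨(wQ : Ω), hQS wQ.2⟩ := by
    rw [← e1 wQ]; rfl
  have h6 := hWM _ (h5 ▸ hσM _) h4
  rw [h5] at h6
  exact ⟨_, hYmem.2 h6, rfl⟩

end Cfsg.Lib.Fusion.OrderPFive
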